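import Cfsg.Agent.CharB.PSLMult.Lifts
import Mathlib.Tactic.FinCases

/-!
Alternating matrices as a module for the special linear group (helper74, for the multipliers of the
orthogonal groups).
-/

set_option autoImplicit false

namespace Cfsg.Agent.ClassMult

open Matrix Cfsg.Agent.CharB.PSLMult

universe v w

variable {ι : Type w} [Fintype ι] [DecidableEq ι] {F : Type v} [Field F]

/-- The alternating matrices. -/
def altM (ι : Type w) (F : Type v) [Field F] : AddSubgroup (Matrix ι ι F) where
  carrier := {X | (∀ i j, X j i = -X i j) ∧ ∀ i, X i i = 0}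
  zero_mem' := ⟨fun _ _ => by simp, fun _ => rfl⟩
  add_mem' {X Y} hX hY := ⟨fun i j => by simp [hX.1 i j, hY.1 i j]; ring,
    fun i => by simp [hX.2 i, hY.2 i]⟩
  neg_mem' {X} hX := ⟨fun i j => by simp [hX.1 i j], fun i => by simp [hX.2 i]⟩

theorem mem_altM {X : Matrix ι ι F} :
    X ∈ altM ι F ↔ (∀ i j, X j i = -X i j) ∧ ∀ i, X i i = 0 := Iff.rfl

/-- The basic alternating matrix. -/
def xm (i j : ι) (a : F) : Matrix ι ι F := Matrix.single i j a - Matrix.single j i a

omit [Fintype ι] in
theorem xm_mem (i j : ι) (a : F) : xm i j a ∈ altM ι F := by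
  refine ⟨fun p q => ?_, fun p => ?_⟩
  · simp only [xm, Matrix.sub_apply, Matrix.single_apply]
    rw [neg_sub, if_congr and_comm rfl rfl, if_congr (P := j = q ∧ i = p) and_comm rfl rfl]
  · simp only [xm, Matrix.sub_apply, Matrix.single_apply]
    rw [if_congr (P := j = p ∧ i = p) and_comm rfl rfl, sub_self]

/-- The basic alternating matrix as an element of `altM`. -/
def xA (i j : ι) (a : F) : altM ι F := ⟨xm i j a, xm_mem i j a⟩

omit [Fintype ι] in
theorem xm_swap (i j : ι) (a : F) : xm j i a = xm i j (-a) := by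
  ext x y
  simp only [xm, Matrix.sub_apply, Matrix.single_apply]
  split_ifs <;> ring

omit [Fintype ι] in
theorem xA_swap (i j : ι) (a : F) : xA j i a = xA i j (-a) := Subtype.ext (xm_swap i j a)

omit [Fintype ι] in
theorem xA_add (i j : ι) (a b : F) : xA i j (a + b) = xA i j a + xA i j b := by
  apply Subtype.ext
  simp [xA, xm, Matrix.single_add]
  abel

omit [Fintype ι] in
theorem xA_zero (i j : ι) : xA i j (0 : F) = 0 := Subtype.ext (by simp [xA, xm])

omit [Fintype ι] in
theorem xA_neg (i j : ι) (a : F) : xA i j (-a) = -xA i j a :=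
  eq_neg_of_add_eq_zero_left (by rw [← xA_add, neg_add_cancel, xA_zero])

theorem congr_alt (A : Matrix ι ι F) {X : Matrix ι ι F} (hX : X ∈ altM ι F) :
    A * X * Aᵀ ∈ altM ι F := by
  have hXt : Xᵀ = -X := by ext i j; simp [hX.1 i j]
  have h1 : (A * X * Aᵀ)ᵀ = -(A * X * Aᵀ) := by
    simp [Matrix.transpose_mul, hXt, Matrix.mul_assoc]
  refine ⟨fun i j => by simpa using congrFun (congrFun h1 i) j, fun i => ?_⟩
  rw [Matrix.mul_apply]
  simp_rw [Matrix.mul_apply, Finset.sum_mul, Matrix.transpose_apply]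
  -- the terms cancel in pairs
  rw [← Fintype.sum_prod_type']
  refine Finset.sum_involution (fun p _ => (p.2, p.1)) (fun p _ => ?_) (fun p _ hp e => hp ?_)
    (fun p _ => Finset.mem_univ _) (fun p _ => rfl)
  · rw [hX.1 p.2 p.1]; ring
  · rw [show p.2 = p.1 from congrArg Prod.fst e, hX.2]; ring

/-- The action of `SL` by congruence. -/
def cg (A : SpecialLinearGroup ι F) : altM ι F →+ altM ι F where
  toFun X := ⟨(A : Matrix ι ι F) * X.1 * (A : Matrix ι ι F)ᵀ, congr_alt _ X.2⟩
  map_zero' := Subtype.ext (by simp)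
  map_add' X Y := Subtype.ext (by simp [Matrix.mul_add, Matrix.add_mul])

theorem cg_one (X : altM ι F) : cg (1 : SpecialLinearGroup ι F) X = X := Subtype.ext (by simp [cg])

theorem cg_mul (A B : SpecialLinearGroup ι F) (X : altM ι F) : cg (A * B) X = cg A (cg B X) :=
  Subtype.ext (by simp [cg, Matrix.mul_assoc])

theorem cg_inv_cg (A : SpecialLinearGroup ι F) (X : altM ι F) : cg A⁻¹ (cg A X) = X := by
  rw [← cg_mul, inv_mul_cancel, cg_one]

theorem cg_T_val {i j : ι} (h : i ≠ j) (t : F) (X : altM ι F) :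
    (cg (T i j t) X).1 = X.1 + Matrix.single i j t * X.1 + X.1 * Matrix.single j i t := by
  have h2 : Matrix.single i j t * X.1 * Matrix.single j i t = 0 := by
    simp [Matrix.single_mul_mul_single, X.2.2 j]
  show (T i j t : SpecialLinearGroup ι F).1 * X.1 * (T i j t : SpecialLinearGroup ι F).1ᵀ = _
  rw [show ((T i j t : SpecialLinearGroup ι F).1 : Matrix ι ι F) = 1 + Matrix.single i j t from
    T_coe h t, Matrix.transpose_add, Matrix.transpose_one, Matrix.transpose_single]
  simp [Matrix.add_mul, Matrix.mul_add, h2]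

/-- A transvection moves `x_{jk}` by `x_{ik}`. -/
theorem cg_T_move {i j k : ι} (hij : i ≠ j) (hjk : j ≠ k) (t u : F) :
    cg (T i j t) (xA j k u) = xA j k u + xA i k (t * u) := by
  apply Subtype.ext
  rw [cg_T_val hij]
  show _ = xm j k u + xm i k (t * u)
  simp only [xA, xm, Matrix.mul_sub, Matrix.sub_mul, Matrix.single_mul_single_same,
    Matrix.single_mul_single_of_ne _ _ _ _ hjk, Matrix.single_mul_single_of_ne _ _ _ _ hjk.symm]
  rw [mul_comm u t]
  abel

/-- A transvection fixes `x_{pq}` if its second index is neither `p` nor `q`. -/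
theorem cg_T_fix {i j p q : ι} (hjp : j ≠ p) (hjq : j ≠ q) (t u : F) :
    cg (T i j t) (xA p q u) = xA p q u := by
  by_cases hij : i = j
  · subst hij
    rw [show T i i t = 1 by rw [T, dif_pos rfl]]
    exact cg_one _
  apply Subtype.ext
  rw [cg_T_val hij]
  simp [xA, xm, Matrix.mul_sub, Matrix.sub_mul, hjp, hjq, hjp.symm, hjq.symm]

/-- A transvection fixes the basic matrix of its own two indices. -/
theorem cg_T_self {i j : ι} (hij : i ≠ j) (t u : F) :
    cg (T i j t) (xA i j u) = xA i j u := by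
  rw [xA_swap j i, cg_T_move hij hij.symm]
  refine (add_eq_left).2 (Subtype.ext ?_)
  simp [xA, xm]

/-- Congruence by a diagonal element. -/
theorem cg_dg (p q : ι) {a : F} (ha : a ≠ 0) (i j : ι) (u : F) :
    cg (dg p q ha) (xA i j u) = xA i j (dvec p q a i * dvec p q a j * u) := by
  apply Subtype.ext
  show Matrix.diagonal (dvec p q a) * xm i j u * (Matrix.diagonal (dvec p q a))ᵀ = _
  ext x y
  simp only [Matrix.diagonal_transpose, Matrix.mul_diagonal, Matrix.diagonal_mul, xm, xA,
    Matrix.sub_apply, Matrix.single_apply]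
  by_cases h1 : i = x ∧ j = y
  · obtain ⟨rfl, rfl⟩ := h1
    by_cases h2 : j = i
    · subst h2; simp
    · simp [h2]; ring
  · by_cases h2 : j = x ∧ i = y
    · obtain ⟨rfl, rfl⟩ := h2
      simp only [h1, if_false, and_self, if_true]; ring
    · simp [h1, h2]

/-- Expansion in the basic matrices. -/
theorem alt_decomp [LinearOrder ι] (X : altM ι F) :
    X = ∑ p ∈ (Finset.univ : Finset (ι × ι)).filter (fun p => p.1 < p.2), xA p.1 p.2 (X.1 p.1 p.2) := by
  apply Subtype.ext
  rw [AddSubgroup.val_finset_sum]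
  ext a b
  rw [Matrix.sum_apply]
  simp only [xA, xm, Matrix.sub_apply, Matrix.single_apply]
  rcases lt_trichotomy a b with h | h | h
  · rw [Finset.sum_eq_single (a, b)]
    · simp [h.ne']
    · rintro ⟨x, y⟩ hxy hne
      have hxy' : x < y := (Finset.mem_filter.1 hxy).2
      rw [if_neg (fun e : x = a ∧ y = b => hne (by rw [e.1, e.2])),
        if_neg (fun e : y = a ∧ x = b => (lt_asymm h) (e.1 ▸ e.2 ▸ hxy')), sub_zero]
    · intro hn; exact absurd (by simp [h]) hn
  · subst h
    rw [X.2.2, Finset.sum_eq_zero]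
    rintro ⟨x, y⟩ hxy
    have hxy' : x < y := (Finset.mem_filter.1 hxy).2
    rw [if_neg (fun e => hxy'.ne (e.1.trans e.2.symm)),
      if_neg (fun e => hxy'.ne (e.2.trans e.1.symm)), sub_zero]
  · rw [Finset.sum_eq_single (b, a)]
    · simp [h.ne, X.2.1 b a]
    · rintro ⟨x, y⟩ hxy hne
      have hxy' : x < y := (Finset.mem_filter.1 hxy).2
      rw [if_neg (fun e : x = a ∧ y = b => (lt_asymm h) (e.1 ▸ e.2 ▸ hxy')),
        if_neg (fun e : y = a ∧ x = b => hne (by rw [e.1, e.2])), sub_zero]
    · intro hn; exact absurd (by simp [h]) hn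

/-- A subgroup containing the basic matrices is everything. -/
theorem mem_of_xA_mem [LinearOrder ι] {H : AddSubgroup (altM ι F)}
    (h : ∀ i j, i ≠ j → ∀ a : F, xA i j a ∈ H) (X : altM ι F) : X ∈ H := by
  rw [alt_decomp X]
  exact AddSubgroup.sum_mem _ fun p hp => h _ _ (Finset.mem_filter.1 hp).2.ne _

end Cfsg.Agent.ClassMult
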