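import Cfsg.Agent.Lib.UnitaryOrthogonal.Omega
import Mathlib.LinearAlgebra.CliffordAlgebra.Contraction
import Mathlib.LinearAlgebra.CliffordAlgebra.Even
import Mathlib.LinearAlgebra.CliffordAlgebra.Conjugation

/-!
The scalars of a Clifford algebra are what is killed by all contractions (helper74).
-/

set_option autoImplicit false

namespace Cfsg.Agent.ClassMult

open Cfsg.Agent.UnitaryOrthogonal QuadraticMap
open CliffordAlgebra (ι contractLeft involute reverse)

universe v w

variable {F : Type v} [Field F] {V : Type w} [AddCommGroup V] [Module F V] {Q : QuadraticForm F V}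

/-- A contraction as a linear map. -/
noncomputable def kill (d : Module.Dual F V) : CliffordAlgebra Q →ₗ[F] CliffordAlgebra Q :=
  contractLeft (Q := Q) d

theorem kill_ι_mul (d : Module.Dual F V) (a : V) (x : CliffordAlgebra Q) :
    kill d (ι Q a * x) = d a • x - ι Q a * kill d x :=
  CliffordAlgebra.contractLeft_ι_mul _ _ _

theorem kill_algebraMap (d : Module.Dual F V) (r : F) :
    kill d (algebraMap F (CliffordAlgebra Q) r) = 0 :=
  CliffordAlgebra.contractLeft_algebraMap (Q := Q) d r

theorem ι_mul_sub (v : V) (x : CliffordAlgebra Q) :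
    ι Q v * x - involute x * ι Q v = kill (polarBilin Q v) x := by
  induction x using CliffordAlgebra.left_induction with
  | algebraMap r =>
      rw [AlgHom.commutes, kill_algebraMap, Algebra.commutes, sub_self]
  | add x y hx hy =>
      rw [map_add, map_add, mul_add, add_mul, add_sub_add_comm, hx, hy]
  | ι_mul x m hx =>
      have hswap : ι Q v * ι Q m = algebraMap F _ (polar Q v m) - ι Q m * ι Q v := by
        rw [← CliffordAlgebra.ι_mul_ι_add_swap, add_sub_cancel_right]
      rw [map_mul, CliffordAlgebra.involute_ι, kill_ι_mul, ← hx, ← mul_assoc, hswap,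
        show (polarBilin Q v) m = polar Q v m from rfl, Algebra.smul_def]
      noncomm_ring

theorem extMap_eq_sub (d : Module.Dual F V) (b : V)
    (x : ExteriorAlgebra F V) :
    ExteriorAlgebra.map (LinearMap.id - d.smulRight b) x =
      x - ExteriorAlgebra.ι F b * kill (Q := (0 : QuadraticForm F V)) d x := by
  induction x using CliffordAlgebra.left_induction with
  | algebraMap r =>
      erw [AlgHom.commutes, kill_algebraMap, mul_zero, sub_zero]
  | add x y hx hy =>
      rw [map_add, map_add, hx, hy]; noncomm_ring
  | ι_mul x m hx =>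
      rw [map_mul, ExteriorAlgebra.map_apply_ι, hx, kill_ι_mul]
      have h1 : ExteriorAlgebra.ι F b * ExteriorAlgebra.ι F b = 0 := ExteriorAlgebra.ι_sq_zero b
      have h2 : ExteriorAlgebra.ι F m * ExteriorAlgebra.ι F b =
          -(ExteriorAlgebra.ι F b * ExteriorAlgebra.ι F m) :=
        eq_neg_of_add_eq_zero_left (ExteriorAlgebra.ι_add_mul_swap m b)
      simp only [LinearMap.sub_apply, LinearMap.id_apply, LinearMap.smulRight_apply, map_sub,
        map_smul]
      show (ExteriorAlgebra.ι F m - d m • ExteriorAlgebra.ι F b) * _ = ExteriorAlgebra.ι F m * x -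
        ExteriorAlgebra.ι F b * (d m • x - ExteriorAlgebra.ι F m * _)
      simp only [sub_mul, mul_sub, smul_mul_assoc, mul_smul_comm, ← mul_assoc, h1, h2, zero_mul,
        neg_mul, smul_zero]
      abel

theorem extScalar [FiniteDimensional F V] (x : ExteriorAlgebra F V)
    (h : ∀ d, kill (Q := (0 : QuadraticForm F V)) d x = 0) :
    x ∈ Set.range (algebraMap F (ExteriorAlgebra F V)) := by
  classical
  let b := Module.finBasis F V
  have hfix : ∀ s : Finset (Fin (Module.finrank F V)),
      ExteriorAlgebra.map (LinearMap.id - ∑ i ∈ s, (b.coord i).smulRight (b i)) x = x := by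
    intro s
    induction s using Finset.induction_on with
    | empty => simp
    | insert i s hi ih =>
      have e : (LinearMap.id - ∑ j ∈ insert i s, (b.coord j).smulRight (b j)) =
          (LinearMap.id - (b.coord i).smulRight (b i)) ∘ₗ
            (LinearMap.id - ∑ j ∈ s, (b.coord j).smulRight (b j)) := by
        ext y
        have : b.coord i (∑ j ∈ s, b.coord j y • b j) = 0 := by
          rw [map_sum]
          refine Finset.sum_eq_zero fun j hj => ?_
          rw [map_smul, Module.Basis.coord_apply, Module.Basis.coord_apply, b.repr_self,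
            Finsupp.single_eq_of_ne (fun e => hi (by rw [e]; exact hj)), smul_zero]
        simp only [LinearMap.coe_comp, Function.comp_apply, LinearMap.sub_apply, LinearMap.id_apply,
          LinearMap.coe_sum, Finset.sum_apply, LinearMap.smulRight_apply, Finset.sum_insert hi,
          LinearMap.add_apply]
        rw [map_sub, this, sub_zero]
        abel
      rw [e, ← ExteriorAlgebra.map_comp_map, AlgHom.comp_apply, ih, extMap_eq_sub, h, mul_zero,
        sub_zero]
  have hz : (LinearMap.id - ∑ i, (b.coord i).smulRight (b i)) = (0 : V →ₗ[F] V) := by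
    ext y; simp [b.sum_repr]
  have h0 : ∀ y : ExteriorAlgebra F V, ExteriorAlgebra.map (0 : V →ₗ[F] V) y ∈
      Set.range (algebraMap F (ExteriorAlgebra F V)) := by
    intro y
    induction y using CliffordAlgebra.left_induction with
    | algebraMap r => exact ⟨r, by erw [AlgHom.commutes]⟩
    | add a c ha hc =>
        obtain ⟨r, hr⟩ := ha; obtain ⟨s, hs⟩ := hc
        exact ⟨r + s, by rw [map_add, map_add, hr, hs]⟩
    | ι_mul a m ha =>
        refine ⟨0, ?_⟩
        rw [map_mul, ExteriorAlgebra.map_apply_ι]
        simp
  have := hfix Finset.univ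
  rw [hz] at this
  rw [← this]
  exact h0 x

variable [FiniteDimensional F V]

theorem mem_range_algebraMap_of_kill [Invertible (2 : F)] (x : CliffordAlgebra Q)
    (h : ∀ d, kill d x = 0) : x ∈ Set.range (algebraMap F (CliffordAlgebra Q)) := by
  obtain ⟨r, hr⟩ := extScalar (CliffordAlgebra.equivExterior Q x) fun d => by
    have := CliffordAlgebra.changeForm_contractLeft
      (h := CliffordAlgebra.changeForm.associated_neg_proof (Q := Q)) d x
    refine this.symm.trans ?_
    rw [show contractLeft (Q := Q) d x = kill d x from rfl, h, map_zero]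
  refine ⟨r, (CliffordAlgebra.equivExterior Q).injective ?_⟩
  rw [← hr]
  exact CliffordAlgebra.changeForm_algebraMap
    (h := CliffordAlgebra.changeForm.associated_neg_proof (Q := Q)) r

/-- An even element commuting with all vectors is a scalar. -/
theorem mem_range_algebraMap_of_commute [Invertible (2 : F)] (hQ : PolarND Q)
    {x : CliffordAlgebra Q} (hx : x ∈ CliffordAlgebra.even Q)
    (h : ∀ v, Commute x (ι Q v)) : x ∈ Set.range (algebraMap F (CliffordAlgebra Q)) := by
  refine mem_range_algebraMap_of_kill x fun d => ?_
  obtain ⟨v, rfl⟩ : ∃ v, polarBilin Q v = d :=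
    (LinearMap.injective_iff_surjective_of_finrank_eq_finrank
      (f := polarBilin Q) Subspace.dual_finrank_eq.symm).1
      ((injective_iff_map_eq_zero _).2 fun u hu => hQ u fun x => LinearMap.congr_fun hu x) d
  have hi : involute x = x := CliffordAlgebra.involute_eq_of_mem_even hx
  rw [← ι_mul_sub, hi, (h v).eq, sub_self]

end Cfsg.Agent.ClassMult
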