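import Cfsg.Agent.ClassMult.Alt
import Cfsg.Agent.Lib.LinearGroup.Generation
import Cfsg.Agent.Lib.Schur.Perfect

/-!
Central extensions of `Alt_l(F) ⋊ SL_l(F)`: the alternating part has a complement normalised by the lifted
`SL_l` (helper74).
-/

set_option autoImplicit false

namespace Cfsg.Agent.ClassMult

open Matrix Cfsg.Agent.CharB.PSLMult
open scoped commutatorElement

universe u v v' w

variable {ι : Type w} [Fintype ι] [DecidableEq ι] {F : Type v} [Field F] {G : Type v'} [Group G]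

/-- A copy of `Alt ⋊ SL` in `G`. -/
structure Datum (lev : SpecialLinearGroup ι F →* G) (sg : altM ι F → G) : Prop where
  add : ∀ X Y, sg (X + Y) = sg X * sg Y
  rel : ∀ A X, lev A * sg X * (lev A)⁻¹ = sg (cg A X)
  inj : ∀ X A, sg X * lev A = 1 → X = 0 ∧ A = 1

/-- The restrictions: degree and field, and for degree four an outer torus element. -/
structure DGood (sg : altM ι F → G) : Prop where
  four_le : 4 ≤ Fintype.card ι
  small : (∀ μ : F, μ ≠ 0 → μ ^ 2 = 1) → (2 : F) ≠ 0 ∨ 5 ≤ Fintype.card ι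
  outer : Fintype.card ι = 4 → ∀ (μ : F), μ ≠ 0 → ∀ i : ι, ∃ d : G,
    (∀ (k : ι) (u : F), k ≠ i → d * sg (xA i k u) * d⁻¹ = sg (xA i k (μ ^ 2 * u))) ∧
    ∀ (p q : ι) (u : F), p ≠ i → q ≠ i → d * sg (xA p q u) * d⁻¹ = sg (xA p q u)

variable {lev : SpecialLinearGroup ι F →* G} {sg : altM ι F → G}

theorem DGood.exists_off3 (K : DGood sg) (i j k : ι) : ∃ m, m ≠ i ∧ m ≠ j ∧ m ≠ k := by
  by_contra h
  push Not at h
  have hs : (Finset.univ : Finset ι) ⊆ {i, j, k} := fun m _ => by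
    simp only [Finset.mem_insert, Finset.mem_singleton]
    by_cases h1 : m = i
    · exact Or.inl h1
    by_cases h2 : m = j
    · exact Or.inr (Or.inl h2)
    exact Or.inr (Or.inr (h m h1 h2))
  have := (Finset.card_le_card hs).trans Finset.card_le_three
  rw [Finset.card_univ] at this
  have := K.four_le
  omega

theorem exists_off4 (h5 : 5 ≤ Fintype.card ι) (i j k l : ι) :
    ∃ m : ι, m ≠ i ∧ m ≠ j ∧ m ≠ k ∧ m ≠ l := by
  by_contra h
  push Not at h
  have hs : (Finset.univ : Finset ι) ⊆ {i, j, k, l} := fun m _ => by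
    simp only [Finset.mem_insert, Finset.mem_singleton]
    by_cases h1 : m = i
    · exact Or.inl h1
    by_cases h2 : m = j
    · exact Or.inr (Or.inl h2)
    by_cases h3 : m = k
    · exact Or.inr (Or.inr (Or.inl h3))
    exact Or.inr (Or.inr (Or.inr (h m h1 h2 h3)))
  have := (Finset.card_le_card hs).trans Finset.card_le_four
  rw [Finset.card_univ] at this
  omega

theorem Datum.zero (D : Datum lev sg) : sg 0 = 1 := by
  have h := D.add 0 0
  rw [add_zero] at h
  exact left_eq_mul.1 h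

theorem Datum.commute (D : Datum lev sg) (X Y : altM ι F) : Commute (sg X) (sg Y) := by
  show sg X * sg Y = sg Y * sg X
  rw [← D.add, ← D.add, add_comm]

theorem Datum.sg_injective (D : Datum lev sg) {X : altM ι F} (h : sg X = 1) : X = 0 :=
  (D.inj X 1 (by rw [map_one, mul_one, h])).1

variable {Γ : Type u} [Group Γ] {σ : Γ →* G} (E : CEx σ) (D : Datum lev sg)

include D in
theorem cQ_mul (X Y Z : altM ι F) :
    E.cm (sg (X + Y)) (sg Z) = E.cm (sg Y) (sg Z) * E.cm (sg X) (sg Z) := by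
  rw [D.add, E.cm_mul_left' (D.commute Y Z)]

include D in
theorem cQ_inv (A : SpecialLinearGroup ι F) (X Y : altM ι F) :
    E.cm (sg (cg A X)) (sg (cg A Y)) = E.cm (sg X) (sg Y) := by
  rw [← D.rel, ← D.rel, E.cm_conj (D.commute X Y)]

include D in
theorem cQ_cancel {A : SpecialLinearGroup ι F} {X Y Z : altM ι F} (hX : cg A X = X + Z)
    (hY : cg A Y = Y) : E.cm (sg Z) (sg Y) = 1 := by
  have h := cQ_inv E D A X Y
  rw [hX, hY, cQ_mul E D] at h
  exact mul_eq_right.1 h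

include D in
theorem cQ_off {i j p q m : ι} (hmi : m ≠ i) (hmj : m ≠ j) (hmp : m ≠ p) (hmq : m ≠ q) (a b : F) :
    E.cm (sg (xA i j a)) (sg (xA p q b)) = 1 :=
  cQ_cancel E D (A := T i m 1) (X := xA m j a)
    (by rw [cg_T_move hmi.symm hmj, one_mul]) (cg_T_fix hmp hmq _ _)

theorem cg_wv_move {i p k : ι} (hip : i ≠ p) (hki : k ≠ i) (hkp : k ≠ p) (u : F) :
    cg (T i p 1 * T p i (-1) * T i p (1 : F)) (xA p k u) = xA i k u := by
  rw [cg_mul, cg_mul, cg_T_move hip hkp.symm, map_add, cg_T_fix hip hki.symm,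
    cg_T_move hip.symm hki.symm, one_mul, neg_one_mul, xA_neg, map_add, map_add, map_neg,
    cg_T_fix hip.symm hkp.symm, cg_T_move hip hkp.symm, one_mul]
  abel

theorem cg_wv_move' {i p k : ι} (hip : i ≠ p) (hki : k ≠ i) (hkp : k ≠ p) (u : F) :
    cg (T i p 1 * T p i (-1) * T i p (1 : F)) (xA i k u) = xA p k (-u) := by
  rw [cg_mul, cg_mul, cg_T_fix hip.symm hkp.symm, cg_T_move hip.symm hki.symm, neg_one_mul,
    xA_neg, map_add, map_neg, cg_T_fix hip.symm hkp.symm, cg_T_move hip hkp.symm, one_mul]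
  abel

include D in
theorem cQ_disjoint (K : DGood sg) {i j p q : ι} (hij : i ≠ j) (hpi : p ≠ i) (hpj : p ≠ j)
    (hqi : q ≠ i) (hqj : q ≠ j) (hpq : p ≠ q) (a b : F) :
    E.cm (sg (xA i j a)) (sg (xA p q b)) = 1 := by
  by_cases h5 : 5 ≤ Fintype.card ι
  · obtain ⟨m, h1, h2, h3, h4⟩ := exists_off4 h5 i j p q
    exact cQ_off E D h1 h2 h3 h4 a b
  by_cases hA : ∃ μ : F, μ ≠ 0 ∧ μ ^ 2 ≠ 1
  · obtain ⟨μ, hμ0, hμ⟩ := hA
    obtain ⟨d, hd1, hd2⟩ := K.outer (by have := K.four_le; omega) μ hμ0 i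
    obtain ⟨a', rfl⟩ : ∃ a', a = (μ ^ 2 - 1) * a' :=
      ⟨(μ ^ 2 - 1)⁻¹ * a, by rw [mul_inv_cancel_left₀ (sub_ne_zero.2 hμ)]⟩
    have h := E.cm_conj (D.commute (xA i j a') (xA p q b)) d
    rw [hd1 j a' hij.symm, hd2 p q b hpi hqi] at h
    have e : xA i j (μ ^ 2 * a') = xA i j a' + xA i j ((μ ^ 2 - 1) * a') := by
      rw [← xA_add]; ring_nf
    rw [e, cQ_mul E D] at h
    exact mul_eq_right.1 h
  push Not at hA
  have h2 := (K.small hA).resolve_right h5
  have h4 : (2 : F) ^ 2 = 1 := hA 2 h2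
  have h3 : (3 : F) = 0 := by linear_combination h4
  set W := (T j q 1 * T q j (-1) * T j q (1 : F)) * (T i p 1 * T p i (-1) * T i p (1 : F)) with hW
  have e1 : ∀ u : F, cg W (xA i j u) = xA p q u := fun u => by
    rw [hW, cg_mul, cg_wv_move' hpi.symm hij.symm hpj.symm, xA_swap j p,
      cg_wv_move' hqj.symm hpj hpq, neg_neg, xA_swap p q]
    simp
  have e2 : ∀ u : F, cg W (xA p q u) = xA i j u := fun u => by
    rw [hW, cg_mul, cg_wv_move hpi.symm hqi hpq.symm, xA_swap q i,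
      cg_wv_move hqj.symm hij hqi.symm, xA_swap i j]
    simp
  have hsym : ∀ u u' : F, E.cm (sg (xA i j u)) (sg (xA p q u')) =
      (E.cm (sg (xA i j u')) (sg (xA p q u)))⁻¹ := fun u u' => by
    conv_lhs => rw [← cQ_inv E D W (xA i j u) (xA p q u'), e1, e2]
    rw [E.cm_inv]
  have hpm : ∀ a : F, a = 0 ∨ a = 1 ∨ a = -1 := fun a => by
    by_cases ha : a = 0
    · exact Or.inl ha
    · exact Or.inr ((sq_eq_one_iff).1 (hA a ha))
  set z := E.cm (sg (xA i j 1)) (sg (xA p q (1 : F))) with hz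
  have hz2 : z * z = 1 := by
    have h := hsym 1 1
    rw [← hz] at h
    calc z * z = z * z⁻¹ := congrArg (z * ·) h
      _ = 1 := mul_inv_cancel z
  have hz3 : z * z * z = 1 := by
    have h1 : E.cm (sg (xA i j (1 + 1 + 1 : F))) (sg (xA p q (1 : F))) = z * (z * z) := by
      rw [xA_add, xA_add, cQ_mul E D, cQ_mul E D]
    rw [show (1 + 1 + 1 : F) = 0 by linear_combination h3, xA_zero, D.zero, E.cm_one_left,
      ← mul_assoc] at h1
    exact h1.symm
  rw [hz2, one_mul] at hz3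
  have hneg : ∀ X Y : altM ι F, E.cm (sg (-X)) (sg Y) = (E.cm (sg X) (sg Y))⁻¹ := fun X Y => by
    refine eq_inv_of_mul_eq_one_left ?_
    rw [← cQ_mul E D, add_neg_cancel, D.zero, E.cm_one_left]
  have hl : ∀ a : F, E.cm (sg (xA i j a)) (sg (xA p q (1 : F))) = 1 := fun a => by
    rcases hpm a with rfl | rfl | rfl
    · rw [xA_zero, D.zero, E.cm_one_left]
    · exact hz3
    · rw [xA_neg, hneg, ← hz, hz3, inv_one]
  rcases hpm b with rfl | rfl | rfl
  · rw [xA_zero, D.zero, E.cm_one_right]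
  · exact hl a
  · rw [hsym, xA_neg i j, hneg, inv_inv]
    have h := hsym a 1
    rw [hl a] at h
    exact inv_eq_one.1 h.symm

include D in
theorem cQ_eq_one (K : DGood sg) (X Y : altM ι F) : E.cm (sg X) (sg Y) = 1 := by
  classical
  letI : LinearOrder ι := LinearOrder.lift' (Fintype.equivFin ι) (Fintype.equivFin ι).injective
  have key : ∀ i j p q : ι, i ≠ j → p ≠ q → ∀ a b : F,
      E.cm (sg (xA i j a)) (sg (xA p q b)) = 1 := by
    intro i j p q hij hpq a b
    by_cases h : p ≠ i ∧ p ≠ j ∧ q ≠ i ∧ q ≠ j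
    · exact cQ_disjoint E D K hij h.1 h.2.1 h.2.2.1 h.2.2.2 hpq a b
    simp only [not_and_or, ne_eq, not_not] at h
    rcases h with h | h | h | h <;> subst h
    · obtain ⟨m, h1, h2, h3⟩ := K.exists_off3 p j q
      exact cQ_off E D h1 h2 h1 h3 a b
    · obtain ⟨m, h1, h2, h3⟩ := K.exists_off3 i p q
      exact cQ_off E D h1 h2 h2 h3 a b
    · obtain ⟨m, h1, h2, h3⟩ := K.exists_off3 q j p
      exact cQ_off E D h1 h2 h3 h1 a b
    · obtain ⟨m, h1, h2, h3⟩ := K.exists_off3 i q p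
      exact cQ_off E D h1 h2 h3 h2 a b
  let H : ∀ Y : altM ι F, AddSubgroup (altM ι F) := fun Y =>
    { carrier := {X | E.cm (sg X) (sg Y) = 1}
      zero_mem' := by
        show E.cm (sg 0) (sg Y) = 1
        rw [D.zero, E.cm_one_left]
      add_mem' := fun {A B} hA hB => by
        show E.cm (sg (A + B)) (sg Y) = 1
        rw [cQ_mul E D, hA, hB, one_mul]
      neg_mem' := fun {A} hA => by
        show E.cm (sg (-A)) (sg Y) = 1
        have h := cQ_mul E D A (-A) Y
        rw [add_neg_cancel, D.zero, E.cm_one_left, hA, mul_one] at h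
        exact h.symm }
  have h1 : ∀ (p q : ι), p ≠ q → ∀ (b : F) (X : altM ι F), E.cm (sg X) (sg (xA p q b)) = 1 :=
    fun p q hpq b X => mem_of_xA_mem (H := H (xA p q b)) (fun i j hij a => key i j p q hij hpq a b) X
  refine mem_of_xA_mem (H := H Y) (fun i j hij a => ?_) X
  show E.cm (sg (xA i j a)) (sg Y) = 1
  rw [← E.cm_inv, inv_eq_one]
  exact h1 i j hij a Y

/-- Elements over the alternating part commute. -/
theorem lift_commute {E : CEx σ} (D : Datum lev sg) (K : DGood sg) {a b : Γ} {X Y : altM ι F}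
    (ha : σ a = sg X) (hb : σ b = sg Y) : Commute a b :=
  E.commute_of_cm (by rw [ha, hb]; exact cQ_eq_one E D K X Y)

/-- The displacement of the lifts of `sg X` under `A`. -/
noncomputable def dsp (lev : SpecialLinearGroup ι F →* G) (sg : altM ι F → G)
    (A : SpecialLinearGroup ι F) (X : altM ι F) : Γ := E.cm (lev A) (sg X)

include D in
theorem map_dsp (A : SpecialLinearGroup ι F) (X : altM ι F) :
    σ (dsp E lev sg A X) = sg (cg A X - X) := by
  rw [dsp, E.map_cm, commutatorElement_def, D.rel, mul_inv_eq_iff_eq_mul, ← D.add, sub_add_cancel]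

variable (η : SpecialLinearGroup ι F →* Γ) (hη : ∀ A, σ (η A) = lev A)

include hη in
theorem dsp_eq (A : SpecialLinearGroup ι F) {a : Γ} {X : altM ι F} (ha : σ a = sg X) :
    ⁅η A, a⁆ = dsp E lev sg A X := by
  rw [E.cm_eq, hη, ha]; rfl

include hη in
theorem conj_lift (A : SpecialLinearGroup ι F) {a : Γ} {X : altM ι F} (ha : σ a = sg X) :
    η A * a * (η A)⁻¹ = dsp E lev sg A X * a := by
  rw [← dsp_eq E η hη A ha, commutatorElement_def, inv_mul_cancel_right]

include hη in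
theorem conj_fix {A : SpecialLinearGroup ι F} {a : Γ} {X : altM ι F} (ha : σ a = sg X)
    (h : dsp E lev sg A X = 1) : η A * a * (η A)⁻¹ = a := by
  rw [conj_lift E η hη A ha, h, one_mul]

include D hη in
theorem dsp_add (K : DGood sg) (A : SpecialLinearGroup ι F) (X Y : altM ι F) :
    dsp E lev sg A (X + Y) = dsp E lev sg A X * dsp E lev sg A Y := by
  have hab : σ (E.s (sg X) * E.s (sg Y)) = sg (X + Y) := by
    rw [map_mul, E.map_s, E.map_s, D.add]
  rw [← dsp_eq E η hη A hab, ← dsp_eq E η hη A (E.map_s (sg X)),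
    ← dsp_eq E η hη A (E.map_s (sg Y))]
  have hc : Commute (E.s (sg X)) ⁅η A, E.s (sg Y)⁆ := lift_commute (E := E) D K (E.map_s _)
    (show σ ⁅η A, E.s (sg Y)⁆ = sg (cg A Y - Y) by
      rw [dsp_eq E η hη A (E.map_s (sg Y)), map_dsp E D])
  have e : ⁅η A, E.s (sg X) * E.s (sg Y)⁆ =
      ⁅η A, E.s (sg X)⁆ * (E.s (sg X) * ⁅η A, E.s (sg Y)⁆ * (E.s (sg X))⁻¹) := by
    simp only [commutatorElement_def]; group
  rw [e, hc.eq, mul_inv_cancel_right]

include D in
theorem dsp_central {A : SpecialLinearGroup ι F} {X : altM ι F} (h : cg A X = X) :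
    dsp E lev sg A X ∈ Subgroup.center Γ := by
  refine E.cm_mem_center ?_
  have := D.rel A X
  rw [h] at this
  exact mul_inv_eq_iff_eq_mul.1 this

include hη in
theorem dsp_mul (A B : SpecialLinearGroup ι F) (X : altM ι F) :
    dsp E lev sg (A * B) X = η A * dsp E lev sg B X * (η A)⁻¹ * dsp E lev sg A X := by
  simp only [← dsp_eq E η hη _ (E.map_s (sg X)), map_mul, commutatorElement_def]
  group

include hη in
theorem dsp_one (X : altM ι F) : dsp E lev sg 1 X = 1 := by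
  rw [dsp, map_one, E.cm_one_left]

include D hη in
theorem dsp_zero (A : SpecialLinearGroup ι F) : dsp E lev sg A 0 = 1 := by
  rw [dsp, D.zero, E.cm_one_right]

include D hη in
/-- A commutator of two elements fixing `X` fixes the lifts. -/
theorem dsp_commutator {A B : SpecialLinearGroup ι F} {X : altM ι F} (hA : cg A X = X)
    (hB : cg B X = X) : dsp E lev sg ⁅A, B⁆ X = 1 := by
  have hAi : cg A⁻¹ X = X := by conv_lhs => rw [← hA, cg_inv_cg]
  have hBi : cg B⁻¹ X = X := by conv_lhs => rw [← hB, cg_inv_cg]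
  have key : ∀ {P R : SpecialLinearGroup ι F}, cg R X = X →
      dsp E lev sg (P * R) X = dsp E lev sg R X * dsp E lev sg P X := fun {P R} hR => by
    rw [dsp_mul E η hη, Subgroup.mem_center_iff.1 (dsp_central E D hR) (η P),
      mul_inv_cancel_right]
  have hinv : ∀ {P : SpecialLinearGroup ι F}, cg P X = X →
      dsp E lev sg P⁻¹ X = (dsp E lev sg P X)⁻¹ := fun {P} hP => by
    refine eq_inv_of_mul_eq_one_right ?_
    rw [← key hP, inv_mul_cancel, dsp_one E η hη]
  rw [commutatorElement_def, key hBi, key hAi, key hB, hinv hA, hinv hB]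
  have c := Subgroup.mem_center_iff.1 (dsp_central E D hA)
  have c' := Subgroup.mem_center_iff.1 (dsp_central E D hB)
  generalize dsp E lev sg A X = x at c ⊢
  generalize dsp E lev sg B X = y at c' ⊢
  rw [c y]
  group

include D hη in
/-- Commuting elements. -/
theorem dsp_square (K : DGood sg) {A B : SpecialLinearGroup ι F} (h : Commute A B) (X : altM ι F) :
    dsp E lev sg A (cg B X - X) = dsp E lev sg B (cg A X - X) := by
  have ha := E.map_s (sg X)
  rw [← dsp_eq E η hη A (map_dsp E D B X), ← dsp_eq E η hη B (map_dsp E D A X),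
    ← dsp_eq E η hη B ha, ← dsp_eq E η hη A ha]
  generalize hav : E.s (sg X) = a at ha
  have hAB : Commute (η A) (η B) := h.map η
  simp only [commutatorElement_def]
  -- both sides are the product of the four conjugates
  have hmap : ∀ P : SpecialLinearGroup ι F, σ (η P * a * (η P)⁻¹) = sg (cg P X) := fun P => by
    rw [map_mul, map_mul, map_inv, hη, ha, D.rel]
  have hmap' : ∀ P : SpecialLinearGroup ι F, σ (η P * a⁻¹ * (η P)⁻¹) = sg (-cg P X) := fun P => by
    rw [← conj_inv, map_inv, hmap, ← eq_comm]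
    refine eq_inv_of_mul_eq_one_left ?_
    rw [← D.add, neg_add_cancel, D.zero]
  have hc : Commute (η A * a⁻¹ * (η A)⁻¹) (η B * a⁻¹ * (η B)⁻¹) :=
    lift_commute (E := E) D K (hmap' A) (hmap' B)
  have hc1 : ∀ P : SpecialLinearGroup ι F, Commute a (η P * a⁻¹ * (η P)⁻¹) := fun P =>
    lift_commute (E := E) D K ha (hmap' P)
  calc η A * (η B * a * (η B)⁻¹ * a⁻¹) * (η A)⁻¹ * (η B * a * (η B)⁻¹ * a⁻¹)⁻¹
      = (η A * η B) * a * (η A * η B)⁻¹ * ((η A * a⁻¹ * (η A)⁻¹) * (a * (η B * a⁻¹ * (η B)⁻¹))) := by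
        group
    _ = (η B * η A) * a * (η B * η A)⁻¹ * ((η B * a⁻¹ * (η B)⁻¹) * (a * (η A * a⁻¹ * (η A)⁻¹))) := by
        rw [hAB.eq, (hc1 B).eq, (hc1 A).eq, ← mul_assoc (η A * a⁻¹ * (η A)⁻¹), hc.eq]
        simp only [mul_assoc]
    _ = η B * (η A * a * (η A)⁻¹ * a⁻¹) * (η B)⁻¹ * (η A * a * (η A)⁻¹ * a⁻¹)⁻¹ := by group

/-! ### The fixed cases -/

include D hη in
theorem dsp_fix_a {i j b : ι} (K : DGood sg) (hij : i ≠ j) (hbi : b ≠ i) (hbj : b ≠ j) (t u : F) :
    dsp E lev sg (T i b t) (xA i j u) = 1 := by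
  obtain ⟨c, hci, hcj, hcb⟩ := K.exists_off3 i j b
  rw [← mul_one t, ← T_comm hci.symm hcb hbi.symm t 1]
  exact dsp_commutator E D η hη (cg_T_fix hci hcj _ _) (cg_T_fix hbi hbj _ _)

include D hη in
theorem dsp_fix_mu {μ : F} (hμ0 : μ ≠ 0) (hμ : μ ^ 2 ≠ 1) {a b : ι} (hab : a ≠ b) (t : F)
    {X : altM ι F} (h1 : cg (dg a b hμ0) X = X) (h2 : ∀ s : F, cg (T a b s) X = X) :
    dsp E lev sg (T a b t) X = 1 := by
  obtain ⟨s, rfl⟩ : ∃ s, t = (μ ^ 2 - 1) * s :=
    ⟨(μ ^ 2 - 1)⁻¹ * t, by rw [mul_inv_cancel_left₀ (sub_ne_zero.2 hμ)]⟩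
  have e : T a b ((μ ^ 2 - 1) * s) = ⁅dg a b hμ0, T a b s⁆ := by
    rw [commutatorElement_def, dg_conj, ← T_neg, ← T_add]
    congr 1
    simp [dvec, hab, hab.symm]
    ring
  rw [e]
  exact dsp_commutator E D η hη h1 (h2 s)

theorem short_fix {a b i j : ι} (hab : a ≠ b) (hij : i ≠ j) (hai : a ≠ i) (haj : a ≠ j)
    (hbi : b ≠ i) (hbj : b ≠ j) (u v s s' : F) (h : s * u + s' * v = 0) :
    cg (T a i s * T j b s') (xA i j u + xA a b v) = xA i j u + xA a b v := by
  rw [cg_mul, map_add (cg (T j b s')), cg_T_fix hbi hbj, xA_swap b a v,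
    cg_T_move hbj.symm hab.symm, map_add, map_add, cg_T_move hai hij,
    cg_T_fix hbi.symm hai.symm, cg_T_fix hij hai.symm, ← xA_swap b a v, xA_swap a j, mul_neg, neg_neg]
  have e : xA a j (s' * v) + xA a j (s * u) = (0 : altM ι F) := by
    rw [← xA_add, add_comm, h, xA_zero]
  calc xA i j u + xA a j (s * u) + (xA a b v + xA a j (s' * v))
      = xA i j u + xA a b v + (xA a j (s' * v) + xA a j (s * u)) := by abel
    _ = _ := by rw [e, add_zero]

theorem short_fix' {a b i j : ι} (hab : a ≠ b) (hij : i ≠ j) (hai : a ≠ i) (haj : a ≠ j)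
    (hbi : b ≠ i) (hbj : b ≠ j) (u v r r' : F) (h : r * v = r' * u) :
    cg (T i b r * T a j r') (xA i j u + xA a b v) = xA i j u + xA a b v := by
  rw [cg_mul, map_add (cg (T a j r')), cg_T_fix haj.symm hbj.symm, xA_swap j i u,
    cg_T_move haj hij.symm, map_add, map_add, cg_T_fix hbj hbi, cg_T_fix hab.symm hbi,
    xA_swap b a v, cg_T_move hbi.symm hab.symm, xA_swap a i, mul_neg, mul_neg, ← xA_swap j i u,
    ← xA_swap b a v, neg_neg]
  have e : xA a i (-(r' * u)) + xA a i (r * v) = (0 : altM ι F) := by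
    rw [← xA_add, h, neg_add_cancel, xA_zero]
  calc xA i j u + xA a i (-(r' * u)) + (xA a b v + xA a i (r * v))
      = xA i j u + xA a b v + (xA a i (-(r' * u)) + xA a i (r * v)) := by abel
    _ = _ := by rw [e, add_zero]

theorem comm_pair {H : Type*} [Group H] {A B C R : H} (hBC : Commute B C)
    (hAR : Commute A R) (hA : Commute ⁅B, R⁆ A) (hC : Commute ⁅B, R⁆ C) :
    ⁅A * B, C * R⁆ = ⁅A, C⁆ * ⁅B, R⁆ := by
  calc ⁅A * B, C * R⁆ = A * (B * C) * R * B⁻¹ * A⁻¹ * R⁻¹ * C⁻¹ := by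
        simp only [commutatorElement_def]; group
    _ = A * C * ⁅B, R⁆ * R * A⁻¹ * R⁻¹ * C⁻¹ := by
        rw [hBC.eq]; simp only [commutatorElement_def]; group
    _ = A * C * ⁅B, R⁆ * (A⁻¹ * R) * R⁻¹ * C⁻¹ := by rw [hAR.inv_left.eq]; group
    _ = A * C * (⁅B, R⁆ * (A⁻¹ * C⁻¹)) := by group
    _ = ⁅A, C⁆ * ⁅B, R⁆ := by
        rw [(hA.inv_right.mul_right hC.inv_right).eq]
        simp only [commutatorElement_def]; group

include D hη in
/-- Four distinct indices in odd characteristic. -/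
theorem dsp_fix_two {a b i j : ι} (K : DGood sg) (h2 : (2 : F) ≠ 0) (hab : a ≠ b) (hij : i ≠ j)
    (hai : a ≠ i) (haj : a ≠ j) (hbi : b ≠ i) (hbj : b ≠ j) (t : F) :
    (∀ u : F, dsp E lev sg (T a b t) (xA i j u) = 1) ∧
      ∀ v : F, dsp E lev sg (T a b t) (xA a b v) = 1 := by
  have key : ∀ u v : F, u ≠ 0 → v ≠ 0 →
      dsp E lev sg (T a b t) (xA i j u + xA a b v) = 1 := by
    intro u v hu hv
    obtain ⟨s, rfl⟩ : ∃ s, t = 2 * s := ⟨2⁻¹ * t, by rw [mul_inv_cancel_left₀ h2]⟩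
    obtain ⟨s', hs'⟩ : ∃ s', s * u + s' * v = 0 := ⟨-(s * u) / v, by field_simp; ring⟩
    obtain ⟨r', hr'⟩ : ∃ r', (1 : F) * v = r' * u := ⟨v / u, by field_simp⟩
    have e : T a b (2 * s) = ⁅T a i s * T j b s', T i b 1 * T a j r'⁆ := by
      have e1 : ⁅T a i s, T i b (1 : F)⁆ = T a b s := by rw [T_comm hai hbi.symm hab, mul_one]
      have e2 : ⁅T j b s', T a j r'⁆ = T a b s := by
        rw [T_comm' haj hbj.symm hab]
        congr 1
        refine mul_right_cancel₀ hu ?_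
        linear_combination -hs' + s' * hr'
      rw [comm_pair (T_commute hbi hbj _ _) (T_commute hai.symm haj.symm _ _)
        (e2 ▸ T_commute hab.symm hai.symm _ _)
        (e2 ▸ T_commute hbi hab.symm _ _), e1, e2, ← T_add]
      congr 1; ring
    rw [e]
    exact dsp_commutator E D η hη (short_fix hab hij hai haj hbi hbj u v s s' hs')
      (short_fix' hab hij hai haj hbi hbj u v 1 r' hr')
  have hone : ∀ w : F, dsp E lev sg (T a b t) (xA i j w) = 1 := by
    intro w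
    rcases eq_or_ne w 0 with rfl | hw
    · rw [xA_zero, dsp_zero E D η hη]
    obtain ⟨u, rfl⟩ : ∃ u, w = u + u := ⟨2⁻¹ * w, by rw [← two_mul, mul_inv_cancel_left₀ h2]⟩
    have hu : u ≠ 0 := fun e => hw (by rw [e, add_zero])
    have h1 := key u 1 hu one_ne_zero
    have h2' := key (-u) 1 (neg_ne_zero.2 hu) one_ne_zero
    rw [dsp_add E D η hη K] at h1 h2'
    have h3 := mul_right_cancel (h1.trans h2'.symm)
    have h4 : dsp E lev sg (T a b t) (xA i j u + xA i j (-u)) = 1 := by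
      rw [← xA_add, add_neg_cancel, xA_zero, dsp_zero E D η hη]
    rw [dsp_add E D η hη K, ← h3] at h4
    rwa [xA_add, dsp_add E D η hη K]
  refine ⟨hone, fun v => ?_⟩
  rcases eq_or_ne v 0 with rfl | hv
  · rw [xA_zero, dsp_zero E D η hη]
  have h := key 1 v one_ne_zero hv
  rwa [dsp_add E D η hη K, hone 1, one_mul] at h

include D hη in
theorem dsp_fix_b {a b i j : ι} (K : DGood sg) (hab : a ≠ b) (hij : i ≠ j) (hai : a ≠ i)
    (haj : a ≠ j) (hbi : b ≠ i) (hbj : b ≠ j) (t u : F) :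
    dsp E lev sg (T a b t) (xA i j u) = 1 := by
  by_cases h2 : (2 : F) ≠ 0
  · exact (dsp_fix_two E D η hη K h2 hab hij hai haj hbi hbj t).1 u
  by_cases hA : ∃ μ : F, μ ≠ 0 ∧ μ ^ 2 ≠ 1
  · obtain ⟨μ, hμ0, hμ⟩ := hA
    refine dsp_fix_mu E D η hη hμ0 hμ hab t ?_ fun s => cg_T_fix hbi hbj _ _
    rw [cg_dg]
    simp [dvec, hai.symm, haj.symm, hbi.symm, hbj.symm]
  push Not at hA
  obtain ⟨c, h1, h2', h3, h4⟩ := exists_off4 ((K.small hA).resolve_left h2) a b i j
  rw [← mul_one t, ← T_comm h1.symm h2' hab t 1]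
  exact dsp_commutator E D η hη (cg_T_fix h3 h4 _ _) (cg_T_fix hbi hbj _ _)

include D hη in
/-- A transvection whose second index avoids `i, j` fixes the lifts of `x_{ij}`. -/
theorem dsp_fix_out {a b i j : ι} (K : DGood sg) (hab : a ≠ b) (hij : i ≠ j) (hbi : b ≠ i)
    (hbj : b ≠ j) (t u : F) : dsp E lev sg (T a b t) (xA i j u) = 1 := by
  by_cases hai : a = i
  · subst hai; exact dsp_fix_a E D η hη K hij hbi hbj t u
  by_cases haj : a = j
  · subst haj
    rw [xA_swap a i]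
    exact dsp_fix_a E D η hη K hij.symm hbj hbi t _
  exact dsp_fix_b E D η hη K hab hij hai haj hbi hbj t u

end Cfsg.Agent.ClassMult
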