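import Cfsg.Agent.ClassMult.DPart

/-!
The complement of the kernel over `Alt ⋊ SL` in a central extension (helper74).
-/

set_option autoImplicit false

namespace Cfsg.Agent.ClassMult

open Matrix Cfsg.Agent.CharB.PSLMult
open scoped commutatorElement

universe u v v' w

variable {ι : Type w} [Fintype ι] [DecidableEq ι] {F : Type v} [Field F] {G : Type v'} [Group G]
  {lev : SpecialLinearGroup ι F →* G} {sg : altM ι F → G}
  {Γ : Type u} [Group Γ] {σ : Γ →* G} (E : CEx σ) (D : Datum lev sg)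
  (η : SpecialLinearGroup ι F →* Γ) (hη : ∀ A, σ (η A) = lev A)

include D in
theorem map_Yb {a b c : ι} (hab : a ≠ b) (hbc : b ≠ c) (t u : F) :
    σ (dsp E lev sg (T a b t) (xA b c u)) = sg (xA a c (t * u)) := by
  rw [map_dsp E D, cg_T_move hab hbc, add_sub_cancel_left]

include D hη in
theorem Yb_fixed (K : DGood sg) {a b c p r : ι} (hab : a ≠ b) (hbc : b ≠ c) (hac : a ≠ c)
    (hpr : p ≠ r) (hra : r ≠ a) (hrc : r ≠ c) (s t u : F) :
    η (T p r s) * dsp E lev sg (T a b t) (xA b c u) * (η (T p r s))⁻¹ =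
      dsp E lev sg (T a b t) (xA b c u) :=
  conj_fix E η hη (map_Yb E D hab hbc t u) (dsp_fix_out E D η hη K hpr hac hra hrc _ _)

theorem wv_conj {a b d : ι} (hab : a ≠ b) (had : a ≠ d) (hbd : b ≠ d) (t : F) :
    (T b d 1 * T d b (-1) * T b d 1) * T a d t * (T b d 1 * T d b (-1) * T b d (1 : F))⁻¹ =
      T a b t := by
  have h1 : T b d (1 : F) * T a d t * (T b d (1 : F))⁻¹ = T a d t :=
    mul_inv_eq_iff_eq_mul.2 (T_commute had.symm hbd.symm _ _).eq
  have h2 : T d b (-1) * T a d t * (T d b (-1 : F))⁻¹ = T a b t * T a d t := by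
    have := T_comm' (i := a) (k := d) (j := b) had hbd.symm hab t (-1 : F)
    rw [mul_neg, mul_one, neg_neg, commutatorElement_def] at this
    rw [← this]; group
  have h3 : T b d (1 : F) * T a b t * (T b d (1 : F))⁻¹ = T a d (-t) * T a b t := by
    have := T_comm' (i := a) (k := b) (j := d) hab hbd had t (1 : F)
    rw [mul_one, commutatorElement_def] at this
    rw [← this]; group
  calc (T b d 1 * T d b (-1) * T b d 1) * T a d t * (T b d 1 * T d b (-1) * T b d (1 : F))⁻¹
      = T b d 1 * (T d b (-1) * (T b d 1 * T a d t * (T b d (1 : F))⁻¹) * (T d b (-1 : F))⁻¹) *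
          (T b d (1 : F))⁻¹ := by group
    _ = T b d 1 * T a b t * (T b d (1 : F))⁻¹ * (T b d 1 * T a d t * (T b d (1 : F))⁻¹) := by
        conv_lhs => rw [h1, h2]
        group
    _ = T a d (-t) * T a b t * T a d t := by rw [h3, h1]
    _ = T a b t := by
        have hc : Commute (T a d (-t)) (T a b t) := T_commute had.symm hab.symm _ _
        rw [hc.eq, mul_assoc, ← T_add, neg_add_cancel, T_zero, mul_one]

include D hη in
/-- Independence of the middle index. -/
theorem Yb_indep (K : DGood sg) {a b d c : ι} (hab : a ≠ b) (hbc : b ≠ c) (had : a ≠ d)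
    (hdc : d ≠ c) (hac : a ≠ c) (t u : F) :
    dsp E lev sg (T a b t) (xA b c u) = dsp E lev sg (T a d t) (xA d c u) := by
  rcases eq_or_ne b d with rfl | hbd
  · rfl
  set W := T b d 1 * T d b (-1) * T b d (1 : F) with hW
  have hfix : η W * dsp E lev sg (T a d t) (xA d c u) * (η W)⁻¹ =
      dsp E lev sg (T a d t) (xA d c u) := by
    have f1 := fun s => Yb_fixed E D η hη K had hdc hac hbd had.symm hdc s t u
    have f2 := fun s => Yb_fixed E D η hη K had hdc hac hbd.symm hab.symm hbc s t u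
    rw [hW, map_mul, map_mul]
    calc η (T b d 1) * η (T d b (-1)) * η (T b d 1) * dsp E lev sg (T a d t) (xA d c u) *
          (η (T b d 1) * η (T d b (-1)) * η (T b d (1 : F)))⁻¹
        = η (T b d 1) * (η (T d b (-1)) * (η (T b d 1) * dsp E lev sg (T a d t) (xA d c u) *
          (η (T b d (1 : F)))⁻¹) * (η (T d b (-1 : F)))⁻¹) * (η (T b d (1 : F)))⁻¹ := by group
      _ = _ := by rw [f1, f2, f1]
  have hconj : η W * dsp E lev sg (T a d t) (xA d c u) * (η W)⁻¹ =
      dsp E lev sg (T a b t) (xA b c u) := by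
    rw [dsp, E.conj_cm, hη, ← map_inv, ← map_mul, ← map_mul, map_inv, D.rel, hW,
      cg_wv_move hbd hbc.symm hdc.symm, wv_conj hab had hbd]
    rfl
  exact hconj.symm.trans hfix

include D hη in
theorem Yb_square (K : DGood sg) {a b c d : ι} (hab : a ≠ b) (hcd : c ≠ d) (hcb : c ≠ b)
    (hda : d ≠ a) (hbd : b ≠ d) (s t u : F) :
    dsp E lev sg (T a b t) (xA b c (s * u)) = dsp E lev sg (T c d s) (xA d a (-(t * u))) := by
  have h := dsp_square E D η hη K (T_commute (i := a) (j := b) (k := c) (l := d) hcb.symm hda t s)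
    (xA b d u)
  rw [cg_T_move hab hbd, add_sub_cancel_left, xA_swap d b u, cg_T_move hcd hbd.symm,
    add_sub_cancel_left, xA_swap b c, mul_neg, neg_neg, xA_swap d a] at h
  exact h

/-- A middle index. -/
noncomputable def mid (K : DGood sg) (a c : ι) : ι := (K.exists_off3 a a c).choose

theorem mid_ne (K : DGood sg) (a c : ι) : a ≠ mid K a c ∧ mid K a c ≠ c :=
  ⟨(K.exists_off3 a a c).choose_spec.1.symm, (K.exists_off3 a a c).choose_spec.2.2⟩

/-- The canonical lift of `sg (xA a c w)`. -/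
noncomputable def Yc (K : DGood sg) (a c : ι) (w : F) : Γ :=
  dsp E lev sg (T a (mid K a c) 1) (xA (mid K a c) c w)

include D hη in
theorem Yb_eq (K : DGood sg) {a b c : ι} (hab : a ≠ b) (hbc : b ≠ c) (hac : a ≠ c) (t u : F) :
    dsp E lev sg (T a b t) (xA b c u) = Yc E (lev := lev) K a c (t * u) := by
  obtain ⟨d, hda, hdb, hdc⟩ := K.exists_off3 a b c
  have h1 := Yb_square E D η hη K hab hdc.symm hbc.symm hda hdb.symm 1 t u
  have h2 := Yb_square E D η hη K hab hdc.symm hbc.symm hda hdb.symm 1 1 (t * u)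
  rw [one_mul] at h1
  rw [one_mul] at h2
  rw [h1, ← h2, Yb_indep E D η hη K hab hbc (mid_ne K a c).1 (mid_ne K a c).2 hac]
  rfl

include D hη in
theorem Yc_swap (K : DGood sg) {a c : ι} (hac : a ≠ c) (w : F) :
    Yc E (lev := lev) K c a w = Yc E (lev := lev) K a c (-w) := by
  obtain ⟨h1, h2⟩ := mid_ne K c a
  obtain ⟨d, hdc, hdm, hda⟩ := K.exists_off3 c (mid K c a) a
  have h := Yb_square E D η hη K h1 hda.symm h2.symm hdc hdm.symm 1 1 w
  rw [one_mul, Yb_eq E D η hη K hda.symm hdc hac, one_mul] at h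
  exact h

include D in
theorem map_Yc (K : DGood sg) (a c : ι) (w : F) :
    σ (Yc E (lev := lev) K a c w) = sg (xA a c w) := by
  rw [Yc, map_Yb E D (mid_ne K a c).1 (mid_ne K a c).2, one_mul]

include D hη in
theorem Yc_add (K : DGood sg) (a c : ι) (w w' : F) :
    Yc E (lev := lev) K a c (w + w') = Yc E (lev := lev) K a c w * Yc E (lev := lev) K a c w' := by
  rw [Yc, xA_add, dsp_add E D η hη K]; rfl

include D hη in
/-- A transvection fixes the lifts of the basic matrix of its two indices. -/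
theorem dsp_fix_self (K : DGood sg) {a b : ι} (hab : a ≠ b) (t v : F) :
    dsp E lev sg (T a b t) (xA a b v) = 1 := by
  obtain ⟨i, hia, hib, -⟩ := K.exists_off3 a b b
  obtain ⟨j, hja, hjb, hji⟩ := K.exists_off3 a b i
  by_cases h2 : (2 : F) ≠ 0
  · exact (dsp_fix_two E D η hη K h2 hab hji.symm hia.symm hja.symm hib.symm hjb.symm t).2 v
  push Not at h2
  by_cases hA : ∃ μ : F, μ ≠ 0 ∧ μ ^ 2 ≠ 1
  · obtain ⟨μ, hμ0, hμ⟩ := hA
    refine dsp_fix_mu E D η hη hμ0 hμ hab t ?_ fun s => cg_T_self hab _ _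
    rw [cg_dg]
    simp [dvec, hab, hab.symm, mul_inv_cancel₀ hμ0]
  push Not at hA
  have hneg : (-1 : F) = 1 := by linear_combination -h2
  have hone : ∀ x : F, x = 0 ∨ x = 1 := fun x => by
    by_cases hx : x = 0
    · exact Or.inl hx
    · rcases sq_eq_one_iff.1 (hA x hx) with h | h
      · exact Or.inr h
      · exact Or.inr (h.trans hneg)
  rcases hone t with rfl | rfl
  · rw [T_zero, dsp_one E η hη]
  rcases hone v with rfl | rfl
  · rw [xA_zero, dsp_zero E D η hη]
  set Y := xA i j (1 : F) + xA a b (1 : F) with hY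
  have hg1 : cg (T a i 1 * T j b 1) Y = Y :=
    short_fix hab hji.symm hia.symm hja.symm hib.symm hjb.symm 1 1 1 1 (by linear_combination h2)
  have hL : cg (T i j (1 : F)) Y = Y := by
    rw [hY, map_add, cg_T_self hji.symm, cg_T_fix hja hjb]
  have e : ⁅T a i (1 : F) * T j b 1, T i j (1 : F)⁆ = T a b 1 * (T i b 1 * T a j (1 : F)) := by
    have c1 : ⁅T j b (1 : F), T i j (1 : F)⁆ = T i b 1 := by
      rw [T_comm' hji.symm hjb hib, one_mul, hneg]
    have c2 : ⁅T a i (1 : F), T i j (1 : F)⁆ = T a j 1 := by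
      rw [T_comm hia.symm hji.symm hja.symm, one_mul]
    have c3 : ⁅T a i (1 : F), T i b (1 : F)⁆ = T a b 1 := by
      rw [T_comm hia.symm hib hab, one_mul]
    calc ⁅T a i (1 : F) * T j b 1, T i j (1 : F)⁆
        = T a i 1 * ⁅T j b (1 : F), T i j 1⁆ * (T a i 1)⁻¹ * ⁅T a i (1 : F), T i j 1⁆ := by
          simp only [commutatorElement_def]; group
      _ = ⁅T a i (1 : F), T i b 1⁆ * T i b 1 * T a j 1 := by
          rw [c1, c2, commutatorElement_def]; group
      _ = _ := by rw [c3, mul_assoc]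
  have h0 := dsp_commutator E D η hη hg1 hL
  rw [e, dsp_mul E η hη, dsp_mul E η hη (T i b 1)] at h0
  have hA' : dsp E lev sg (T a j 1) Y = Yc E (lev := lev) K a i 1 := by
    rw [hY, dsp_add E D η hη K, dsp_fix_out E D η hη K hja.symm hab hja hjb, mul_one,
      xA_swap j i, hneg, Yb_eq E D η hη K hja.symm hji hia.symm, one_mul]
  have hB' : dsp E lev sg (T i b 1) Y = Yc E (lev := lev) K a i 1 := by
    rw [hY, dsp_add E D η hη K, dsp_fix_out E D η hη K hib hji.symm hib.symm hjb.symm, one_mul,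
      xA_swap b a, hneg, Yb_eq E D η hη K hib hab.symm hia, one_mul,
      Yc_swap E D η hη K hia.symm, hneg]
  have hconj : η (T i b 1) * Yc E (lev := lev) K a i 1 * (η (T i b (1 : F)))⁻¹ =
      Yc E (lev := lev) K a i 1 :=
    conj_fix E η hη (map_Yc E D K a i 1) (dsp_fix_out E D η hη K hib hia.symm hab.symm hib.symm _ _)
  rw [hA', hB', hconj, ← Yc_add E D η hη K, show (1 : F) + 1 = 0 by linear_combination h2,
    Yc, xA_zero, dsp_zero E D η hη, mul_one, mul_inv_cancel, one_mul, hY, dsp_add E D η hη K,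
    dsp_fix_out E D η hη K hab hji.symm hib.symm hjb.symm, one_mul] at h0
  exact h0

/-! ### The complement -/

/-- The homomorphism `sg` as a hom. -/
def sgHom (D : Datum lev sg) : Multiplicative (altM ι F) →* G where
  toFun X := sg X.toAdd
  map_one' := D.zero
  map_mul' X Y := D.add _ _

/-- The preimage of the alternating part. -/
def qh (σ : Γ →* G) (D : Datum lev sg) : Subgroup Γ := (sgHom D).range.comap σ

theorem mem_qh {D : Datum lev sg} {g : Γ} : g ∈ qh σ D ↔ ∃ X, σ g = sg X :=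
  ⟨fun ⟨X, hX⟩ => ⟨X.toAdd, hX.symm⟩, fun ⟨X, hX⟩ => ⟨Multiplicative.ofAdd X, hX.symm⟩⟩

theorem qh_comm {E : CEx σ} (D : Datum lev sg) (K : DGood sg) (a b : qh σ D) : a * b = b * a := by
  obtain ⟨X, hX⟩ := mem_qh.1 a.2
  obtain ⟨Y, hY⟩ := mem_qh.1 b.2
  exact Subtype.ext (lift_commute (E := E) D K hX hY)

include E D hη in
/-- The equivariant section on the alternating part. -/
theorem exists_section (K : DGood sg) : ∃ ψ : altM ι F → Γ,
    (∀ X Y, ψ (X + Y) = ψ X * ψ Y) ∧ (∀ X, σ (ψ X) = sg X) ∧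
      ∀ A X, η A * ψ X * (η A)⁻¹ = ψ (cg A X) := by
  classical
  letI : LinearOrder ι := LinearOrder.lift' (Fintype.equivFin ι) (Fintype.equivFin ι).injective
  letI : CommGroup (qh σ D) :=
    { (inferInstance : Group (qh σ D)) with mul_comm := qh_comm (E := E) D K }
  let Y : ι → ι → F →+ Additive (qh σ D) := fun a c =>
    AddMonoidHom.mk' (fun w => Additive.ofMul
      (⟨Yc E (lev := lev) K a c w, mem_qh.2 ⟨_, map_Yc E D K a c w⟩⟩ : qh σ D))
      fun w w' => congrArg Additive.ofMul (Subtype.ext (Yc_add E D η hη K a c w w'))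
  let co : ι × ι → altM ι F →+ F := fun p =>
    AddMonoidHom.mk' (fun X => X.1 p.1 p.2) fun X X' => rfl
  let Ψ : altM ι F →+ Additive (qh σ D) :=
    ∑ p ∈ (Finset.univ : Finset (ι × ι)).filter (fun p => p.1 < p.2), (Y p.1 p.2).comp (co p)
  let ψ : altM ι F → Γ := fun X => (Additive.toMul (Ψ X) : qh σ D).1
  have hadd : ∀ X X', ψ (X + X') = ψ X * ψ X' := fun X X' => by simp [ψ, map_add]
  have hbasis : ∀ a c : ι, a ≠ c → ∀ w : F, ψ (xA a c w) = Yc E (lev := lev) K a c w := by
    have hlt : ∀ a c : ι, a < c → ∀ w : F, ψ (xA a c w) = Yc E (lev := lev) K a c w := by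
      intro a c hac w
      show (Additive.toMul (Ψ (xA a c w)) : qh σ D).1 = _
      rw [AddMonoidHom.finset_sum_apply, Finset.sum_eq_single (a, c)]
      · show Yc E (lev := lev) K a c ((xA a c w).1 a c) = _
        congr 1
        simp [xA, xm, hac.ne, hac.ne']
      · rintro ⟨x, y⟩ hxy hne
        have hxy' : x < y := (Finset.mem_filter.1 hxy).2
        show Y x y ((xA a c w).1 x y) = 0
        have h0 : (xA a c w : altM ι F).1 x y = 0 := by
          simp only [xA, xm, Matrix.sub_apply, Matrix.single_apply]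
          rw [if_neg (fun e : a = x ∧ c = y => hne (by rw [e.1, e.2])),
            if_neg (fun e : c = x ∧ a = y => (lt_asymm hac) (e.1 ▸ e.2 ▸ hxy')), sub_zero]
        rw [h0, map_zero]
      · intro hn; exact absurd (by simp [hac]) hn
    intro a c hac w
    rcases lt_or_gt_of_ne hac with h | h
    · exact hlt a c h w
    · rw [Yc_swap E D η hη K hac.symm, ← hlt c a h, ← xA_swap]
  have hmap : ∀ X, σ (ψ X) = sg X := by
    intro X
    let H : AddSubgroup (altM ι F) :=
      { carrier := {X | σ (ψ X) = sg X}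
        zero_mem' := by
          show σ (ψ 0) = sg 0
          rw [D.zero]
          simp [ψ]
        add_mem' := fun {A B} hA hB => by
          show σ (ψ (A + B)) = sg (A + B)
          rw [hadd, map_mul, hA, hB, D.add]
        neg_mem' := fun {A} hA => by
          show σ (ψ (-A)) = sg (-A)
          have e1 : σ (ψ (-A)) * σ (ψ A) = sg (-A) * sg A := by
            rw [← map_mul, ← hadd, ← D.add, neg_add_cancel, D.zero]
            simp [ψ]
          rw [hA] at e1
          exact mul_right_cancel e1 }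
    exact mem_of_xA_mem (H := H) (fun a c hac w => show σ (ψ (xA a c w)) = sg (xA a c w) by
      rw [hbasis a c hac, map_Yc E D]) X
  refine ⟨ψ, hadd, hmap, fun A X => ?_⟩
  let S : Subgroup (SpecialLinearGroup ι F) :=
    { carrier := {A | ∀ X, η A * ψ X * (η A)⁻¹ = ψ (cg A X)}
      one_mem' := fun X => by simp [cg_one]
      mul_mem' := fun {A B} hA hB X => by
        rw [map_mul, cg_mul, ← hA, ← hB]; group
      inv_mem' := fun {A} hA X => by
        have h := hA (cg A⁻¹ X)
        rw [← cg_mul, mul_inv_cancel, cg_one] at h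
        rw [map_inv, ← h]; group }
  have hS : S = ⊤ := by
    refine LinearGroup.eq_top_of_transvection_mem fun a b hab t X => ?_
    rw [← T_of_ne hab]
    let H : AddSubgroup (altM ι F) :=
      { carrier := {X | η (T a b t) * ψ X * (η (T a b t))⁻¹ = ψ (cg (T a b t) X)}
        zero_mem' := by simp [ψ]
        add_mem' := fun {U V} hU hV => by
          show η (T a b t) * ψ (U + V) * (η (T a b t))⁻¹ = ψ (cg (T a b t) (U + V))
          rw [hadd, map_add, hadd, ← hU, ← hV]; group
        neg_mem' := fun {U} hU => by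
          show η (T a b t) * ψ (-U) * (η (T a b t))⁻¹ = ψ (cg (T a b t) (-U))
          have hn : ∀ V, ψ (-V) = (ψ V)⁻¹ := fun V => eq_inv_of_mul_eq_one_left (by
            rw [← hadd, neg_add_cancel]; simp [ψ])
          rw [map_neg, hn, hn, ← hU]; group }
    refine mem_of_xA_mem (H := H) (fun i j hij u => ?_) X
    show η (T a b t) * ψ (xA i j u) * (η (T a b t))⁻¹ = ψ (cg (T a b t) (xA i j u))
    by_cases hbi : b = i
    · subst hbi
      by_cases haj : a = j
      · subst haj
        rw [xA_swap a b u, cg_T_self hab, hbasis a b hab,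
          conj_fix E η hη (map_Yc E D K a b _) (dsp_fix_self E D η hη K hab _ _)]
      · rw [cg_T_move hab hij, hbasis b j hij,
          conj_lift E η hη (T a b t) (map_Yc E D K b j u), Yb_eq E D η hη K hab hij haj,
          add_comm, hadd, hbasis a j haj, hbasis b j hij]
    by_cases hbj : b = j
    · subst hbj
      rw [xA_swap b i u]
      by_cases hai : a = i
      · subst hai
        rw [← xA_swap b a, cg_T_self hab, hbasis a b hab,
          conj_fix E η hη (map_Yc E D K a b _) (dsp_fix_self E D η hη K hab _ _)]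
      · rw [cg_T_move hab hij.symm, hbasis b i hij.symm,
          conj_lift E η hη (T a b t) (map_Yc E D K b i (-u)), Yb_eq E D η hη K hab hij.symm hai,
          add_comm, hadd, hbasis a i hai, hbasis b i hij.symm]
    rw [cg_T_fix hbi hbj, hbasis i j hij,
      conj_fix E η hη (map_Yc E D K i j u) (dsp_fix_out E D η hη K hab hij hbi hbj _ _)]
  exact (hS ▸ Subgroup.mem_top A : A ∈ S) X

include E D in
/-- The kernel avoids the commutators of the preimage of `Alt ⋊ SL`. -/
theorem ker_inf_commutator (K : DGood sg)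
    (h1 : Cfsg.HasCyclicSchurMultiplier (SpecialLinearGroup ι F) 1) {H : Subgroup G}
    (hH : ∀ g ∈ H, ∃ X A, g = sg X * lev A) :
    σ.ker ⊓ ⁅H.comap σ, H.comap σ⁆ = ⊥ := by
  let ξ : (lev.range.comap σ : Subgroup Γ) →* lev.range :=
    (σ.comp (lev.range.comap σ).subtype).codRestrict lev.range fun g => g.2
  have hξ : Function.Surjective ξ := fun ⟨g, hg⟩ => by
    obtain ⟨x, rfl⟩ := E.surj g
    exact ⟨⟨x, hg⟩, rfl⟩
  have hξc : ξ.ker ≤ Subgroup.center _ := fun x hx => by
    have hx' : x.1 ∈ σ.ker := congrArg Subtype.val hx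
    exact Subgroup.mem_center_iff.2 fun y =>
      Subtype.ext (Subgroup.mem_center_iff.1 (E.central hx') y.1)
  have hperf : Group.IsPerfect (SpecialLinearGroup ι F) :=
    ⟨LinearGroup.commutator_SL_eq_top ((show 3 ≤ 4 by norm_num).trans K.four_le)⟩
  obtain ⟨η₀, hη₀⟩ := Cfsg.Agent.Schur.exists_lift_of_trivial hperf h1 lev.rangeRestrict ξ hξ hξc
  let η : SpecialLinearGroup ι F →* Γ := (lev.range.comap σ).subtype.comp η₀
  have hη : ∀ A, σ (η A) = lev A := fun A => congrArg Subtype.val (DFunLike.congr_fun hη₀ A)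
  obtain ⟨ψ, hadd, hmap, heq⟩ := exists_section E D η hη K
  have hψ0 : ψ 0 = 1 := by
    have h := hadd 0 0
    rw [add_zero] at h
    exact left_eq_mul.1 h
  let C : Subgroup Γ :=
    { carrier := {g | ∃ X A, g = ψ X * η A}
      one_mem' := ⟨0, 1, by rw [map_one, hψ0, one_mul]⟩
      mul_mem' := by
        rintro _ _ ⟨X, A, rfl⟩ ⟨Y, B, rfl⟩
        refine ⟨X + cg A Y, A * B, ?_⟩
        rw [hadd, ← heq, map_mul]
        group
      inv_mem' := by
        rintro _ ⟨X, A, rfl⟩
        refine ⟨cg A⁻¹ (-X), A⁻¹, ?_⟩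
        have hn : ψ (-X) = (ψ X)⁻¹ := eq_inv_of_mul_eq_one_left (by
          rw [← hadd, neg_add_cancel, hψ0])
        rw [← heq, hn, map_inv]
        group }
  have hle : ⁅H.comap σ, H.comap σ⁆ ≤ C := by
    rw [Subgroup.commutator_le]
    intro x hx y hy
    have key : ∀ z ∈ H.comap σ, ∃ c ∈ C, ∃ k ∈ Subgroup.center Γ, z = c * k := fun z hz => by
      obtain ⟨X, A, e⟩ := hH _ hz
      refine ⟨ψ X * η A, ⟨X, A, rfl⟩, (ψ X * η A)⁻¹ * z, E.central ?_, by group⟩
      rw [MonoidHom.mem_ker, map_mul, map_inv, map_mul, hmap, hη, e, inv_mul_cancel]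
    obtain ⟨c, hc, k, hk, rfl⟩ := key x hx
    obtain ⟨c', hc', k', hk', rfl⟩ := key y hy
    rw [Cfsg.Agent.Schur.commutatorElement_mul_central hk hk', commutatorElement_def]
    exact C.mul_mem (C.mul_mem (C.mul_mem hc hc') (C.inv_mem hc)) (C.inv_mem hc')
  rw [eq_bot_iff]
  rintro g ⟨hg, hg'⟩
  obtain ⟨X, A, rfl⟩ := hle hg'
  obtain ⟨rfl, rfl⟩ := D.inj X A (by rw [← hmap, ← hη, ← map_mul]; exact hg)
  rw [map_one, hψ0, one_mul, Subgroup.mem_bot]

end Cfsg.Agent.ClassMult
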