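import Cfsg.Agent.Lib.UnitaryOrthogonal.Eichler
import Mathlib.LinearAlgebra.Dual.Lemmas

/-!
Orthogonal singular vectors in `H ⊥ H ⊥ H ⊥ U`: common neighbours and transporters (helper74).
-/

set_option autoImplicit false

namespace Cfsg.Agent.ClassMult

open Cfsg.Agent.UnitaryOrthogonal QuadraticMap

universe v w

variable {F : Type v} [Field F]

section general

variable {V : Type w} [AddCommGroup V] [Module F V] {Q : QuadraticForm F V}

/-- Independent vectors have prescribed products with some vector. -/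
theorem exists_dual (hQ : PolarND Q) {n : ℕ} {s : Fin n → V} (hs : LinearIndependent F s)
    (val : Fin n → F) : ∃ x, ∀ i, polar Q x (s i) = val i := by
  let Φ : V →ₗ[F] (Fin n → F) := LinearMap.pi fun i => polarBilin Q (s i)
  by_cases htop : LinearMap.range Φ = ⊤
  · obtain ⟨x, hx⟩ := LinearMap.range_eq_top.1 htop val
    exact ⟨x, fun i => by rw [polar_comm]; exact congrFun hx i⟩
  · exfalso
    obtain ⟨f, hf0, hf⟩ := Submodule.exists_le_ker_of_lt_top _ (lt_top_iff_ne_top.2 htop)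
    have hz : ∑ i, f (Pi.single i 1) • s i = 0 := by
      refine hQ _ fun x => ?_
      have h : f (Φ x) = 0 := hf ⟨x, rfl⟩
      have e : Φ x = ∑ i, polar Q (s i) x • (Pi.single i 1 : Fin n → F) := by
        funext j
        simp [Φ, Finset.sum_apply, Pi.single_apply]
      rw [e, map_sum] at h
      simp only [map_smul, smul_eq_mul] at h
      show polarBilin Q (∑ i, f (Pi.single i 1) • s i) x = 0
      rw [map_sum, LinearMap.sum_apply]
      rw [← h]
      refine Finset.sum_congr rfl fun i _ => ?_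
      simp [mul_comm]
    have h0 := Fintype.linearIndependent_iff.1 hs _ hz
    refine hf0 (LinearMap.ext fun y => ?_)
    have e : y = ∑ i, y i • (Pi.single i 1 : Fin n → F) := by
      funext j
      simp [Finset.sum_apply, Pi.single_apply]
    rw [e, map_sum]
    simp [h0]

/-- Distinct orthogonal singular points. -/
def Adj (Q : QuadraticForm F V) (a b : V) : Prop :=
  Q a = 0 ∧ Q b = 0 ∧ polar Q a b = 0 ∧ LinearIndependent F ![a, b]

/-- Totally singular triples spanning a plane. -/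
def Tri (Q : QuadraticForm F V) (a b c : V) : Prop :=
  Q a = 0 ∧ Q b = 0 ∧ Q c = 0 ∧ polar Q a b = 0 ∧ polar Q a c = 0 ∧ polar Q b c = 0 ∧
    ∀ x y z : F, x • a + y • b + z • c = 0 → x = 0 ∧ y = 0 ∧ z = 0

theorem adj_iff {a b : V} : Adj Q a b ↔ Q a = 0 ∧ Q b = 0 ∧ polar Q a b = 0 ∧
    ∀ x y : F, x • a + y • b = 0 → x = 0 ∧ y = 0 := by
  rw [Adj, LinearIndependent.pair_iff]

theorem Adj.symm {a b : V} (h : Adj Q a b) : Adj Q b a := by
  rw [adj_iff] at h ⊢
  obtain ⟨h1, h2, h3, h4⟩ := h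
  exact ⟨h2, h1, by rw [polar_comm]; exact h3, fun x y e => (h4 y x (by rwa [add_comm])).symm⟩

theorem Tri.adj12 {a b c : V} (h : Tri Q a b c) : Adj Q a b := by
  obtain ⟨h1, h2, -, h4, -, -, h7⟩ := h
  refine adj_iff.2 ⟨h1, h2, h4, fun x y e => ?_⟩
  obtain ⟨e1, e2, -⟩ := h7 x y 0 (by rw [zero_smul, add_zero]; exact e)
  exact ⟨e1, e2⟩

theorem Tri.swap12 {a b c : V} (h : Tri Q a b c) : Tri Q b a c := by
  obtain ⟨h1, h2, h3, h4, h5, h6, h7⟩ := h
  refine ⟨h2, h1, h3, by rw [polar_comm]; exact h4, h6, h5, fun x y z e => ?_⟩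
  obtain ⟨e1, e2, e3⟩ := h7 y x z (by rw [← e]; abel)
  exact ⟨e2, e1, e3⟩

theorem Tri.swap23 {a b c : V} (h : Tri Q a b c) : Tri Q a c b := by
  obtain ⟨h1, h2, h3, h4, h5, h6, h7⟩ := h
  refine ⟨h1, h3, h2, h5, h4, by rw [polar_comm]; exact h6, fun x y z e => ?_⟩
  obtain ⟨e1, e2, e3⟩ := h7 x z y (by rw [← e]; abel)
  exact ⟨e1, e3, e2⟩

theorem Tri.adj13 {a b c : V} (h : Tri Q a b c) : Adj Q a c := h.swap23.adj12

theorem Tri.adj23 {a b c : V} (h : Tri Q a b c) : Adj Q b c := h.swap12.adj13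

theorem Tri.smul_fst {a b c : V} (h : Tri Q a b c) {k : F} (hk : k ≠ 0) : Tri Q (k • a) b c := by
  obtain ⟨h1, h2, h3, h4, h5, h6, h7⟩ := h
  refine ⟨by simp [form_smul, h1], h2, h3, by simp [polar_smul_left, h4],
    by simp [polar_smul_left, h5], h6, fun x y z e => ?_⟩
  obtain ⟨e1, e2, e3⟩ := h7 (x * k) y z (by rwa [mul_smul])
  exact ⟨(mul_eq_zero.1 e1).resolve_right hk, e2, e3⟩

theorem Adj.map {a b : V} (h : Adj Q a b) (g : orth Q) : Adj Q (g.1 a) (g.1 b) := by
  rw [adj_iff] at h ⊢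
  refine ⟨by simp [h.1], by simp [h.2.1], by simp [h.2.2.1], fun x y e => h.2.2.2 x y ?_⟩
  apply g.1.injective
  simpa using e

theorem Tri.map {a b c : V} (h : Tri Q a b c) (g : orth Q) : Tri Q (g.1 a) (g.1 b) (g.1 c) := by
  obtain ⟨h1, h2, h3, h4, h5, h6, h7⟩ := h
  refine ⟨by simp [h1], by simp [h2], by simp [h3], by simp [h4], by simp [h5], by simp [h6],
    fun x y z e => h7 x y z ?_⟩
  apply g.1.injective
  simpa using e

theorem Adj.exists_dual {v v' : V} (h : Adj Q v v') (hQ : PolarND Q) :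
    ∃ z, polar Q (v' - v) z = 0 ∧ polar Q z v = -1 := by
  obtain ⟨x, hx⟩ := ClassMult.exists_dual hQ h.2.2.2 ![-1, -1]
  have h0 : polar Q x v = -1 := hx 0
  have h1 : polar Q x v' = -1 := hx 1
  exact ⟨x, by rw [polar_sub_left, polar_comm Q v', polar_comm Q v, h0, h1, sub_self], h0⟩

theorem Tri.exists_dual {a b c : V} (h : Tri Q a b c) (hQ : PolarND Q) :
    ∃ z, Q z = 0 ∧ polar Q z a = -1 ∧ polar Q z b = -1 ∧ polar Q z c = -1 := by
  obtain ⟨h1, -, -, h4, h5, -, h7⟩ := h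
  have hli : LinearIndependent F ![a, b, c] := by
    rw [Fintype.linearIndependent_iff]
    intro g hg
    simp [Fin.sum_univ_three] at hg
    obtain ⟨e0, e1, e2⟩ := h7 _ _ _ hg
    intro i
    fin_cases i <;> assumption
  obtain ⟨x, hx⟩ := ClassMult.exists_dual hQ hli ![-1, -1, -1]
  have ha : polar Q x a = -1 := hx 0
  have hb : polar Q x b = -1 := hx 1
  have hc : polar Q x c = -1 := hx 2
  refine ⟨x + Q x • a, ?_, ?_, ?_, ?_⟩
  · simp [form_add, form_smul, h1, polar_smul_right, ha]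
  · simp [polar_add_left, polar_smul_left, ha, polar_self_eq, h1]
  · simp [polar_add_left, polar_smul_left, hb, h4]
  · simp [polar_add_left, polar_smul_left, hc, h5]

end general

variable {U : Type w} [AddCommGroup U] [Module F U] {M : QuadraticForm F U}

local notation "W" => (F × F) × ((F × F) × U)

variable (hM : PolarND M)
include hM

theorem exists_perp_one {k : W} (hk : hyp (hyp M) k = 0) (hk0 : k ≠ 0) :
    ∃ x : W, hyp (hyp M) x = 0 ∧ polar (hyp (hyp M)) k x = 0 ∧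
      ∀ a b : F, a • k + b • x = 0 → a = 0 ∧ b = 0 := by
  have hN : Nonsing (hyp (hyp M)) := hM.hyp.hyp.nonsing
  obtain ⟨v, hv, hkv⟩ := exists_pair hN hk hk0
  obtain ⟨g, -, hge, -⟩ := exists_elem_map_pair hN (hyp_eVec (Q := hyp M)) (hyp_fVec (Q := hyp M))
    polar_eVec_fVec hk hv hkv
  refine ⟨g.1 (inW (eVec F U)), by simp [eVec], by rw [← hge, map_polar, polar_eVec_inW], fun a b e => ?_⟩
  rw [← hge, ← map_smul, ← map_smul, ← map_add] at e
  have e' := g.1.injective (e.trans (map_zero g.1).symm)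
  simpa [eVec, inW_apply, Prod.ext_iff] using e'

theorem exists_perp_two {k k' : W} (hk : hyp (hyp M) k = 0) (hk' : hyp (hyp M) k' = 0)
    (h : polar (hyp (hyp M)) k k' ≠ 0) :
    ∃ x : W, hyp (hyp M) x = 0 ∧ polar (hyp (hyp M)) k x = 0 ∧ polar (hyp (hyp M)) k' x = 0 ∧
      (∀ a b : F, a • k + b • x = 0 → a = 0 ∧ b = 0) ∧
      ∀ a b : F, a • k' + b • x = 0 → a = 0 ∧ b = 0 := by
  have hN : Nonsing (hyp (hyp M)) := hM.hyp.hyp.nonsing
  obtain ⟨g, -, hge, hgf⟩ := exists_elem_map_pair hN (hyp_eVec (Q := hyp M)) (hyp_fVec (Q := hyp M))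
    polar_eVec_fVec hk (v' := (polar (hyp (hyp M)) k k')⁻¹ • k') (by rw [form_smul, hk', mul_zero])
    (by rw [polar_smul_right, smul_eq_mul, inv_mul_cancel₀ h])
  have hk'' : k' = g.1 (polar (hyp (hyp M)) k k' • fVec F ((F × F) × U)) := by
    rw [map_smul, hgf, smul_smul, mul_inv_cancel₀ h, one_smul]
  refine ⟨g.1 (inW (eVec F U)), by simp [eVec], by rw [← hge, map_polar, polar_eVec_inW],
    by rw [hk'', map_polar, polar_smul_left, polar_fVec_inW, smul_zero], fun a b e => ?_,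
    fun a b e => ?_⟩
  · rw [← hge, ← map_smul, ← map_smul, ← map_add] at e
    have e' := g.1.injective (e.trans (map_zero g.1).symm)
    simpa [eVec, inW_apply, Prod.ext_iff] using e'
  · rw [hk'', ← map_smul, ← map_smul, ← map_add, smul_smul] at e
    have e' := g.1.injective (e.trans (map_zero g.1).symm)
    simp [eVec, fVec, inW_apply, Prod.ext_iff, h] at e'
    exact e'

local notation "QV" => hyp (hyp (hyp M))

omit hM in
theorem tri_coords {k k' : W} (hk : hyp (hyp M) k = 0) (hk' : hyp (hyp M) k' = 0)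
    (hp : polar (hyp (hyp M)) k k' = 0) (hind : ∀ a b : F, a • k + b • k' = 0 → a = 0 ∧ b = 0)
    (a a' : F) :
    Tri QV (eVec F W) (((a, 0), k) : (F × F) × W) ((a', 0), k') ∧
      Tri QV (fVec F W) (((0, a), k) : (F × F) × W) ((0, a'), k') := by
  constructor <;>
  · refine ⟨by simp [eVec, fVec], by simp [hk], by simp [hk'], by simp [eVec, fVec, polar_hyp],
      by simp [eVec, fVec, polar_hyp], by simp [polar_hyp, hp], fun x y z e => ?_⟩
    simp [eVec, fVec, Prod.ext_iff] at e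
    obtain ⟨e1, e2⟩ := hind y z (by simp [Prod.ext_iff]; exact e.2)
    subst e1 e2
    simpa using e.1

omit hM in
theorem tri_coords' {k x : W} (hk : hyp (hyp M) k = 0) (hx : hyp (hyp M) x = 0)
    (hp : polar (hyp (hyp M)) k x = 0) (hind : ∀ a b : F, a • k + b • x = 0 → a = 0 ∧ b = 0)
    {t : F} (ht : t ≠ 0) (b : F) :
    Tri QV (((0, 0), x) : (F × F) × W) ((0, t), 0) ((0, b), k) := by
  refine ⟨by simp [hx], by simp, by simp [hk], by simp [polar_hyp], by
    simp [polar_hyp, polar_comm _ x k, hp], by simp [polar_hyp], fun r y z e => ?_⟩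
  simp [Prod.ext_iff] at e
  obtain ⟨e1, e2⟩ := hind z r (by
    rw [add_comm]; simp [Prod.ext_iff]; exact e.2)
  subst e1 e2
  simpa [ht] using e.1

/-- Coordinates adapted to a hyperbolic pair. -/
theorem exists_coords {e f : (F × F) × W} (he : QV e = 0) (hf : QV f = 0)
    (hef : polar QV e f = 1) :
    ∃ g : orth QV, g.1 (eVec F W) = e ∧ g.1 (fVec F W) = f := by
  obtain ⟨g, -, h1, h2⟩ := exists_elem_map_pair hM.hyp.hyp.hyp.nonsing
    (hyp_eVec (Q := hyp (hyp M))) (hyp_fVec (Q := hyp (hyp M))) polar_eVec_fVec he hf hef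
  exact ⟨g, h1, h2⟩

omit hM in
/-- A neighbour in coordinates. -/
theorem adj_eVec_coords {w : (F × F) × W} (h : Adj QV (eVec F W) w) :
    ∃ a k, w = ((a, 0), k) ∧ hyp (hyp M) k = 0 ∧ k ≠ 0 := by
  obtain ⟨-, h2, h3, h4⟩ := adj_iff.1 h
  obtain ⟨⟨a, b⟩, k⟩ := w
  simp at h3
  subst h3
  refine ⟨a, k, rfl, by simpa using h2, fun hk => ?_⟩
  have := h4 a (-1) (by simp [eVec, hk, Prod.ext_iff])
  simp at this

/-- A vector joining two neighbours. -/
theorem link {e f w w' : (F × F) × W} (he : QV e = 0) (hf : QV f = 0) (hef : polar QV e f = 1)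
    (hw : Adj QV e w) (hw' : Adj QV e w') :
    (Tri QV e w w' ∧ (polar QV f w = 0 → polar QV f w' = 0 → Tri QV f w w')) ∨
      ∃ x, Tri QV e w x ∧ Tri QV e w' x ∧
        (polar QV f w = 0 → Tri QV f w x) ∧ (polar QV f w' = 0 → Tri QV f w' x) := by
  obtain ⟨g, rfl, rfl⟩ := exists_coords hM he hf hef
  have hcoord : ∀ u, Adj QV (g.1 (eVec F W)) u → ∃ a k, u = g.1 ((a, 0), k) ∧
      hyp (hyp M) k = 0 ∧ k ≠ 0 := fun u hu => by
    have h := hu.map g⁻¹
    rw [coe_inv_apply_apply] at h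
    obtain ⟨a, k, e, h1, h2⟩ := adj_eVec_coords h
    exact ⟨a, k, by rw [← e, coe_apply_inv_apply], h1, h2⟩
  obtain ⟨a, k, rfl, hk, hk0⟩ := hcoord w hw
  obtain ⟨a', k', rfl, hk', hk0'⟩ := hcoord w' hw'
  have hfp : ∀ (a : F) (k : W),
      polar QV (g.1 (fVec F W)) (g.1 (((a, 0), k) : (F × F) × W)) = a := fun a k => by simp
  simp only [hfp]
  by_cases hp : polar (hyp (hyp M)) k k' = 0
  · by_cases hind : ∀ r s : F, r • k + s • k' = 0 → r = 0 ∧ s = 0
    · refine Or.inl ⟨(tri_coords hk hk' hp hind a a').1.map g, fun h1 h2 => ?_⟩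
      subst h1 h2
      exact (tri_coords hk hk' hp hind 0 0).2.map g
    · obtain ⟨c, hc, hkc⟩ : ∃ c : F, c ≠ 0 ∧ k' = c • k := by
        simp only [not_forall] at hind
        obtain ⟨r, s, hrs, hne⟩ := hind
        have hs : s ≠ 0 := fun h => by
          subst h
          simp [hk0] at hrs
          exact hne ⟨hrs, rfl⟩
        have hr : r ≠ 0 := fun h => by
          subst h
          simp [hk0'] at hrs
          exact hs hrs
        refine ⟨-(r / s), neg_ne_zero.2 (div_ne_zero hr hs), ?_⟩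
        rw [add_comm, add_eq_zero_iff_eq_neg] at hrs
        rw [← inv_smul_smul₀ hs k', hrs, smul_neg, smul_smul, neg_smul, div_eq_inv_mul]
      obtain ⟨x, hx, hkx, hind⟩ := exists_perp_one hM hk hk0
      have hk'x : polar (hyp (hyp M)) k' x = 0 := by rw [hkc, polar_smul_left, hkx, smul_zero]
      have hind' : ∀ r s : F, r • k' + s • x = 0 → r = 0 ∧ s = 0 := fun r s e => by
        rw [hkc, smul_smul] at e
        obtain ⟨h1, h2⟩ := hind _ _ e
        exact ⟨(mul_eq_zero.1 h1).resolve_right hc, h2⟩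
      refine Or.inr ⟨g.1 ((0, 0), x), (tri_coords hk hx hkx hind a 0).1.map g,
        (tri_coords hk' hx hk'x hind' a' 0).1.map g, fun h => ?_, fun h => ?_⟩ <;> subst h
      · exact (tri_coords hk hx hkx hind 0 0).2.map g
      · exact (tri_coords hk' hx hk'x hind' 0 0).2.map g
  · obtain ⟨x, hx, hkx, hk'x, hind, hind'⟩ := exists_perp_two hM hk hk' hp
    refine Or.inr ⟨g.1 ((0, 0), x), (tri_coords hk hx hkx hind a 0).1.map g,
      (tri_coords hk' hx hk'x hind' a' 0).1.map g, fun h => ?_, fun h => ?_⟩ <;> subst h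
    · exact (tri_coords hk hx hkx hind 0 0).2.map g
    · exact (tri_coords hk' hx hk'x hind' 0 0).2.map g

/-- Every singular vector off the neighbourhood of `eVec` has a common neighbour with it. -/
theorem exists_common {v : (F × F) × W} (hv : QV v = 0) (hv0 : v ≠ 0)
    (hnadj : ¬ Adj QV (eVec F W) v) : ∃ w, Adj QV (eVec F W) w ∧ Adj QV w v := by
  obtain ⟨f, hf, hef, c, hc, hvc⟩ : ∃ f, QV f = 0 ∧ polar QV (eVec F W) f = 1 ∧ ∃ c : F, c ≠ 0 ∧
      (v = c • eVec F W ∨ v = c • f) := by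
    by_cases hp : polar QV (eVec F W) v = 0
    · refine ⟨fVec F W, hyp_fVec, polar_eVec_fVec, ?_⟩
      have hn : ¬ LinearIndependent F ![eVec F W, v] := fun h => hnadj ⟨hyp_eVec, hv, hp, h⟩
      rw [LinearIndependent.pair_iff] at hn
      simp only [not_forall] at hn
      obtain ⟨r, s, hrs, hne⟩ := hn
      have hs : s ≠ 0 := fun h => by
        subst h
        simp [eVec_ne_zero] at hrs
        exact hne ⟨hrs, rfl⟩
      have hve : v = (-(r / s)) • eVec F W := by
        rw [add_comm, add_eq_zero_iff_eq_neg] at hrs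
        rw [← inv_smul_smul₀ hs v, hrs, smul_neg, smul_smul, neg_smul, div_eq_inv_mul]
      exact ⟨_, fun h => hv0 (by rw [hve, h, zero_smul]), Or.inl hve⟩
    · exact ⟨(polar QV (eVec F W) v)⁻¹ • v, by rw [form_smul, hv, mul_zero],
        by rw [polar_smul_right, smul_eq_mul, inv_mul_cancel₀ hp], _, hp,
        Or.inr (by rw [smul_smul, mul_inv_cancel₀ hp, one_smul])⟩
  obtain ⟨g, hge, hgf⟩ := exists_coords hM hyp_eVec hf hef
  have hind : ∀ r s : F, r • eVec F ((F × F) × U) + s • inW (eVec F U) = 0 → r = 0 ∧ s = 0 :=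
    fun r s e => by simpa [eVec, inW_apply, Prod.ext_iff] using e
  obtain ⟨T1, T2⟩ := tri_coords (M := M) (k := eVec F ((F × F) × U)) (k' := inW (eVec F U))
    hyp_eVec (by simp [eVec]) (polar_eVec_inW _) hind 0 0
  refine ⟨g.1 ((0, 0), eVec F ((F × F) × U)), hge ▸ T1.adj12.map g, ?_⟩
  rcases hvc with rfl | rfl
  · conv_rhs => rw [← hge]
    exact ((T1.smul_fst hc).map g).adj12.symm |> fun h => by rwa [map_smul] at h
  · conv_rhs => rw [← hgf]
    exact ((T2.smul_fst hc).map g).adj12.symm |> fun h => by rwa [map_smul] at h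

/-- The two configurations on an edge. -/
theorem edge_near {v v' : (F × F) × W} (hv : Adj QV (eVec F W) v) (hv' : Adj QV (eVec F W) v')
    (h : Adj QV v v') :
    Tri QV (eVec F W) v v' ∨
      ∃ x, Tri QV (eVec F W) v x ∧ Tri QV (eVec F W) v' x ∧ Tri QV v v' x := by
  obtain ⟨a, k, rfl, hk, hk0⟩ := adj_eVec_coords hv
  obtain ⟨a', k', rfl, hk', hk0'⟩ := adj_eVec_coords hv'
  have hp : polar (hyp (hyp M)) k k' = 0 := by simpa [polar_hyp] using h.2.2.1
  by_cases hind : ∀ r s : F, r • k + s • k' = 0 → r = 0 ∧ s = 0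
  · exact Or.inl (tri_coords hk hk' hp hind a a').1
  obtain ⟨x, hx, hkx, hindx⟩ := exists_perp_one hM hk hk0
  simp only [not_forall] at hind
  obtain ⟨r, s, hrs, hne⟩ := hind
  have hs : s ≠ 0 := fun h => by
    subst h
    simp [hk0] at hrs
    exact hne ⟨hrs, rfl⟩
  have hkc : k' = (-(r / s)) • k := by
    rw [add_comm, add_eq_zero_iff_eq_neg] at hrs
    rw [← inv_smul_smul₀ hs k', hrs, smul_neg, smul_smul, neg_smul, div_eq_inv_mul]
  have hc : -(r / s) ≠ 0 := fun h => hk0' (by rw [hkc, h, zero_smul])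
  have hk'x : polar (hyp (hyp M)) k' x = 0 := by rw [hkc, polar_smul_left, hkx, smul_zero]
  have hind' : ∀ r s : F, r • k' + s • x = 0 → r = 0 ∧ s = 0 := fun r' s' e => by
    rw [hkc, smul_smul] at e
    obtain ⟨h1, h2⟩ := hindx _ _ e
    exact ⟨(mul_eq_zero.1 h1).resolve_right hc, h2⟩
  refine Or.inr ⟨((0, 0), x), (tri_coords hk hx hkx hindx a 0).1,
    (tri_coords hk' hx hk'x hind' a' 0).1, ?_⟩
  obtain ⟨h1, h2, h3, h4⟩ := adj_iff.1 h
  refine ⟨h1, h2, by simp [hx], h3, by simp [polar_hyp, hkx], by simp [polar_hyp, hk'x],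
    fun X Y Z e => ?_⟩
  have eW : (X + Y * -(r / s)) • k + Z • x = 0 := by
    have := congrArg Prod.snd e
    simp at this
    rw [hkc, smul_smul, ← add_smul] at this
    exact this
  obtain ⟨-, hZ⟩ := hindx _ _ eW
  subst hZ
  rw [zero_smul, add_zero] at e
  obtain ⟨h5, h6⟩ := h4 X Y e
  exact ⟨h5, h6, rfl⟩

/-- An edge off the neighbourhood of `eVec`. -/
theorem edge_far {v v' : (F × F) × W} (hv : polar QV (eVec F W) v ≠ 0) (h : Adj QV v v')
    (hv' : polar QV (eVec F W) v' ≠ 0) :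
    ∃ x, Adj QV (eVec F W) x ∧ Tri QV x v v' := by
  obtain ⟨t, ht⟩ : ∃ t, polar QV (eVec F W) v = t := ⟨_, rfl⟩
  rw [ht] at hv
  obtain ⟨h1, h2, h3, h4⟩ := adj_iff.1 h
  obtain ⟨g, hge, hgf⟩ := exists_coords hM (e := eVec F W) (f := t⁻¹ • v) hyp_eVec
    (by rw [form_smul, h1, mul_zero])
    (by rw [polar_smul_right, ht, smul_eq_mul, inv_mul_cancel₀ hv])
  have hvg : v = g.1 (((0, t), 0) : (F × F) × W) := by
    rw [show (((0, t), 0) : (F × F) × W) = t • fVec F W by simp [fVec], map_smul, hgf, smul_smul,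
      mul_inv_cancel₀ hv, one_smul]
  obtain ⟨⟨⟨a, b⟩, k⟩, rfl⟩ := g.1.surjective v'
  rw [hvg, map_polar] at h3
  simp [polar_hyp, hv] at h3
  subst h3
  have hk : hyp (hyp M) k = 0 := by simpa using h2
  have hk0 : k ≠ 0 := by
    intro hk0
    subst hk0
    have e : (b / t) • v + (-1 : F) • g.1 (((0, b), 0) : (F × F) × W) = 0 := by
      rw [hvg, ← map_smul, ← map_smul, ← map_add, map_eq_zero_iff _ g.1.injective]
      simp [div_mul_cancel₀ _ hv]
    have := (h4 _ _ e).2
    simp at this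
  obtain ⟨x, hx, hkx, hind⟩ := exists_perp_one hM hk hk0
  refine ⟨g.1 ((0, 0), x), ?_, hvg ▸ (tri_coords' hk hx hkx hind hv b).map g⟩
  have := ((tri_coords hk hx hkx hind 0 0).1).adj13.map g
  rwa [hge] at this

end Cfsg.Agent.ClassMult
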