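import Cfsg.Agent.ClassMult.PlusBound
import Cfsg.Agent.Lib.UnitaryOrthogonal.KleinPSU

/-!
The part prime to `p` of the multiplier of `Ω⁻_2l(q)`, from the one of `SU_4(q)` (helper74).
-/

set_option autoImplicit false

namespace Cfsg.Agent.ClassMult

open Cfsg.Agent.UnitaryOrthogonal QuadraticMap QuadraticAlgebra
open Cfsg.Agent.CharB.PSLMult hiding emb
open scoped Matrix

universe v

variable {F : Type v} [Field F] [Finite F] {a b : F}

theorem exists_suOrth [Fintype F] (hab : BinAniso a b) [Fact (∀ r : F, r ^ 2 ≠ -b + a * r)] :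
    ∃ f : Cfsg.SU 4 (QuadraticAlgebra F (-b) a) (Fintype.card F) →* orth (hypSum 2 (binForm a b)),
      f ≠ 1 ∧ ∀ g, f g = 1 → ∀ z, hermKlein g z = z := by
  obtain ⟨Ψ, hΨ⟩ := exists_hermEquiv hab
  let toEquiv : Cfsg.SU 4 (QuadraticAlgebra F (-b) a) (Fintype.card F) →*
      ((((Fin 2 → F) × (Fin 2 → F)) × (F × F)) ≃ₗ[F] (((Fin 2 → F) × (Fin 2 → F)) × (F × F))) :=
    { toFun := fun g =>
        { toFun := fun v => Ψ.symm (hermKlein g (Ψ v))
          invFun := fun v => Ψ.symm (hermKlein g⁻¹ (Ψ v))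
          map_add' := fun v w => by simp
          map_smul' := fun c v => by simp
          left_inv := fun v => by
            simp only [LinearEquiv.apply_symm_apply]
            rw [← Module.End.mul_apply, ← map_mul, inv_mul_cancel, map_one, Module.End.one_apply,
              LinearEquiv.symm_apply_apply]
          right_inv := fun v => by
            simp only [LinearEquiv.apply_symm_apply]
            rw [← Module.End.mul_apply, ← map_mul, mul_inv_cancel, map_one, Module.End.one_apply,
              LinearEquiv.symm_apply_apply] }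
      map_one' := LinearEquiv.ext fun v => by simp
      map_mul' := fun g h => LinearEquiv.ext fun v => by simp }
  let f : Cfsg.SU 4 (QuadraticAlgebra F (-b) a) (Fintype.card F) →*
      orth (hypSum 2 (binForm a b)) := toEquiv.codRestrict _ fun g v => by
    show hypSum 2 (binForm a b) (Ψ.symm (hermKlein g (Ψ v))) = _
    rw [← hΨ, LinearEquiv.apply_symm_apply, norm_hermKlein, hΨ]
  have hker : ∀ g, f g = 1 → ∀ z, hermKlein g z = z := fun g hg z => by
    have h2 := DFunLike.congr_fun (congrArg Subtype.val hg) (Ψ.symm z)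
    change Ψ.symm (hermKlein g (Ψ (Ψ.symm z))) = Ψ.symm z at h2
    rw [LinearEquiv.apply_symm_apply] at h2
    exact Ψ.symm.injective h2
  refine ⟨f, fun h => ?_, hker⟩
  obtain ⟨g, hg⟩ := hermKlein_ne_one hab
  exact hg (LinearMap.ext fun z => hker g (DFunLike.congr_fun h g) z)

theorem closure_pel_SU {K : Type v} [Field K] [Fintype K] {q n : ℕ} (hK : Fintype.card K = q ^ 2)
    (hn : 3 ≤ n) (h32 : ¬(n = 3 ∧ q = 2)) {p : ℕ} (hp : p.Prime) (hpd : p ∣ Nat.card (Cfsg.SU n K q))
    (hpz : ¬ p ∣ Nat.card (Subgroup.center (Cfsg.SU n K q))) :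
    Subgroup.closure {g : Cfsg.SU n K q | Pel p g} = ⊤ := by
  have hperf := Unitary.commutator_SU_eq_top (n := n) hK hn h32
  haveI := Unitary.isSimpleGroup_PSU (n := n) hK hn h32
  set N := Subgroup.closure {g : Cfsg.SU n K q | Pel p g} with hN
  haveI hNn : N.Normal := ⟨fun x hx g => by
    induction hx using Subgroup.closure_induction with
    | mem y hy => exact Subgroup.subset_closure (hy.conj g)
    | one => simp [one_mem]
    | mul y z _ _ hy hz => rw [conj_mul.symm]; exact mul_mem hy hz
    | inv y _ hy => rw [conj_inv.symm]; exact inv_mem hy⟩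
  haveI : Fact p.Prime := ⟨hp⟩
  obtain ⟨g, hg⟩ := exists_prime_orderOf_dvd_card' p hpd
  have hgN : g ∈ N := Subgroup.subset_closure ⟨1, by rw [pow_one, ← hg, pow_orderOf_eq_one]⟩
  have hn' : (N.map (QuotientGroup.mk' (Subgroup.center (Cfsg.SU n K q)))).Normal :=
    hNn.map _ (QuotientGroup.mk'_surjective _)
  rcases hn'.eq_bot_or_eq_top with h | h
  · rw [Subgroup.map_eq_bot_iff, QuotientGroup.ker_mk'] at h
    refine absurd ?_ hpz
    rw [← hg, ← Subgroup.orderOf_mk _ (h hgN)]
    exact orderOf_dvd_natCard _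
  · refine eq_top_of_sup_center hperf ?_
    have := congrArg (Subgroup.comap (QuotientGroup.mk' (Subgroup.center (Cfsg.SU n K q)))) h
    rwa [Subgroup.comap_map_eq, QuotientGroup.ker_mk', Subgroup.comap_top] at this

theorem pBound_six_minus [Fintype F] (hab : BinAniso a b) {p : ℕ} (hp : p.Prime) [CharP F p]
    [Fact (∀ r : F, r ^ 2 ≠ -b + a * r)]
    (hSU : PTriv.{v} p (Cfsg.SU 4 (QuadraticAlgebra F (-b) a) (Fintype.card F))) :
    PBound.{v} p (dOrth F) (eichGroup (hyp (hyp (hypSum 0 (binForm a b))))) := by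
  classical
  haveI : Finite (QuadraticAlgebra F (-b) a) :=
    Finite.of_equiv _ (QuadraticAlgebra.equivProd (-b) a).symm
  haveI := Fintype.ofFinite (QuadraticAlgebra F (-b) a)
  set q := Fintype.card F with hqdef
  have hK : Fintype.card (QuadraticAlgebra F (-b) a) = q ^ 2 := by
    rw [← Nat.card_eq_fintype_card, quadExt_card, Nat.card_eq_fintype_card]
  have h32 : ¬ (4 = 3 ∧ q = 2) := by omega
  have hperf := Unitary.commutator_SU_eq_top (n := 4) hK (by norm_num) h32
  haveI := Unitary.isSimpleGroup_PSU (n := 4) hK (by norm_num) h32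
  have hB := base_binForm hab
  have hex : 1 ≤ 0 ∨ ∃ c, binForm a b c ≠ 0 := Or.inr (exists_binForm_ne_zero a b)
  obtain ⟨htwo, hodd⟩ := index_commutator_orth hB (k := 0) hex
  obtain ⟨f, hf, hfk⟩ := exists_suOrth hab
  have hle : f.range ≤ commutator (orth (hypSum 2 (binForm a b))) := by
    rw [MonoidHom.range_eq_map, ← hperf, _root_.commutator_def, Subgroup.map_commutator,
      _root_.commutator_def]
    exact Subgroup.commutator_mono le_top le_top
  have hker : f.ker ≤ Subgroup.center _ := ker_le_center_of_ne_one hperf hf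
  haveI : CharP (QuadraticAlgebra F (-b) a) p :=
    charP_of_injective_algebraMap (algebraMap F _).injective p
  have hd : dOrth (QuadraticAlgebra F (-b) a) = dOrth F := by
    have : (2 : QuadraticAlgebra F (-b) a) = 0 ↔ (2 : F) = 0 := by
      rw [← map_ofNat (algebraMap F (QuadraticAlgebra F (-b) a)) 2, map_eq_zero_iff _
        (algebraMap F _).injective]
    simp [dOrth, this]
  have hsc : ∀ g : f.ker, ∃ r : QuadraticAlgebra F (-b) a, r ^ 2 = 1 ∧
      ∀ x : Fin 4 → QuadraticAlgebra F (-b) a, g.1 • x = r • x := fun g => by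
    obtain ⟨r, hr⟩ := (Unitary.mem_center_iff hK (by norm_num)).1 (hker g.2)
    refine ⟨r, ?_, hr⟩
    have hM : g.1.1.1 = Matrix.diagonal fun _ => r := by
      ext i j : 1
      have h := congrFun (hr (Pi.single j 1)) i
      change (g.1.1.1 *ᵥ Pi.single j 1) i = _ at h
      simp only [Matrix.mulVec_single, MulOpposite.op_one, one_smul, Matrix.col_apply,
        Pi.smul_apply, smul_eq_mul] at h
      rw [h, Matrix.diagonal_apply]
      by_cases hij : i = j
      · subst hij; simp
      · simp [Pi.single_apply, hij]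
    have h := congrFun (hfk g.1 (MonoidHom.mem_ker.1 g.2) (![1, 0, 0] : Fin 3 → _)) 0
    simp [hermKlein, kReal_apply, kAct_apply, kMat, kCoord, hM, Matrix.diagonal,
      Matrix.mul_apply, Fin.sum_univ_four] at h
    rw [pow_two]; exact h
  have hcard : Nat.card f.ker ≤ dOrth F := by
    refine le_trans ?_ (le_trans (card_sq_one_le (F := QuadraticAlgebra F (-b) a)) hd.le)
    refine Nat.card_le_card_of_injective
      (fun g => (⟨(hsc g).choose, (hsc g).choose_spec.1⟩ :
        {c : QuadraticAlgebra F (-b) a // c ^ 2 = 1})) ?_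
    intro g g' e
    have e' : (hsc g).choose = (hsc g').choose := congrArg Subtype.val e
    refine Subtype.ext (Unitary.eq_of_smul_eq_SU fun x => ?_)
    rw [(hsc g).choose_spec.2, (hsc g').choose_spec.2, e']
  haveI : Finite (Cfsg.SU 4 (QuadraticAlgebra F (-b) a) q) := Finite.of_injective _ Subtype.val_injective
  have hnd : ¬ p ∣ Nat.card f.ker := by
    intro hdv
    have h0 : 0 < Nat.card f.ker := Nat.card_pos
    by_cases h2 : (2 : F) = 0
    · have : dOrth F = 1 := by simp [dOrth, h2]
      exact hp.not_dvd_one (by rwa [show Nat.card f.ker = 1 by omega] at hdv)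
    · have hp2 : p ≠ 2 := fun e => h2 (by subst e; exact_mod_cast CharP.cast_eq_zero F 2)
      have : dOrth F = 2 := by simp [dOrth, h2]
      have := Nat.le_of_dvd h0 hdv
      have := hp.two_le
      omega
  have hpq : p ∣ q := by
    obtain ⟨e, -, he⟩ := FiniteField.card F p
    rw [hqdef, he]
    exact dvd_pow_self _ e.2.ne'
  have hS : (q + 1) * Nat.card (Cfsg.SU 4 (QuadraticAlgebra F (-b) a) q) =
      q ^ 6 * ((q + 1) * (q ^ 2 - 1) * (q ^ 3 + 1) * (q ^ 4 - 1)) := by
    rw [Unitary.card_SU_mul hK (by norm_num : 1 ≤ 4), Unitary.card_GU hK 4]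
    simp [Finset.prod_range_succ, show ¬ Even 1 by decide, show ¬ Even 3 by decide,
      show Even 2 by decide]
  have hS' : Nat.card (Cfsg.SU 4 (QuadraticAlgebra F (-b) a) q) =
      q ^ 6 * ((q ^ 2 - 1) * (q ^ 3 + 1) * (q ^ 4 - 1)) := by
    refine Nat.eq_of_mul_eq_mul_left (Nat.succ_pos q) ?_
    rw [Nat.succ_eq_add_one, hS]; ring
  have hgen : Subgroup.closure {g : Cfsg.SU 4 (QuadraticAlgebra F (-b) a) q | Pel p g} = ⊤ := by
    refine closure_pel_SU hK (by norm_num) h32 hp ?_ ?_
    · rw [hS']; exact dvd_mul_of_dvd_left (dvd_pow hpq (by norm_num)) _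
    · rw [Unitary.card_center hK (by norm_num : 2 ≤ 4)]
      intro h
      exact hp.not_dvd_one ((Nat.dvd_add_right hpq).1 (h.trans (Nat.gcd_dvd_right _ _)))
  have hrange : f.range = commutator (orth (hypSum 2 (binForm a b))) := by
    refine Subgroup.eq_of_le_of_card_ge hle ?_
    have h1 := card_ker_mul f.rangeRestrict (MonoidHom.rangeRestrict_surjective _)
    rw [MonoidHom.ker_rangeRestrict] at h1
    have h2 := (commutator (orth (hypSum 2 (binForm a b)))).card_mul_index
    have hO : Nat.card (orth (hypSum 2 (binForm a b))) =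
        2 * Nat.card (Cfsg.SU 4 (QuadraticAlgebra F (-b) a) q) := by
      rw [card_orth_minus hab 2, hS', Nat.card_eq_fintype_card]
      simp [Finset.prod_range_succ]
      ring
    rw [hO, ← h1] at h2
    by_cases h20 : (2 : F) = 0
    · rw [htwo h20, mul_comm _ 2] at h2
      rw [Nat.eq_of_mul_eq_mul_left two_pos h2]
      have hd : dOrth F = 1 := by simp [dOrth, h20]
      rw [hd] at hcard
      exact (Nat.mul_le_mul_right _ hcard).trans_eq (one_mul _)
    · rw [hodd h20] at h2
      have hd : dOrth F = 2 := by simp [dOrth, h20]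
      rw [hd] at hcard
      have h3 : Nat.card f.ker * Nat.card f.range ≤ 2 * Nat.card f.range :=
        Nat.mul_le_mul_right _ hcard
      omega
  let π₁ : Cfsg.SU 4 (QuadraticAlgebra F (-b) a) q →* commutator (orth (hypSum 2 (binForm a b))) :=
    f.codRestrict _ fun g => hle ⟨g, rfl⟩
  let ι₁ : commutator (orth (hypSum 2 (binForm a b))) ≃*
      eichGroup (hyp (hyp (hypSum 0 (binForm a b)))) :=
    (commEquiv (orthCongr (hypSumTwo (binForm a b) 0))).trans
      (MulEquiv.subgroupCongr (commutator_orth_eq hB hex))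
  have hπ : Function.Surjective π₁ := fun x => by
    obtain ⟨g, hg⟩ : x.1 ∈ f.range := by rw [hrange]; exact x.2
    exact ⟨g, Subtype.ext hg⟩
  have hk : π₁.ker = f.ker := MonoidHom.ker_codRestrict _ _ _
  have hb := pBound_of_cover.{v, v, v} hp π₁ hπ (hk ▸ hker) (hk ▸ hnd) hgen hSU
  intro Γ _ _ σ E hg
  exact (PBound.of_mulEquiv ι₁ hb Γ σ E hg).trans (le_of_eq_of_le (by rw [hk]) hcard)

theorem pBound_minus [Fintype F] (hab : BinAniso a b) {p : ℕ} (hp : p.Prime) [CharP F p]
    [Fact (∀ r : F, r ^ 2 ≠ -b + a * r)]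
    (hSU : PTriv.{v} p (Cfsg.SU 4 (QuadraticAlgebra F (-b) a) (Fintype.card F))) :
    ∀ k : ℕ, PBound.{v} p (dOrth F) (eichGroup (hyp (hyp (hypSum k (binForm a b)))))
  | 0 => pBound_six_minus hab hp hSU
  | k + 1 => by
    have hB := base_binForm hab
    have h := pBound_step (M := hypSum k (binForm a b)) (hB.nd.hypSum _)
      (exists_hypSum_ne_zero _ (Or.inr (exists_binForm_ne_zero a b)))
      (elemGroup_hypHyp hB.nd hB.refl _)
      (fun c => ⟨((c, 1), 0), by simp⟩) (pBound_minus hab hp hSU k)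
    exact PBound.of_mulEquiv
      (eichEquiv (hypCongr (hypCongr (hypSumSucc (binForm a b) k)))).symm h

end Cfsg.Agent.ClassMult
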