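import Cfsg.Agent.CharB.PSLMult.Lifts
import Cfsg.Agent.CharB.PSLMult.PPrimeStep
import Cfsg.Agent.CharB.PSLMult.Cover
import Cfsg.Agent.Lib.Schur.Transfer
import Mathlib.GroupTheory.Perm.Cycle.Type

/-!
Bounds on stem extensions of a central quotient from the `p`-part and the part prime to `p` (helper74).
-/

set_option autoImplicit false

namespace Cfsg.Agent.ClassMult

open Subgroup Cfsg.Agent.CharB.PSLMult
open scoped commutatorElement

universe u v w

/-- Central extensions with kernel prime to `p`, generated by `p`-elements, have kernel of order at most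
`d`. -/
def PBound (p d : ℕ) (G : Type v) [Group G] : Prop :=
  ∀ (Γ : Type u) [Group Γ] [Finite Γ] (σ : Γ →* G), PExt p σ →
    Subgroup.closure {g : Γ | Pel p g} = ⊤ → Nat.card σ.ker ≤ d

/-- Finite stem extensions have kernel of order prime to `p`. -/
def PFree (p : ℕ) (G : Type v) [Group G] : Prop :=
  ∀ (Γ : Type u) [Group Γ] [Finite Γ] (σ : Γ →* G), Cfsg.IsStemExtension σ → ¬ p ∣ Nat.card σ.ker

theorem card_ker_mul {A : Type u} {B : Type v} [Group A] [Group B] (f : A →* B)
    (hf : Function.Surjective f) : Nat.card f.ker * Nat.card B = Nat.card A := by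
  rw [← Subgroup.card_top (G := B), ← MonoidHom.range_eq_top.2 hf, ← Subgroup.index_ker,
    Subgroup.card_mul_index]

theorem PBound.of_mulEquiv {G : Type v} {H : Type w} [Group G] [Group H] (e : G ≃* H) {p d : ℕ}
    (h : PBound.{u} p d G) : PBound.{u} p d H := by
  intro Γ _ _ σ E hgen
  have hk : (e.symm.toMonoidHom.comp σ).ker = σ.ker := by
    ext x
    simp [MonoidHom.mem_ker]
  have := h Γ (e.symm.toMonoidHom.comp σ)
    ⟨E.prime, e.symm.surjective.comp E.surj, hk ▸ E.central, hk ▸ E.coprime⟩ hgen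
  rwa [hk] at this

theorem PFree.of_mulEquiv {G : Type v} {H : Type w} [Group G] [Group H] (e : G ≃* H) {p : ℕ}
    (h : PFree.{u} p G) : PFree.{u} p H := by
  intro Γ _ _ σ hσ
  have hk : (e.symm.toMonoidHom.comp σ).ker = σ.ker := by
    ext x
    simp [MonoidHom.mem_ker]
  have := h Γ (e.symm.toMonoidHom.comp σ)
    ⟨e.symm.surjective.comp hσ.1, hk ▸ hσ.2.1, hk ▸ hσ.2.2⟩
  rwa [hk] at this

/-- A subgroup of index prime to `p` over which the kernel avoids the commutators. -/
theorem pFree_of_subgroup {G : Type v} [Group G] [Finite G] {p : ℕ} (hp : p.Prime) (H : Subgroup G)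
    (hidx : ¬ p ∣ H.index)
    (h : ∀ (Γ : Type u) [Group Γ] (σ : Γ →* G), CEx σ →
      σ.ker ⊓ ⁅H.comap σ, H.comap σ⁆ = ⊥) : PFree.{u} p G := by
  intro Γ _ _ σ hσ hd
  haveI := Fact.mk hp
  obtain ⟨⟨z, hz⟩, hord⟩ := exists_prime_orderOf_dvd_card' p hd
  rw [Subgroup.orderOf_mk] at hord
  have hmem := Cfsg.Agent.Schur.pow_index_mem_commutator (H.comap σ) (hσ.2.1 hz) (hσ.2.2 hz)
  rw [Subgroup.map_subtype_commutator, Subgroup.index_comap_of_surjective H hσ.1] at hmem
  have h1 : z ^ H.index ∈ σ.ker ⊓ ⁅H.comap σ, H.comap σ⁆ := ⟨pow_mem hz _, hmem⟩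
  rw [h Γ σ ⟨hσ.1, hσ.2.1⟩, Subgroup.mem_bot] at h1
  exact hidx (hord ▸ orderOf_dvd_of_pow_eq_one h1)

/-- The index of a subgroup containing a subgroup of full `p`-part is prime to `p`. -/
theorem not_dvd_index_of_card {G : Type v} [Group G] [Finite G] {p a m : ℕ} (H : Subgroup G)
    (ha : 0 < a) (hG : Nat.card G = a * m) (hm : ¬ p ∣ m) (hH : a ∣ Nat.card H) :
    ¬ p ∣ H.index := by
  intro h
  obtain ⟨b, hb⟩ := hH
  have h1 := H.card_mul_index
  rw [hb, hG, mul_assoc] at h1
  exact hm ((Nat.eq_of_mul_eq_mul_left ha h1) ▸ dvd_mul_of_dvd_right h b)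

/-- The bound on stem extensions of a central quotient of a perfect group. -/
theorem card_stem_ker_le {Om : Type u} {S : Type v} [Group Om] [Finite Om] [Group S] [Finite S]
    (hperf : Group.IsPerfect Om) (π : Om →* S) (hπ : Function.Surjective π) {p d : ℕ} (hp : p.Prime)
    (hfree : PFree.{max u w} p Om) (hbd : PBound.{max u w} p d Om)
    (hgen : Subgroup.closure {g : Om | Pel p g} = ⊤)
    {Γ : Type w} [Group Γ] [Finite Γ] (σ : Γ →* S) (hσ : Cfsg.IsStemExtension σ) :
    Nat.card σ.ker ≤ d * Nat.card π.ker := by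
  let P : Subgroup (Om × Γ) := (π.comp (MonoidHom.fst Om Γ)).eqLocus (σ.comp (MonoidHom.snd Om Γ))
  let f : P →* Om := (MonoidHom.fst Om Γ).comp P.subtype
  have hf : Function.Surjective f := fun g => by
    obtain ⟨x, hx⟩ := hσ.1 (π g)
    exact ⟨⟨(g, x), hx.symm⟩, rfl⟩
  have hfc : f.ker ≤ center P := by
    rintro ⟨⟨g, x⟩, hx⟩ h
    have hg : g = 1 := h
    subst hg
    have hx' : x ∈ σ.ker := by
      have : π 1 = σ x := hx
      rw [MonoidHom.mem_ker, ← this, map_one]
    rw [Subgroup.mem_center_iff]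
    rintro ⟨⟨g', x'⟩, hx''⟩
    refine Subtype.ext (Prod.ext ?_ ?_)
    · show g' * 1 = 1 * g'
      simp
    · exact Subgroup.mem_center_iff.1 (hσ.2.1 hx') x'
  let ρ : commutator P →* Om := f.comp (commutator P).subtype
  have hρ : Function.Surjective ρ := fun g => by
    have h : (commutator P).map f = commutator Om := by
      rw [_root_.commutator_def, map_commutator, Subgroup.map_top_of_surjective f hf,
        _root_.commutator_def]
    obtain ⟨y, hy, e⟩ : g ∈ (commutator P).map f := by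
      rw [h]; exact Group.IsPerfect.mem_commutator (hP := hperf)
    exact ⟨⟨y, hy⟩, e⟩
  have hρc : ρ.ker ≤ center (commutator P) := fun x hx => Subgroup.mem_center_iff.2 fun y =>
    Subtype.ext (Subgroup.mem_center_iff.1 (hfc (show x.1 ∈ f.ker from hx)) y.1)
  have hP : commutator (commutator P) = ⊤ := by
    have key : ∀ x : P, ∃ a ∈ commutator P, ∃ c ∈ center P, x = a * c := fun x => by
      obtain ⟨⟨a, ha⟩, e⟩ := hρ (f x)
      refine ⟨a, ha, a⁻¹ * x, hfc ?_, by group⟩
      have e' : f a = f x := e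
      simp [MonoidHom.mem_ker, e']
    have hle : commutator P ≤ (commutator (commutator P)).map (commutator P).subtype := by
      conv_lhs => rw [_root_.commutator_def]
      rw [Subgroup.commutator_le]
      intro x _ y _
      obtain ⟨a, ha, c, hc, rfl⟩ := key x
      obtain ⟨b, hb, c', hc', rfl⟩ := key y
      rw [Cfsg.Agent.Schur.commutatorElement_mul_central hc hc', Subgroup.map_subtype_commutator]
      exact Subgroup.commutator_mem_commutator ha hb
    refine eq_top_iff.2 fun x _ => ?_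
    obtain ⟨y, hy, e⟩ := hle x.2
    rwa [← Subtype.ext (a1 := y) (a2 := x) e]
  have hstem : Cfsg.IsStemExtension ρ := ⟨hρ, hρc, hP ▸ le_top⟩
  have hnd := hfree (commutator P) ρ hstem
  have E : PExt p ρ := ⟨hp, hρ, hρc, hnd⟩
  have hgenΔ : Subgroup.closure {g : commutator P | Pel p g} = ⊤ := by
    refine eq_top_of_sup_center hP ?_
    rw [eq_top_iff]
    intro g _
    have hmap : (Subgroup.closure {g : commutator P | Pel p g}).map ρ = ⊤ := by
      rw [eq_top_iff, ← hgen, Subgroup.closure_le]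
      intro x hx
      exact ⟨E.pl x hx, Subgroup.subset_closure (E.pel_pl _), E.map_pl _⟩
    obtain ⟨a, ha, e⟩ : ρ g ∈ (Subgroup.closure {g : commutator P | Pel p g}).map ρ :=
      hmap ▸ Subgroup.mem_top _
    have hg : g = a * (a⁻¹ * g) := by group
    rw [hg]
    exact Subgroup.mul_mem_sup ha (hρc (by simp [MonoidHom.mem_ker, e]))
  have hK := hbd (commutator P) ρ E hgenΔ
  let snd : commutator P →* Γ := (MonoidHom.snd Om Γ).comp (P.subtype.comp (commutator P).subtype)
  have hsnd : Function.Surjective snd := by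
    haveI hS : Group.IsPerfect S := ⟨by
      have h := congrArg (Subgroup.map π) (hperf.commutator_eq_top)
      rwa [_root_.commutator_def, map_commutator, Subgroup.map_top_of_surjective π hπ,
        ← _root_.commutator_def] at h⟩
    have hΓ : commutator Γ = ⊤ := (Cfsg.Agent.Schur.isPerfect_of_stem hS σ hσ).commutator_eq_top
    rw [← MonoidHom.range_eq_top]
    refine eq_top_of_sup_center hΓ (eq_top_iff.2 fun g _ => ?_)
    obtain ⟨a, ha⟩ := hπ (σ g)
    obtain ⟨y, hy⟩ := hρ a
    have e : σ (snd y) = σ g := by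
      have : π (ρ y) = σ (snd y) := y.1.2
      rw [← this, hy, ha]
    have hg : g = snd y * ((snd y)⁻¹ * g) := by group
    rw [hg]
    exact Subgroup.mul_mem_sup ⟨y, rfl⟩ (hσ.2.1 (by simp [MonoidHom.mem_ker, e]))
  have h1 := card_ker_mul ρ hρ
  have h2 := card_ker_mul π hπ
  have h3 := card_ker_mul σ hσ.1
  have h4 : Nat.card Γ ≤ Nat.card (commutator P) := Nat.card_le_card_of_surjective snd hsnd
  refine Nat.le_of_mul_le_mul_right ?_ (Nat.card_pos (α := S))
  calc Nat.card σ.ker * Nat.card S ≤ Nat.card ρ.ker * (Nat.card π.ker * Nat.card S) := by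
        rw [h3, h2, h1]; exact h4
    _ ≤ d * (Nat.card π.ker * Nat.card S) := Nat.mul_le_mul_right _ hK
    _ = d * Nat.card π.ker * Nat.card S := (mul_assoc _ _ _).symm

/-- A covering group with trivial part prime to `p` gives the bound. -/
theorem pBound_of_cover {Sc : Type u} {G : Type v} [Group Sc] [Finite Sc] [Group G] [Finite G]
    {p : ℕ} (hp : p.Prime) (π : Sc →* G) (hπ : Function.Surjective π) (hc : π.ker ≤ center Sc)
    (hnd : ¬ p ∣ Nat.card π.ker) (hgen : Subgroup.closure {g : Sc | Pel p g} = ⊤)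
    (h : PTriv.{max u w} p Sc) : PBound.{w} p (Nat.card π.ker) G := by
  intro Γ _ _ σ E hgΓ
  have Eπ : PExt p π := ⟨hp, hπ, hc, hnd⟩
  let P : Subgroup (Sc × Γ) := (π.comp (MonoidHom.fst Sc Γ)).eqLocus (σ.comp (MonoidHom.snd Sc Γ))
  let D : Subgroup P := Subgroup.closure {g : P | Pel p g}
  let ρ : D →* Sc := ((MonoidHom.fst Sc Γ).comp P.subtype).comp D.subtype
  let snd : D →* Γ := ((MonoidHom.snd Sc Γ).comp P.subtype).comp D.subtype
  have hpair : ∀ (s : Sc) (g : Γ), Pel p s → Pel p g → π s = σ g →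
      ∃ x : D, ρ x = s ∧ snd x = g := by
    intro s g hs hg e
    obtain ⟨k, hk⟩ := hs
    obtain ⟨l, hl⟩ := hg
    refine ⟨⟨⟨(s, g), e⟩, Subgroup.subset_closure ⟨k + l, Subtype.ext (Prod.ext ?_ ?_)⟩⟩, rfl, rfl⟩
    · show s ^ p ^ (k + l) = 1
      rw [pow_add, pow_mul, hk, one_pow]
    · show g ^ p ^ (k + l) = 1
      rw [pow_add, mul_comm, pow_mul, hl, one_pow]
  have hρ : Function.Surjective ρ := by
    rw [← MonoidHom.range_eq_top, eq_top_iff, ← hgen, Subgroup.closure_le]
    intro s hs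
    obtain ⟨x, hx, -⟩ := hpair s (E.pl (π s) (Pel.map π hs)) hs (E.pel_pl _) (E.map_pl _).symm
    exact ⟨x, hx⟩
  have hsnd : Function.Surjective snd := by
    rw [← MonoidHom.range_eq_top, eq_top_iff, ← hgΓ, Subgroup.closure_le]
    intro g hg
    obtain ⟨x, -, hx⟩ := hpair (Eπ.pl (σ g) (Pel.map σ hg)) g (Eπ.pel_pl _) hg (Eπ.map_pl _)
    exact ⟨x, hx⟩
  have hker : ∀ x : D, x ∈ ρ.ker → snd x ∈ σ.ker := fun x hx => by
    have e : π (ρ x) = σ (snd x) := x.1.2
    rw [MonoidHom.mem_ker] at hx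
    rw [MonoidHom.mem_ker, ← e, hx, map_one]
  let inj : ρ.ker →* σ.ker := (snd.comp ρ.ker.subtype).codRestrict σ.ker fun x => hker x.1 x.2
  have hinj : Function.Injective inj := fun x y e => by
    have e2 : snd x.1 = snd y.1 := congrArg Subtype.val e
    exact Subtype.ext (Subtype.ext (Subtype.ext (Prod.ext
      ((MonoidHom.mem_ker.1 x.2).trans (MonoidHom.mem_ker.1 y.2).symm) e2)))
  have E' : PExt p ρ := ⟨hp, hρ, fun x hx => Subgroup.mem_center_iff.2 fun y => by
      refine Subtype.ext (Subtype.ext (Prod.ext ?_ ?_))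
      · show ρ y * ρ x = ρ x * ρ y
        rw [MonoidHom.mem_ker.1 hx]; simp
      · exact Subgroup.mem_center_iff.1 (E.central (hker x hx)) (snd y),
    fun hd => E.coprime (hd.trans (Subgroup.card_dvd_of_injective inj hinj))⟩
  have hgD : Subgroup.closure {g : D | Pel p g} = ⊤ := by
    rw [eq_top_iff]
    rintro ⟨x, hx⟩ -
    induction hx using Subgroup.closure_induction with
    | mem y hy =>
        obtain ⟨k, hk⟩ := hy
        exact Subgroup.subset_closure ⟨k, Subtype.ext hk⟩
    | one => exact one_mem _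
    | mul a b _ _ ha hb => exact mul_mem ha hb
    | inv a _ ha => exact inv_mem ha
  have hbot := h D ρ E' hgD
  have h1 := card_ker_mul ρ hρ
  rw [hbot, Subgroup.card_bot, one_mul] at h1
  have h2 := card_ker_mul π hπ
  have h3 := card_ker_mul σ E.surj
  have h4 : Nat.card Γ ≤ Nat.card D := Nat.card_le_card_of_surjective snd hsnd
  rw [← h1, ← h3, ← h2] at h4
  exact Nat.le_of_mul_le_mul_right h4 Nat.card_pos

end Cfsg.Agent.ClassMult
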