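import Cfsg.Agent.Lib.UnitaryOrthogonal.OmegaStandard
import Cfsg.Agent.ClassMult.Reduce

/-!
Facts on `Ω = O'` of `H^k ⊥ Q`, `k ≥ 2`, for the multipliers (helper74).
-/

set_option autoImplicit false

namespace Cfsg.Agent.ClassMult

open Cfsg.Agent.UnitaryOrthogonal QuadraticMap Cfsg.Agent.CharB.PSLMult

universe v w

variable {F : Type v} [Field F] {W : Type w} [AddCommGroup W] [Module F W]
  {Q : QuadraticForm F W}

/-- The standing hypotheses on the anisotropic part. -/
structure Base (Q : QuadraticForm F W) : Prop where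
  nd : PolarND Q
  refl : reflGroup Q = ⊤
  sep : (2 : F) ≠ 0 → ∀ c : F, ¬IsSquare c →
    ((mixedCount Q 1 : ℤ) - mixedCount Q c) % 4 = 2

theorem base_zeroForm [Finite F] : Base (zeroForm F) :=
  ⟨polarND_zeroForm, reflGroup_zeroForm, fun h2 c hc => hbase_zeroForm h2 c hc⟩

theorem base_sqForm [Finite F] (h2 : (2 : F) ≠ 0) : Base (sqForm F) :=
  ⟨polarND_sqForm h2, reflGroup_sqForm, fun _ c hc => hbase_sqForm h2 c hc⟩

theorem base_binForm [Finite F] {a b : F} (hab : BinAniso a b) : Base (binForm a b) :=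
  ⟨hab.polarND, hab.reflGroup_eq_top, fun h2 c hc => hbase_binForm hab h2 c hc⟩

theorem commutator_orth_eq (hB : Base Q) {k : ℕ} (hex : 1 ≤ k ∨ ∃ a, Q a ≠ 0) :
    commutator (orth (hyp (hyp (hypSum k Q)))) = eichGroup (hyp (hyp (hypSum k Q))) :=
  commutator_eq_eichGroup (hB.nd.hypSum k) (exists_hypSum_ne_zero k hex)
    (elemGroup_hypHyp hB.nd hB.refl k)

theorem index_commutator_orth [Finite F] [Finite W] (hB : Base Q) {k : ℕ}
    (hex : 1 ≤ k ∨ ∃ a, Q a ≠ 0) :
    ((2 : F) = 0 → (commutator (orth (hypSum (k + 2) Q))).index = 2) ∧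
      ((2 : F) ≠ 0 → (commutator (orth (hypSum (k + 2) Q))).index = 4) := by
  have hM := hB.nd.hypSum k
  have hexM := exists_hypSum_ne_zero k hex
  have hgen := elemGroup_hypHyp hB.nd hB.refl k
  have e : (commutator (orth (hypSum (k + 2) Q))) =
      (commutator (orth (hyp (hyp (hypSum k Q))))).comap (orthCongr (hypSumTwo Q k)).toMonoidHom := by
    rw [_root_.commutator_def, _root_.commutator_def]
    have h := Subgroup.map_commutator ⊤ ⊤ (orthCongr (hypSumTwo Q k)).toMonoidHom
    rw [Subgroup.map_top_of_surjective _ (orthCongr (hypSumTwo Q k)).surjective] at h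
    rw [← h, Subgroup.comap_map_eq_self_of_injective (orthCongr (hypSumTwo Q k)).injective]
  rw [e, Subgroup.index_comap_of_surjective _ (orthCongr (hypSumTwo Q k)).surjective,
    commutator_orth_eq hB hex]
  exact ⟨fun h2 => (eichGroup_eq_ker_of_two hM hexM hgen h2).2,
    fun h2 => (eichGroup_eq_ker_of_odd hM hexM hgen h2 (hsep_of_base h2 (hB.sep h2) k)).2⟩

theorem isPerfect_commutator_orth (hB : Base Q) {k : ℕ} (hex : 1 ≤ k ∨ ∃ a, Q a ≠ 0) :
    Group.IsPerfect (commutator (orth (hyp (hyp (hypSum k Q))))) := by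
  rw [commutator_orth_eq hB hex]
  refine ⟨Subgroup.map_injective (Subgroup.subtype_injective _) ?_⟩
  rw [Subgroup.map_subtype_commutator, ← MonoidHom.range_eq_map, Subgroup.range_subtype]
  exact eichGroup_perfect (hB.nd.hypSum k) (exists_hypSum_ne_zero k hex)

/-- Eichler transformations are `p`-elements. -/
theorem pel_eich {V : Type w} [AddCommGroup V] [Module F V] (P : QuadraticForm F V) (p : ℕ)
    [CharP F p] (u z : V) : Pel p (eich P u z) := by
  by_cases h : P u = 0 ∧ polar P u z = 0
  · have key : ∀ k : ℕ, eich P u z ^ k = eich P u ((k : F) • z) := by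
      intro k
      induction k with
      | zero => rw [pow_zero, Nat.cast_zero, zero_smul, eich_zero]
      | succ k ih =>
          rw [pow_succ, ih, eich_mul h.1 (by simp [h.2]) h.2, Nat.cast_succ, add_smul, one_smul]
    exact ⟨1, by rw [pow_one, key, CharP.cast_eq_zero, zero_smul, eich_zero]⟩
  · rw [eich, dif_neg h]
    exact pel_one

/-- The Eichler group is generated by its `p`-elements. -/
theorem closure_pel_eichGroup {V : Type w} [AddCommGroup V] [Module F V] (P : QuadraticForm F V)
    (p : ℕ) [CharP F p] : Subgroup.closure {g : eichGroup P | Pel p g} = ⊤ := by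
  rw [eq_top_iff]
  rintro ⟨g, hg⟩ -
  unfold eichGroup at hg
  induction hg using Subgroup.closure_induction with
  | mem x hx =>
      obtain ⟨u, z, hu, hz, rfl⟩ := hx
      obtain ⟨k, hk⟩ := pel_eich P p u z
      exact Subgroup.subset_closure ⟨k, Subtype.ext hk⟩
  | one => exact one_mem _
  | mul a b _ _ ha hb => exact mul_mem ha hb
  | inv a _ ha => exact inv_mem ha

end Cfsg.Agent.ClassMult
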