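import Cfsg.Agent.ClassMult.DPart2
import Cfsg.Agent.ClassMult.OmegaFacts
import Cfsg.Agent.CharB.PSLMult.SLn
import Cfsg.Agent.Lib.LinearGroup.Card

/-!
The Siegel parabolic of `O⁺_2l` and the `p`-part of the multiplier of `Ω⁺_2l` (helper74).
-/

set_option autoImplicit false

namespace Cfsg.Agent.ClassMult

open Matrix Cfsg.Agent.UnitaryOrthogonal Cfsg.Agent.CharB.PSLMult
open scoped commutatorElement

universe u v

variable {F : Type v} [Field F] {l : ℕ}

/-- The space of `H^l`. -/
abbrev PV (l : ℕ) (F : Type v) : Type v := ((Fin l → F) × (Fin l → F)) × (Fin 0 → F)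

theorem pv_form (x y : Fin l → F) (z : Fin 0 → F) :
    hypSum l (zeroForm F) ((x, y), z) = x ⬝ᵥ y := by
  simp [zeroForm, dotProduct]

theorem dot_cancel (A B : Matrix (Fin l) (Fin l) F) (h : A * B = 1) (x y : Fin l → F) :
    (B *ᵥ x) ⬝ᵥ (Aᵀ *ᵥ y) = x ⬝ᵥ y := by
  rw [dotProduct_mulVec, vecMul_transpose, mulVec_mulVec, h, one_mulVec]

/-- `GL_l` acting on `x` and by the inverse transpose on `y`. -/
def gl : (Matrix (Fin l) (Fin l) F)ˣ →* orth (hypSum l (zeroForm F)) where
  toFun A := ⟨
    { toFun := fun v => (((A : Matrix (Fin l) (Fin l) F) *ᵥ v.1.1,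
        ((A⁻¹ : (Matrix (Fin l) (Fin l) F)ˣ) : Matrix (Fin l) (Fin l) F)ᵀ *ᵥ v.1.2), v.2)
      invFun := fun v => ((((A⁻¹ : (Matrix (Fin l) (Fin l) F)ˣ) : Matrix (Fin l) (Fin l) F) *ᵥ v.1.1,
        (A : Matrix (Fin l) (Fin l) F)ᵀ *ᵥ v.1.2), v.2)
      map_add' := fun v w => by simp [mulVec_add]
      map_smul' := fun c v => by simp [mulVec_smul]
      left_inv := fun v => by simp [← transpose_mul]
      right_inv := fun v => by simp [← transpose_mul] }, fun v => by
      obtain ⟨⟨x, y⟩, z⟩ := v
      show hypSum l (zeroForm F) ((_, _), z) = _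
      rw [pv_form, pv_form]
      exact dot_cancel _ _ (A.inv_mul) x y⟩
  map_one' := orth_ext fun v => by simp
  map_mul' A B := orth_ext fun v => by simp [← transpose_mul]

theorem gl_apply (A : (Matrix (Fin l) (Fin l) F)ˣ) (x y : Fin l → F) (z : Fin 0 → F) :
    (gl A).1 ((x, y), z) = (((A : Matrix (Fin l) (Fin l) F) *ᵥ x,
      ((A⁻¹ : (Matrix (Fin l) (Fin l) F)ˣ) : Matrix (Fin l) (Fin l) F)ᵀ *ᵥ y), z) := rfl

/-- The Levi part. -/
def levP : SpecialLinearGroup (Fin l) F →* orth (hypSum l (zeroForm F)) :=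
  gl.comp
    { toFun := fun A => ⟨A.1, (A⁻¹).1, congrArg Subtype.val (mul_inv_cancel A),
        congrArg Subtype.val (inv_mul_cancel A)⟩
      map_one' := Units.ext rfl
      map_mul' := fun A B => Units.ext rfl }

theorem levP_apply (A : SpecialLinearGroup (Fin l) F) (x y : Fin l → F) (z : Fin 0 → F) :
    (levP A).1 ((x, y), z) = ((A.1 *ᵥ x, (A⁻¹).1ᵀ *ᵥ y), z) := rfl

theorem dot_alt (X : altM (Fin l) F) (y : Fin l → F) : (X.1 *ᵥ y) ⬝ᵥ y = 0 := by
  simp only [dotProduct, mulVec, Finset.sum_mul]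
  rw [← Fintype.sum_prod_type']
  refine Finset.sum_involution (fun p _ => (p.2, p.1)) (fun p _ => ?_) (fun p _ hp e => hp ?_)
    (fun p _ => Finset.mem_univ _) (fun p _ => rfl)
  · rw [X.2.1 p.1 p.2]; ring
  · rw [show p.2 = p.1 from congrArg Prod.fst e, X.2.2]; ring

/-- The unipotent radical of the Siegel parabolic. -/
def sgP (X : altM (Fin l) F) : orth (hypSum l (zeroForm F)) :=
  ⟨{ toFun := fun v => ((v.1.1 + X.1 *ᵥ v.1.2, v.1.2), v.2)
     invFun := fun v => ((v.1.1 - X.1 *ᵥ v.1.2, v.1.2), v.2)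
     map_add' := fun v w => by simp [mulVec_add]; abel
     map_smul' := fun c v => by simp [mulVec_smul]
     left_inv := fun v => by simp
     right_inv := fun v => by simp }, fun v => by
    obtain ⟨⟨x, y⟩, z⟩ := v
    show hypSum l (zeroForm F) ((_, y), z) = _
    rw [pv_form, pv_form, add_dotProduct, dot_alt, add_zero]⟩

theorem sgP_apply (X : altM (Fin l) F) (x y : Fin l → F) (z : Fin 0 → F) :
    (sgP X).1 ((x, y), z) = ((x + X.1 *ᵥ y, y), z) := rfl

theorem gl_sgP (A : (Matrix (Fin l) (Fin l) F)ˣ) (X Y : altM (Fin l) F)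
    (h : Y.1 = (A : Matrix (Fin l) (Fin l) F) * X.1 * (A : Matrix (Fin l) (Fin l) F)ᵀ) :
    gl A * sgP X * (gl A)⁻¹ = sgP Y := by
  rw [mul_inv_eq_iff_eq_mul]
  refine orth_ext fun ⟨⟨x, y⟩, z⟩ => ?_
  rw [coe_mul_apply, coe_mul_apply, sgP_apply, gl_apply, gl_apply, sgP_apply, h, mulVec_add,
    mulVec_mulVec, mulVec_mulVec, Matrix.mul_assoc (_ * X.1) _ _, ← transpose_mul, A.inv_mul,
    transpose_one, Matrix.mul_one]

theorem datumPlus : Datum (levP (F := F) (l := l)) sgP where
  add X Y := orth_ext fun ⟨⟨x, y⟩, z⟩ => by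
    rw [coe_mul_apply, sgP_apply, sgP_apply, sgP_apply, AddSubgroup.coe_add, add_mulVec,
      add_assoc, add_comm (X.1 *ᵥ y)]
  rel A X := gl_sgP _ X (cg A X) rfl
  inj X A h := by
    have h2 : ∀ (x y : Fin l → F), A.1 *ᵥ x + X.1 *ᵥ ((A⁻¹).1ᵀ *ᵥ y) = x ∧
        (A⁻¹).1ᵀ *ᵥ y = y := fun x y => by
      have e := congrArg (fun g : orth (hypSum l (zeroForm F)) => g.1 ((x, y), 0)) h
      simp only [coe_mul_apply, levP_apply, sgP_apply, coe_one_apply, Prod.mk.injEq] at e
      exact ⟨e.1.1, e.1.2⟩
    have hA : A = 1 := by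
      apply Subtype.ext
      apply Matrix.toLin'.injective
      refine LinearMap.ext fun x => ?_
      simpa using (h2 x 0).1
    subst hA
    refine ⟨Subtype.ext (Matrix.toLin'.injective (LinearMap.ext fun y => ?_)), rfl⟩
    have e := (h2 0 y).1
    simp at e
    simpa using e

/-- The swap of the `i`th coordinates. -/
def swapP (i : Fin l) : orth (hypSum l (zeroForm F)) :=
  ⟨{ toFun := fun v => ((Function.update v.1.1 i (v.1.2 i), Function.update v.1.2 i (v.1.1 i)), v.2)
     invFun := fun v => ((Function.update v.1.1 i (v.1.2 i), Function.update v.1.2 i (v.1.1 i)), v.2)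
     map_add' := fun v w => by
      refine Prod.ext (Prod.ext ?_ ?_) (Subsingleton.elim _ _) <;> funext j <;>
        simp [Function.update_apply] <;> split_ifs with h <;> simp
     map_smul' := fun c v => by
      refine Prod.ext (Prod.ext ?_ ?_) (Subsingleton.elim _ _) <;> funext j <;>
        simp [Function.update_apply] <;> split_ifs with h <;> simp
     left_inv := fun v => by simp
     right_inv := fun v => by simp }, fun v => by
    obtain ⟨⟨x, y⟩, z⟩ := v
    show hypSum l (zeroForm F) ((_, _), z) = _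
    rw [pv_form, pv_form]
    refine Finset.sum_congr rfl fun j _ => ?_
    by_cases hj : j = i
    · subst hj; simp [mul_comm]
    · simp [hj]⟩

theorem swapP_apply (i : Fin l) (x y : Fin l → F) (z : Fin 0 → F) :
    (swapP (F := F) i).1 ((x, y), z) =
      ((Function.update x i (y i), Function.update y i (x i)), z) := rfl

/-- `μ` at `i`. -/
def dgl (i : Fin l) (μ : Fˣ) : (Matrix (Fin l) (Fin l) F)ˣ where
  val := Matrix.diagonal (fun k => if k = i then (μ : F) else 1)
  inv := Matrix.diagonal (fun k => if k = i then ((μ⁻¹ : Fˣ) : F) else 1)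
  val_inv := by
    rw [diagonal_mul_diagonal, ← diagonal_one]
    congr 1
    funext k
    split_ifs <;> simp
  inv_val := by
    rw [diagonal_mul_diagonal, ← diagonal_one]
    congr 1
    funext k
    split_ifs <;> simp

theorem torus_mem (i : Fin l) (μ : Fˣ) :
    gl (dgl i (μ * μ)) ∈ commutator (orth (hypSum l (zeroForm F))) := by
  have e : gl (dgl i (μ * μ)) = ⁅gl (dgl i μ), swapP (F := F) i⁆ := by
    rw [commutatorElement_def, eq_mul_inv_iff_mul_eq, eq_mul_inv_iff_mul_eq]
    refine orth_ext fun ⟨⟨x, y⟩, z⟩ => ?_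
    simp only [coe_mul_apply, swapP_apply, gl_apply]
    refine Prod.ext (Prod.ext (funext fun k => ?_) (funext fun k => ?_)) (Subsingleton.elim _ _) <;>
    · by_cases hk : k = i
      · subst hk; simp [dgl, mulVec_diagonal]; field_simp
      · simp [dgl, mulVec_diagonal, hk]
  rw [e, _root_.commutator_def]
  exact Subgroup.commutator_mem_commutator (Subgroup.mem_top _) (Subgroup.mem_top _)

theorem levP_mem (hl : 3 ≤ l) (A : SpecialLinearGroup (Fin l) F) :
    levP A ∈ commutator (orth (hypSum l (zeroForm F))) := by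
  have hA : A ∈ commutator (SpecialLinearGroup (Fin l) F) := by
    rw [LinearGroup.commutator_SL_eq_top (by simpa using hl)]; trivial
  have hle : (commutator (SpecialLinearGroup (Fin l) F)).map levP ≤
      commutator (orth (hypSum l (zeroForm F))) := by
    rw [_root_.commutator_def, Subgroup.map_commutator, _root_.commutator_def]
    exact Subgroup.commutator_mono le_top le_top
  exact hle ⟨A, hA, rfl⟩

theorem sgP_mem (hl : 3 ≤ l) (X : altM (Fin l) F) :
    sgP X ∈ commutator (orth (hypSum l (zeroForm F))) := by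
  have D := datumPlus (F := F) (l := l)
  let H : AddSubgroup (altM (Fin l) F) :=
    { carrier := {X | sgP X ∈ commutator (orth (hypSum l (zeroForm F)))}
      zero_mem' := by
        show sgP (0 : altM (Fin l) F) ∈ commutator (orth (hypSum l (zeroForm F)))
        rw [D.zero]; exact one_mem _
      add_mem' := fun {A B} hA hB => by
        show sgP (A + B) ∈ commutator (orth (hypSum l (zeroForm F)))
        rw [D.add]; exact mul_mem hA hB
      neg_mem' := fun {A} hA => by
        show sgP (-A) ∈ commutator (orth (hypSum l (zeroForm F)))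
        rw [show sgP (-A) = (sgP A)⁻¹ from eq_inv_of_mul_eq_one_left
          (by rw [← D.add, neg_add_cancel, D.zero])]
        exact inv_mem hA }
  refine mem_of_xA_mem (H := H) (fun i j hij a => ?_) X
  show sgP (xA i j a) ∈ commutator (orth (hypSum l (zeroForm F)))
  have hcard : ({i, j} : Finset (Fin l)).card < (Finset.univ : Finset (Fin l)).card := by
    rw [Finset.card_univ, Fintype.card_fin, Finset.card_pair hij]; omega
  obtain ⟨k, -, hk⟩ := Finset.exists_mem_notMem_of_card_lt_card hcard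
  simp only [Finset.mem_insert, Finset.mem_singleton, not_or] at hk
  have e : sgP (xA i j a) = ⁅levP (T i k (1 : F)), sgP (xA k j a)⁆ := by
    rw [commutatorElement_def, D.rel, cg_T_move (Ne.symm hk.1) hk.2, one_mul,
      eq_mul_inv_iff_mul_eq, ← D.add, add_comm]
  rw [e, _root_.commutator_def]
  exact Subgroup.commutator_mem_commutator (Subgroup.mem_top _) (Subgroup.mem_top _)

/-- Coordinates of alternating matrices. -/
def altEquiv : altM (Fin l) F ≃ ((i : Fin l) × Fin i → F) where
  toFun X p := X.1 ⟨p.2, p.2.2.trans p.1.2⟩ p.1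
  invFun f := ⟨fun a b => if h : a < b then f ⟨b, ⟨a, h⟩⟩
      else if h' : b < a then -f ⟨a, ⟨b, h'⟩⟩ else 0, by
    refine ⟨fun a b => ?_, fun a => by simp⟩
    rcases lt_trichotomy a b with h | h | h
    · simp [h, lt_asymm h]
    · subst h; simp
    · simp [h, lt_asymm h]⟩
  left_inv X := by
    apply Subtype.ext
    funext a b
    rcases lt_trichotomy a b with h | h | h
    · simp [h]
    · subst h; simp [X.2.2]
    · simp [h, lt_asymm h, X.2.1 b a]
  right_inv f := by
    funext ⟨b, a⟩
    have h : (⟨a.1, a.2.trans b.2⟩ : Fin l) < b := a.2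
    simp [h]

/-- The Siegel parabolic inside `Ω`. -/
def siegelSub (hl : 3 ≤ l) : Subgroup (commutator (orth (hypSum l (zeroForm F)))) where
  carrier := {g | ∃ X A, g.1 = sgP X * levP A}
  one_mem' := ⟨0, 1, by rw [(datumPlus (F := F) (l := l)).zero, map_one, mul_one]; rfl⟩
  mul_mem' := by
    rintro g h ⟨X, A, eg⟩ ⟨Y, B, eh⟩
    refine ⟨X + cg A Y, A * B, ?_⟩
    rw [Subgroup.coe_mul, eg, eh, (datumPlus (F := F) (l := l)).add,
      ← (datumPlus (F := F) (l := l)).rel, map_mul]
    group
  inv_mem' := by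
    rintro g ⟨X, A, eg⟩
    refine ⟨cg A⁻¹ (-X), A⁻¹, ?_⟩
    have hn : sgP (-X) = (sgP X)⁻¹ := eq_inv_of_mul_eq_one_left (by
      rw [← (datumPlus (F := F) (l := l)).add, neg_add_cancel, (datumPlus (F := F) (l := l)).zero])
    rw [Subgroup.coe_inv, eg, ← (datumPlus (F := F) (l := l)).rel, hn, map_inv]
    group

theorem card_siegelSub [Finite F] (hl : 3 ≤ l) :
    Nat.card F ^ (l * (l - 1)) ∣ Nat.card (siegelSub (F := F) hl) := by
  let f : altM (Fin l) F × SpecialLinearGroup (Fin l) F → siegelSub (F := F) hl := fun p =>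
    ⟨⟨sgP p.1 * levP p.2, mul_mem (sgP_mem hl _) (levP_mem hl _)⟩, p.1, p.2, rfl⟩
  have hf : Function.Bijective f := by
    constructor
    · rintro ⟨X, A⟩ ⟨Y, B⟩ e
      have e' : sgP X * levP A = sgP Y * levP B := congrArg (fun g => g.1.1) e
      have D := datumPlus (F := F) (l := l)
      have e2 : sgP (-Y + X) * levP (A * B⁻¹) = 1 := by
        rw [D.add, map_mul, show sgP (-Y) = (sgP Y)⁻¹ from eq_inv_of_mul_eq_one_left
          (by rw [← D.add, neg_add_cancel, D.zero]), map_inv, ← mul_assoc,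
          mul_assoc (sgP Y)⁻¹, e']
        group
      obtain ⟨h1, h2⟩ := D.inj _ _ e2
      exact Prod.ext (neg_add_eq_zero.1 h1).symm (mul_inv_eq_one.1 h2)
    · rintro ⟨g, X, A, e⟩
      exact ⟨(X, A), Subtype.ext (Subtype.ext e.symm)⟩
  rw [← Nat.card_congr (Equiv.ofBijective f hf), Nat.card_prod, Nat.card_congr altEquiv,
    Nat.card_fun]
  obtain ⟨k, rfl⟩ : ∃ k, l = k + 1 := ⟨l - 1, by omega⟩
  rw [LinearGroup.card_SL_eq_pow_mul_prod, Nat.card_sigma]
  simp only [Nat.card_eq_fintype_card (α := Fin _), Fintype.card_fin]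
  rw [← mul_assoc, ← pow_add, ← two_mul, Fin.sum_univ_eq_sum_range (fun i => i) (k + 1),
    mul_comm 2, Finset.sum_range_id_mul_two]
  exact dvd_mul_right _ _

/-- **The `p`-part for `Ω⁺_2l`.** -/
theorem pFree_plus [Finite F] {p : ℕ} (hp : p.Prime) [CharP F p] (hl : 4 ≤ l)
    (h4 : l = 4 → Nat.card F ≠ 2) :
    PFree.{u} p (commutator (orth (hypSum l (zeroForm F)))) := by
  have hpq : p ∣ Nat.card F := by
    haveI := Fintype.ofFinite F
    obtain ⟨e, -, he⟩ := FiniteField.card F p
    rw [Nat.card_eq_fintype_card, he]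
    exact dvd_pow_self _ e.2.ne'
  have hl3 : 3 ≤ l := by omega
  refine pFree_of_subgroup hp (siegelSub (F := F) hl3) ?_ fun Γ _ σ E => ?_
  · obtain ⟨k, rfl⟩ : ∃ k, l = k + 2 := ⟨l - 2, by omega⟩
    obtain ⟨htwo, hodd⟩ := index_commutator_orth (base_zeroForm (F := F)) (k := k)
      (Or.inl (show 1 ≤ k by omega))
    obtain ⟨c, hc⟩ := card_siegelSub (F := F) hl3
    have hq : 2 ≤ Nat.card F := Finite.one_lt_card
    set q := Nat.card F with hqdef
    set R := (q ^ (k + 1 + 1) - 1) * ∏ i ∈ Finset.range (k + 1), (q ^ (2 * (i + 1)) - 1) with hR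
    have hO : Nat.card (orth (hypSum (k + 2) (zeroForm F))) = q ^ ((k + 2) * (k + 1)) * (2 * R) := by
      rw [show k + 2 = k + 1 + 1 from rfl, card_orth_plus (k + 1), hR]; ring
    have hpR : ¬ p ∣ R := by
      intro hd
      rcases (Nat.Prime.dvd_mul hp).1 hd with hd | hd
      · have := Nat.dvd_sub (dvd_pow hpq (show k + 1 + 1 ≠ 0 by omega)) hd
        rw [Nat.sub_sub_self (Nat.one_le_pow _ _ (by omega))] at this
        exact hp.not_dvd_one this
      · obtain ⟨i, -, hi⟩ := (Prime.dvd_finsetProd_iff hp.prime _).1 hd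
        have := Nat.dvd_sub (dvd_pow hpq (show 2 * (i + 1) ≠ 0 by omega)) hi
        rw [Nat.sub_sub_self (Nat.one_le_pow _ _ (by omega))] at this
        exact hp.not_dvd_one this
    have h1 := (commutator (orth (hypSum (k + 2) (zeroForm F)))).card_mul_index
    have h2 := (siegelSub (F := F) hl3).card_mul_index
    rw [← h2, hc, hO, show k + 2 - 1 = k + 1 from rfl, mul_assoc, mul_assoc] at h1
    have h3 := Nat.eq_of_mul_eq_mul_left (Nat.pow_pos (by omega)) h1
    intro hd
    by_cases h20 : (2 : F) = 0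
    · rw [htwo h20] at h3
      exact hpR (hd.trans ⟨c, by linarith [mul_comm c (siegelSub (F := F) hl3).index]⟩)
    · rw [hodd h20] at h3
      have hp2 : ¬ p ∣ 2 := fun h => h20 (by exact_mod_cast (CharP.cast_eq_zero_iff F p 2).2 h)
      rcases (Nat.Prime.dvd_mul hp).1 (show p ∣ 2 * R by
        rw [← h3]; exact dvd_mul_of_dvd_right (dvd_mul_of_dvd_left hd 4) c) with h | h
      · exact hp2 h
      · exact hpR h
  · let lev' : SpecialLinearGroup (Fin l) F →* commutator (orth (hypSum l (zeroForm F))) :=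
      levP.codRestrict _ (levP_mem hl3)
    let sg' : altM (Fin l) F → commutator (orth (hypSum l (zeroForm F))) :=
      fun X => ⟨sgP X, sgP_mem hl3 X⟩
    have D : Datum lev' sg' :=
      ⟨fun X Y => Subtype.ext (datumPlus.add X Y), fun A X => Subtype.ext (datumPlus.rel A X),
        fun X A h => datumPlus.inj X A (congrArg Subtype.val h)⟩
    have K : DGood sg' := by
      refine ⟨by simpa using hl, fun hA => ?_, fun _ μ hμ i =>
        ⟨⟨_, torus_mem i (Units.mk0 μ hμ)⟩, fun k u hk => Subtype.ext (gl_sgP _ _ _ ?_),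
          fun a b u ha hb => Subtype.ext (gl_sgP _ _ _ ?_)⟩⟩
      · by_cases h5 : 5 ≤ l
        · exact Or.inr (by simpa using h5)
        · refine Or.inl fun h2 => h4 (by omega) ?_
          haveI := Fintype.ofFinite F
          classical
          have hall : ∀ x : F, x = 0 ∨ x = 1 := fun x => by
            by_cases hx : x = 0
            · exact Or.inl hx
            · rcases sq_eq_one_iff.1 (hA x hx) with h | h
              · exact Or.inr h
              · exact Or.inr (by rw [h]; linear_combination -h2)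
          have huniv : (Finset.univ : Finset F) = {0, 1} :=
            Finset.eq_of_subset_of_card_le (fun x _ => by simpa using hall x)
              (Finset.card_le_univ _) |>.trans rfl
          rw [Nat.card_eq_fintype_card, ← Finset.card_univ, huniv, Finset.card_pair zero_ne_one]
      · show _ = Matrix.diagonal _ * xm i k u * (Matrix.diagonal _)ᵀ
        ext r s
        simp only [xA, xm, Matrix.diagonal_transpose, Matrix.mul_diagonal, Matrix.diagonal_mul,
          Matrix.sub_apply, Matrix.single_apply, Units.val_mul, Units.val_mk0]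
        by_cases h1 : i = r ∧ k = s
        · obtain ⟨rfl, rfl⟩ := h1
          simp [hk]
          exact Or.inl (pow_two μ)
        · by_cases h2 : k = r ∧ i = s
          · obtain ⟨rfl, rfl⟩ := h2
            simp [hk, hk.symm]
            ring
          · simp [h1, h2]
      · show _ = Matrix.diagonal _ * xm a b u * (Matrix.diagonal _)ᵀ
        ext r s
        simp only [xA, xm, Matrix.diagonal_transpose, Matrix.mul_diagonal, Matrix.diagonal_mul,
          Matrix.sub_apply, Matrix.single_apply, Units.val_mul, Units.val_mk0]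
        by_cases h1 : a = r ∧ b = s
        · obtain ⟨rfl, rfl⟩ := h1
          simp [ha, hb]
        · by_cases h2 : b = r ∧ a = s
          · obtain ⟨rfl, rfl⟩ := h2
            simp [ha, hb]
          · simp [h1, h2]
    refine ker_inf_commutator E D K
      (multiplier_SL l (by omega) (fun h => absurd h (by omega)) h4) fun g hg => ?_
    obtain ⟨X, A, e⟩ := hg
    exact ⟨X, A, Subtype.ext e⟩

end Cfsg.Agent.ClassMult
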