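import Cfsg.Agent.ClassMult.Step
import Cfsg.Agent.ClassMult.SiegelPlus
import Cfsg.Agent.Lib.UnitaryOrthogonal.KleinPSL
import Cfsg.Agent.CharB.PSLMult.PPrime

/-!
The bound on the stem extensions of `PΩ⁺_2l(q)` (helper74).
-/

set_option autoImplicit false

namespace Cfsg.Agent.ClassMult

open Cfsg.Agent.UnitaryOrthogonal QuadraticMap
open Cfsg.Agent.CharB.PSLMult hiding emb

universe v w w'

variable {F : Type v} [Field F]

/-- The bound on the part prime to `p`. -/
noncomputable def dOrth (F : Type v) [Field F] : ℕ := open scoped Classical in if (2 : F) = 0 then 1 else 2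

/-- An isometry gives an isomorphism of Eichler groups. -/
noncomputable def eichEquiv {V : Type w} {V' : Type w'} [AddCommGroup V] [Module F V]
    [AddCommGroup V'] [Module F V'] {Q : QuadraticForm F V} {Q' : QuadraticForm F V'}
    (e : Q.IsometryEquiv Q') : eichGroup Q ≃* eichGroup Q' :=
  ((orthCongr e).subgroupMap (eichGroup Q)).trans (MulEquiv.subgroupCongr (by
    refine le_antisymm ?_ ?_
    · rw [Subgroup.map_le_iff_le_comap]
      refine (Subgroup.closure_le _).2 ?_
      rintro _ ⟨u, z, -, -, rfl⟩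
      show orthCongr e (eich Q u z) ∈ eichGroup Q'
      rw [orthCongr_eich]
      exact eich_mem_eichGroup _ _
    · refine (Subgroup.closure_le _).2 ?_
      rintro _ ⟨u, z, -, -, rfl⟩
      obtain ⟨u, rfl⟩ := e.toLinearEquiv.surjective u
      obtain ⟨z, rfl⟩ := e.toLinearEquiv.surjective z
      exact ⟨eich Q u z, eich_mem_eichGroup _ _, orthCongr_eich e u z⟩))

/-- An isomorphism gives an isomorphism of derived groups. -/
noncomputable def commEquiv {A : Type w} {B : Type w'} [Group A] [Group B] (φ : A ≃* B) :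
    commutator A ≃* commutator B :=
  (φ.subgroupMap (commutator A)).trans (MulEquiv.subgroupCongr (by
    rw [_root_.commutator_def, Subgroup.map_commutator,
      Subgroup.map_top_of_surjective _ φ.surjective, _root_.commutator_def]))

theorem card_sq_one_le [Finite F] : Nat.card {c : F // c ^ 2 = 1} ≤ dOrth F := by
  classical
  haveI := Fintype.ofFinite F
  rw [Nat.card_eq_fintype_card, Fintype.card_subtype, dOrth]
  split_ifs with h2
  · refine Finset.card_le_one.2 fun a ha b hb => ?_
    have key : ∀ x : F, x ^ 2 = 1 → x = 1 := fun x hx => by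
      rcases sq_eq_one_iff.1 hx with h | h
      · exact h
      · rw [h]; linear_combination -h2
    rw [key a (Finset.mem_filter.1 ha).2, key b (Finset.mem_filter.1 hb).2]
  · calc (Finset.univ.filter fun c : F => c ^ 2 = 1).card
        ≤ ({1, -1} : Finset F).card := Finset.card_le_card fun x hx => by
          rcases sq_eq_one_iff.1 (Finset.mem_filter.1 hx).2 with h | h <;> simp [h]
      _ ≤ 2 := Finset.card_le_two

theorem pBound_six [Finite F] {p : ℕ} (hp : p.Prime) [CharP F p] :
    PBound.{v} p (dOrth F) (eichGroup (hyp (hyp (hypSum 1 (zeroForm F))))) := by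
  have hB := base_zeroForm (F := F)
  obtain ⟨htwo, hodd⟩ := index_commutator_orth hB (k := 1) (Or.inl le_rfl)
  have hperf : commutator (Matrix.SpecialLinearGroup (Fin 4) F) = ⊤ :=
    LinearGroup.commutator_SL_eq_top (by simp)
  haveI : IsSimpleGroup (Matrix.SpecialLinearGroup (Fin 4) F ⧸
      Subgroup.center (Matrix.SpecialLinearGroup (Fin 4) F)) :=
    LinearGroup.isSimpleGroup_PSL_of_three_le (by simp)
  have hle : (kleinOrth (F := F)).range ≤ commutator (orth (hypSum 3 (zeroForm F))) := by
    rw [MonoidHom.range_eq_map, ← hperf, _root_.commutator_def, Subgroup.map_commutator,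
      _root_.commutator_def]
    exact Subgroup.commutator_mono le_top le_top
  have hker : (kleinOrth (F := F)).ker ≤ Subgroup.center (Matrix.SpecialLinearGroup (Fin 4) F) :=
    ker_le_center_of_ne_one hperf kleinOrth_ne_one
  have hcard : Nat.card (kleinOrth (F := F)).ker ≤ dOrth F := by
    refine le_trans ?_ (card_sq_one_le (F := F))
    have hsc : ∀ g : (kleinOrth (F := F)).ker, ∃ c : F, c ^ 2 = 1 ∧
        (g.1.1 : Matrix (Fin 4) (Fin 4) F) = Matrix.scalar (Fin 4) c := fun g => by
      obtain ⟨c, -, hc⟩ := Matrix.SpecialLinearGroup.mem_center_iff.1 (hker g.2)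
      refine ⟨c, ?_, hc.symm⟩
      have h := congrArg (fun x : orth (hypSum 3 (zeroForm F)) =>
        (x.1 (((![1, 0, 0], 0) : Klein F), (0 : Fin 0 → F))).1.1 0) (MonoidHom.mem_ker.1 g.2)
      simp [kleinOrth_apply, kAct_apply, ← hc, kMat, kCoord] at h
      rw [pow_two]; exact h
    refine Nat.card_le_card_of_injective
      (fun g => (⟨(hsc g).choose, (hsc g).choose_spec.1⟩ : {c : F // c ^ 2 = 1})) ?_
    intro a b e
    have e' : (hsc a).choose = (hsc b).choose := congrArg Subtype.val e
    refine Subtype.ext (Subtype.ext ?_)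
    rw [(hsc a).choose_spec.2, (hsc b).choose_spec.2, e']
  have hnd : ¬ p ∣ Nat.card (kleinOrth (F := F)).ker := by
    intro hd
    have h1 := hd.trans (Subgroup.card_dvd_of_le hker)
    rw [LinearGroup.card_center_SL, Fintype.card_fin] at h1
    have hq : p ∣ Nat.card F := by
      haveI := Fintype.ofFinite F
      obtain ⟨e, -, he⟩ := FiniteField.card F p
      rw [Nat.card_eq_fintype_card, he]
      exact dvd_pow_self _ e.2.ne'
    have := Nat.dvd_sub hq (h1.trans (Nat.gcd_dvd_right _ _))
    rw [Nat.sub_sub_self (Finite.one_lt_card (α := F)).le] at this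
    exact hp.not_dvd_one this
  have hrange : (kleinOrth (F := F)).range = commutator (orth (hypSum 3 (zeroForm F))) := by
    refine Subgroup.eq_of_le_of_card_ge hle ?_
    have h1 := card_ker_mul (kleinOrth (F := F)).rangeRestrict (MonoidHom.rangeRestrict_surjective _)
    rw [MonoidHom.ker_rangeRestrict] at h1
    have h2 := (commutator (orth (hypSum 3 (zeroForm F)))).card_mul_index
    have hO : Nat.card (orth (hypSum 3 (zeroForm F))) =
        2 * Nat.card (Matrix.SpecialLinearGroup (Fin 4) F) := by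
      rw [card_orth_plus 2, LinearGroup.card_SL_eq_pow_mul_prod 3]
      simp [Finset.prod_range_succ, Fin.sum_univ_four]
      ring
    rw [hO, ← h1] at h2
    by_cases h20 : (2 : F) = 0
    · rw [htwo h20, mul_comm _ 2] at h2
      have h3 := Nat.eq_of_mul_eq_mul_left two_pos h2
      rw [h3]
      have hd : dOrth F = 1 := by simp [dOrth, h20]
      rw [hd] at hcard
      exact (Nat.mul_le_mul_right _ hcard).trans_eq (one_mul _)
    · rw [hodd h20] at h2
      have hd : dOrth F = 2 := by simp [dOrth, h20]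
      rw [hd] at hcard
      have h3 : Nat.card (kleinOrth (F := F)).ker * Nat.card (kleinOrth (F := F)).range ≤
          2 * Nat.card (kleinOrth (F := F)).range := Nat.mul_le_mul_right _ hcard
      omega
  let π₁ : Matrix.SpecialLinearGroup (Fin 4) F →* commutator (orth (hypSum 3 (zeroForm F))) :=
    kleinOrth.codRestrict _ fun g => hle ⟨g, rfl⟩
  let ι₁ : commutator (orth (hypSum 3 (zeroForm F))) ≃*
      eichGroup (hyp (hyp (hypSum 1 (zeroForm F)))) :=
    (commEquiv (orthCongr (hypSumTwo (zeroForm F) 1))).trans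
      (MulEquiv.subgroupCongr (commutator_orth_eq hB (Or.inl le_rfl)))
  have hπ : Function.Surjective π₁ := fun x => by
    obtain ⟨g, hg⟩ : x.1 ∈ (kleinOrth (F := F)).range := by rw [hrange]; exact x.2
    exact ⟨g, Subtype.ext hg⟩
  have hk : π₁.ker = (kleinOrth (F := F)).ker := MonoidHom.ker_codRestrict _ _ _
  have hgen : Subgroup.closure {g : Matrix.SpecialLinearGroup (Fin 4) F | Pel p g} = ⊤ := by
    rw [eq_top_iff, ← LinearGroup.closure_transvection_eq_top, Subgroup.closure_le]
    rintro _ ⟨i, j, hij, c, rfl⟩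
    refine Subgroup.subset_closure ⟨1, ?_⟩
    rw [← T_of_ne hij, pow_one, T_pow, CharP.cast_eq_zero, zero_mul, T_zero]
  have hb := pBound_of_cover.{v, v, v} hp π₁ hπ (hk ▸ hker) (hk ▸ hnd) hgen
    (ptriv_fin (p := p) (F := F) 4 (by norm_num))
  intro Γ _ _ σ E hg
  exact (PBound.of_mulEquiv ι₁ hb Γ σ E hg).trans (le_of_eq_of_le (by rw [hk]) hcard)

theorem pBound_plus [Finite F] {p : ℕ} (hp : p.Prime) [CharP F p] :
    ∀ k : ℕ, 1 ≤ k → PBound.{v} p (dOrth F) (eichGroup (hyp (hyp (hypSum k (zeroForm F)))))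
  | 0, h => absurd h (by omega)
  | 1, _ => pBound_six hp
  | k + 2, _ => by
    have hB := base_zeroForm (F := F)
    have h := pBound_step (M := hypSum (k + 1) (zeroForm F)) (hB.nd.hypSum _)
      (exists_hypSum_ne_zero _ (Or.inl (by omega))) (elemGroup_hypHyp hB.nd hB.refl _)
      (fun c => ⟨((c, 1), 0), by simp [zeroForm]⟩) (pBound_plus hp (k + 1) (by omega))
    exact PBound.of_mulEquiv
      (eichEquiv (hypCongr (hypCongr (hypSumSucc (zeroForm F) (k + 1))))).symm h

/-- **The upper bound for `PΩ⁺_2l`.** -/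
theorem card_stem_ker_plus [Fintype F] {l : ℕ} (hl : 4 ≤ l) (h4 : l = 4 → Nat.card F ≠ 2)
    (Γ : Type v) [Group Γ] [Finite Γ] (σ : Γ →* Cfsg.POmega F (Cfsg.quadFormPlus l F))
    (hσ : Cfsg.IsStemExtension σ) :
    Nat.card σ.ker ≤ Nat.gcd 4 (Nat.card F ^ l - 1) := by
  obtain ⟨k, rfl⟩ : ∃ k, l = k + 2 := ⟨l - 2, by omega⟩
  have hk : 1 ≤ k := by omega
  obtain ⟨p, hp⟩ := CharP.exists F
  have hpp : p.Prime :=
    (CharP.char_is_prime_or_zero F p).resolve_right (CharP.char_ne_zero_of_finite F p)
  have hB := base_zeroForm (F := F)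
  have hex := exists_hypSum_ne_zero (Q := zeroForm F) k (Or.inl hk)
  let ψ := (plusEquiv (k + 2) F).trans (orthCongr (hypSumTwo (zeroForm F) k))
  obtain ⟨e⟩ := nonempty_commutator_quotient_congr ψ (commutator_orth_eq hB (Or.inl hk))
  have hfree : PFree.{v} p (eichGroup (hyp (hyp (hypSum k (zeroForm F))))) :=
    PFree.of_mulEquiv ((commEquiv (orthCongr (hypSumTwo (zeroForm F) k))).trans
      (MulEquiv.subgroupCongr (commutator_orth_eq hB (Or.inl hk))))
      (pFree_plus (l := k + 2) hpp hl h4)
  have hperf : Group.IsPerfect (eichGroup (hyp (hyp (hypSum k (zeroForm F))))) := by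
    have := isPerfect_commutator_orth hB (k := k) (Or.inl hk)
    rwa [commutator_orth_eq hB (Or.inl hk)] at this
  obtain ⟨hσ', hkσ⟩ := Cfsg.Agent.Schur.isStemExtension_comp_mulEquiv hσ e
  have hbound := card_stem_ker_le hperf
    (QuotientGroup.mk' (Subgroup.center (eichGroup (hyp (hyp (hypSum k (zeroForm F)))))))
    (QuotientGroup.mk'_surjective _) hpp hfree (pBound_plus hpp k hk) (closure_pel_eichGroup _ p)
    (e.toMonoidHom.comp σ) hσ'
  rw [hkσ, QuotientGroup.ker_mk'] at hbound
  refine hbound.trans (le_of_eq ?_)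
  have hP := (pomega_plus (F := F) k hk).2
  rw [Nat.card_congr e.toEquiv] at hP
  have h1 := Subgroup.card_eq_card_quotient_mul_card_subgroup
    (Subgroup.center (eichGroup (hyp (hyp (hypSum k (zeroForm F))))))
  have h2 := (eichGroup (hyp (hyp (hypSum k (zeroForm F))))).card_mul_index
  rw [h1, ← card_orth_congr (hypSumTwo (zeroForm F) k), ← hP] at h2
  have hpos : 0 < Nat.card (eichGroup (hyp (hyp (hypSum k (zeroForm F)))) ⧸
      Subgroup.center (eichGroup (hyp (hyp (hypSum k (zeroForm F)))))) := Nat.card_pos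
  have h3 : (eichGroup (hyp (hyp (hypSum k (zeroForm F))))).index *
      Nat.card (Subgroup.center (eichGroup (hyp (hyp (hypSum k (zeroForm F)))))) =
      2 * Nat.gcd 4 (Nat.card F ^ (k + 2) - 1) := by
    refine Nat.eq_of_mul_eq_mul_left hpos ?_
    linarith [h2]
  by_cases h20 : (2 : F) = 0
  · rw [(eichGroup_eq_ker_of_two (hB.nd.hypSum k) hex (elemGroup_hypHyp hB.nd hB.refl k) h20).2] at h3
    simp only [dOrth, h20, if_true]
    omega
  · rw [(eichGroup_eq_ker_of_odd (hB.nd.hypSum k) hex (elemGroup_hypHyp hB.nd hB.refl k) h20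
      (hsep_of_base h20 (hB.sep h20) k)).2] at h3
    simp only [dOrth, h20, if_false]
    omega

end Cfsg.Agent.ClassMult
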