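import Cfsg.Agent.ClassMult.MinusSys
import Cfsg.Agent.ClassMult.PlusBound

/-!
The `p`-part of the multiplier of `Ω⁻_2l(q)`, `l ≥ 4`, for every `q`: a Sylow subgroup is covered by the
canonical complements at `n` orthogonal singular points (helper74).
-/

set_option autoImplicit false

namespace Cfsg.Agent.ClassMult

open Cfsg.Agent.UnitaryOrthogonal QuadraticMap Cfsg.Agent.CharB.PSLMult
open scoped commutatorElement

universe u v w

section Product

variable {G : Type w} [Group G] {A C : Subgroup G}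

theorem mem_sup_of_norm (h : ∀ c ∈ C, ∀ a ∈ A, c * a * c⁻¹ ∈ A) {x : G} (hx : x ∈ A ⊔ C) :
    ∃ a ∈ A, ∃ c ∈ C, x = a * c := by
  let P : Subgroup G :=
    { carrier := {x | ∃ a ∈ A, ∃ c ∈ C, x = a * c}
      one_mem' := ⟨1, one_mem _, 1, one_mem _, (mul_one 1).symm⟩
      mul_mem' := by
        rintro _ _ ⟨a, ha, c, hc, rfl⟩ ⟨a', ha', c', hc', rfl⟩
        exact ⟨a * (c * a' * c⁻¹), mul_mem ha (h c hc a' ha'), c * c', mul_mem hc hc', by group⟩
      inv_mem' := by
        rintro _ ⟨a, ha, c, hc, rfl⟩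
        exact ⟨c⁻¹ * a⁻¹ * c⁻¹⁻¹, h _ (inv_mem hc) _ (inv_mem ha), c⁻¹, inv_mem hc, by group⟩ }
  have hle : A ⊔ C ≤ P := sup_le (fun a ha => ⟨a, ha, 1, one_mem _, (mul_one a).symm⟩)
    fun c hc => ⟨1, one_mem _, c, hc, (one_mul c).symm⟩
  exact hle hx

theorem card_sup_of_norm (h : ∀ c ∈ C, ∀ a ∈ A, c * a * c⁻¹ ∈ A) (hd : ∀ a ∈ A, a ∈ C → a = 1) :
    Nat.card (A ⊔ C : Subgroup G) = Nat.card A * Nat.card C := by
  rw [← Nat.card_prod]
  refine (Nat.card_congr (Equiv.ofBijective (fun p : A × C =>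
    (⟨p.1.1 * p.2.1, mul_mem ((le_sup_left : A ≤ A ⊔ C) p.1.2)
      ((le_sup_right : C ≤ A ⊔ C) p.2.2)⟩ : (A ⊔ C : Subgroup G))) ⟨?_, ?_⟩)).symm
  · rintro ⟨⟨a, ha⟩, ⟨c, hc⟩⟩ ⟨⟨a', ha'⟩, ⟨c', hc'⟩⟩ e
    have e' : a * c = a' * c' := congrArg Subtype.val e
    have hmem : a'⁻¹ * a ∈ C := by
      rw [show a'⁻¹ * a = c' * c⁻¹ by rw [inv_mul_eq_iff_eq_mul, ← mul_assoc, ← e', mul_inv_cancel_right]]
      exact mul_mem hc' (inv_mem hc)
    have h1 := hd _ (mul_mem (inv_mem ha') ha) hmem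
    rw [inv_mul_eq_one] at h1
    subst h1
    have hcc := mul_left_cancel e'
    subst hcc
    rfl
  · rintro ⟨x, hx⟩
    obtain ⟨a, ha, c, hc, rfl⟩ := mem_sup_of_norm h hx
    exact ⟨(⟨a, ha⟩, ⟨c, hc⟩), rfl⟩

end Product

variable {F : Type v} [Field F] {a b : F} {n : ℕ}

/-- The coordinate space of `H^n ⊥ binForm`. -/
abbrev MV (n : ℕ) (F : Type v) : Type v := ((Fin n → F) × (Fin n → F)) × (F × F)

/-- The `i`th singular basis vector. -/
def eI (i : Fin n) : MV n F := ((Pi.single i 1, 0), 0)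

/-- Its partner. -/
def fI (i : Fin n) : MV n F := ((0, Pi.single i 1), 0)

theorem form_eI (i : Fin n) : hypSum n (binForm a b) (eI i) = 0 := by simp [eI]

theorem polar_eI (i : Fin n) (z : MV n F) :
    polar (hypSum n (binForm a b)) (eI i) z = z.1.2 i := by
  simp [polar, eI, add_mul, Finset.sum_add_distrib, Pi.single_apply]

theorem polar_fI (i : Fin n) (z : MV n F) :
    polar (hypSum n (binForm a b)) (fI i) z = z.1.1 i := by
  simp [polar, fI, mul_add, Finset.sum_add_distrib, Pi.single_apply]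

/-- The vectors orthogonal to the first `i + 1` planes. -/
def Si (i : Fin n) : Submodule F (MV n F) where
  carrier := {z | ∀ m : Fin n, m.val ≤ i.val → z.1.1 m = 0 ∧ z.1.2 m = 0}
  zero_mem' m _ := ⟨rfl, rfl⟩
  add_mem' {x y} hx hy m hm := by simp [hx m hm, hy m hm]
  smul_mem' c x hx m hm := by simp [hx m hm]

theorem polar_eI_Si {i : Fin n} {z : MV n F} (hz : z ∈ Si i) :
    polar (hypSum n (binForm a b)) (eI i) z = 0 := by
  rw [polar_eI]; exact (hz i le_rfl).2

/-- The transformations at `eI i` along `Si i`. -/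
noncomputable def qg (a b : F) (i : Fin n) : Subgroup (eichGroup (hypSum n (binForm a b))) where
  carrier := {g | ∃ z ∈ Si i, g = ee _ (eI i) z}
  one_mem' := ⟨0, zero_mem _, (ee_zero _).symm⟩
  mul_mem' := by
    rintro _ _ ⟨z, hz, rfl⟩ ⟨z', hz', rfl⟩
    exact ⟨z + z', add_mem hz hz', ee_mul (form_eI i) (polar_eI_Si hz) (polar_eI_Si hz')⟩
  inv_mem' := by
    rintro _ ⟨z, hz, rfl⟩
    exact ⟨-z, neg_mem hz, ee_inv (form_eI i) (polar_eI_Si hz)⟩

/-- Fixing the first planes. -/
def Fix (k : ℕ) (g : eichGroup (hypSum n (binForm a b))) : Prop :=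
  ∀ m : Fin n, m.val + k < n → g.1.1 (eI m) = eI m ∧ g.1.1 (fI m) = fI m

theorem fix_mem_Si {k : ℕ} {g : eichGroup (hypSum n (binForm a b))} (hg : Fix k g) {i : Fin n}
    (hi : i.val + k < n) {z : MV n F} (hz : z ∈ Si i) : g.1.1 z ∈ Si i := by
  intro m hm
  obtain ⟨h1, h2⟩ := hg m (by omega)
  refine ⟨?_, ?_⟩
  · rw [← polar_fI (a := a) (b := b), ← h2, map_polar, polar_fI]; exact (hz m hm).1
  · rw [← polar_eI (a := a) (b := b), ← h1, map_polar, polar_eI]; exact (hz m hm).2

theorem qg_fix {i : Fin n} {k : ℕ} (hi : i.val + k = n) {g : eichGroup (hypSum n (binForm a b))}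
    (hg : g ∈ qg a b i) : Fix k g := by
  obtain ⟨z, hz, rfl⟩ := hg
  intro m hm
  have hmi : m ≠ i := fun h => by subst h; omega
  constructor
  · refine eich_fix (form_eI i) (polar_eI_Si hz) ?_ ?_
    · rw [polar_eI]; simp [eI]
    · rw [polar_comm, polar_eI]; exact (hz m (by omega)).2
  · refine eich_fix (form_eI i) (polar_eI_Si hz) ?_ ?_
    · rw [polar_eI]; simp [fI, hmi.symm]
    · rw [polar_comm, polar_fI]; exact (hz m (by omega)).1

theorem qg_param {i : Fin n} {z : MV n F} (hz : z ∈ Si i)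
    (h : (ee (hypSum n (binForm a b)) (eI i) z).1.1 (fI i) = fI i) : z = 0 := by
  rw [ee_apply (form_eI i) (polar_eI_Si hz), polar_eI, polar_comm, polar_fI, (hz i le_rfl).1] at h
  have hf : (fI (F := F) i).1.2 i = 1 := by simp [fI]
  rw [hf, one_smul, mul_one, zero_smul, sub_zero, add_sub_assoc, add_eq_left, sub_eq_zero] at h
  have h' := congrArg (fun w : MV n F => w.1.1 i) h
  simp only [(hz i le_rfl).1, Prod.smul_fst, Pi.smul_apply, eI, Pi.single_eq_same, smul_eq_mul,
    mul_one] at h'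
  rw [h, ← h', zero_smul]

theorem card_qg [Finite F] (i : Fin n) {k : ℕ} (hk : i.val + (k + 1) = n) :
    Nat.card (qg a b i) = Nat.card F ^ (2 * k + 2) := by
  have h1 : Nat.card (Si (F := F) i) = Nat.card (qg a b i) := by
    refine Nat.card_congr (Equiv.ofBijective (fun z : Si (F := F) i =>
      (⟨ee _ (eI i) z.1, z.1, z.2, rfl⟩ : qg a b i)) ⟨fun z z' e => ?_, ?_⟩)
    · have e' : ee (hypSum n (binForm a b)) (eI i) z.1 = ee _ (eI i) z'.1 := congrArg Subtype.val e
      have e2 : ee (hypSum n (binForm a b)) (eI i) (z.1 + -z'.1) = 1 := by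
        rw [← ee_mul (form_eI i) (polar_eI_Si z.2) (polar_eI_Si (neg_mem z'.2)), e',
          ← ee_inv (form_eI i) (polar_eI_Si z'.2), mul_inv_cancel]
      have h0 := qg_param (add_mem z.2 (neg_mem z'.2)) (by rw [e2]; rfl)
      exact Subtype.ext (eq_of_sub_eq_zero (by rw [sub_eq_add_neg]; exact h0))
    · rintro ⟨_, z, hz, rfl⟩
      exact ⟨⟨z, hz⟩, rfl⟩
  have e : Si (F := F) i ≃ ((Fin k → F) × (Fin k → F)) × (F × F) :=
    { toFun := fun z => ((fun t => z.1.1.1 ⟨i.val + 1 + t.val, by omega⟩,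
        fun t => z.1.1.2 ⟨i.val + 1 + t.val, by omega⟩), z.1.2)
      invFun := fun p => ⟨((fun m => if h : i.val < m.val then p.1.1 ⟨m.val - i.val - 1, by omega⟩ else 0,
        fun m => if h : i.val < m.val then p.1.2 ⟨m.val - i.val - 1, by omega⟩ else 0), p.2),
        fun m hm => by simp [Nat.not_lt.2 hm]⟩
      left_inv := fun z => by
        refine Subtype.ext (Prod.ext (Prod.ext (funext fun m => ?_) (funext fun m => ?_)) rfl)
        · by_cases h : i.val < m.val
          · simp only [h, ↓reduceDIte]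
            refine congrArg _ (Fin.ext ?_)
            simp only
            omega
          · simp only [h, ↓reduceDIte]
            exact ((z.2 m (Nat.not_lt.1 h)).1).symm
        · by_cases h : i.val < m.val
          · simp only [h, ↓reduceDIte]
            refine congrArg _ (Fin.ext ?_)
            simp only
            omega
          · simp only [h, ↓reduceDIte]
            exact ((z.2 m (Nat.not_lt.1 h)).2).symm
      right_inv := fun p => by
        refine Prod.ext (Prod.ext (funext fun t => ?_) (funext fun t => ?_)) rfl <;>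
        · simp only [show i.val < i.val + 1 + t.val by omega, ↓reduceDIte]
          refine congrArg _ (Fin.ext ?_)
          simp only
          omega }
  rw [← h1, Nat.card_congr e, Nat.card_prod, Nat.card_prod, Nat.card_prod, Nat.card_fun,
    Nat.card_eq_fintype_card (α := Fin k), Fintype.card_fin]
  ring

/-- The unipotent subgroup of the last `k` planes. -/
noncomputable def ug (a b : F) (n : ℕ) : ℕ → Subgroup (eichGroup (hypSum n (binForm a b)))
  | 0 => ⊥
  | k + 1 => if h : k < n then qg a b ⟨n - 1 - k, by omega⟩ ⊔ ug a b n k else ug a b n k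

theorem ug_succ {k : ℕ} (h : k < n) :
    ug a b n (k + 1) = qg a b ⟨n - 1 - k, by omega⟩ ⊔ ug a b n k := by
  rw [ug, dif_pos h]

theorem ug_fix : ∀ {k : ℕ}, k ≤ n → ∀ g ∈ ug a b n k, Fix k g
  | 0, _, g, hg, m, _ => by
    rw [ug, Subgroup.mem_bot] at hg
    subst hg
    exact ⟨rfl, rfl⟩
  | k + 1, hk, g, hg, m, hm => by
    rw [ug_succ (show k < n by omega)] at hg
    let P : Subgroup (eichGroup (hypSum n (binForm a b))) :=
      { carrier := {g | g.1.1 (eI m) = eI m ∧ g.1.1 (fI m) = fI m}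
        one_mem' := ⟨rfl, rfl⟩
        mul_mem' := fun {x y} hx hy => ⟨by rw [Subgroup.coe_mul, coe_mul_apply, hy.1, hx.1],
          by rw [Subgroup.coe_mul, coe_mul_apply, hy.2, hx.2]⟩
        inv_mem' := fun {x} hx => by
          refine ⟨?_, ?_⟩
          · conv_lhs => rw [← hx.1]
            exact coe_inv_apply_apply x.1 _
          · conv_lhs => rw [← hx.2]
            exact coe_inv_apply_apply x.1 _ }
    have hle : qg a b ⟨n - 1 - k, by omega⟩ ⊔ ug a b n k ≤ P := sup_le
      (fun x hx => qg_fix (k := k + 1) (by simp only; omega) hx m hm)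
      (fun x hx => ug_fix (by omega) x hx m (by omega))
    exact hle hg

theorem ug_norm {k : ℕ} (hk : k < n) :
    ∀ c ∈ ug a b n k, ∀ x ∈ qg a b ⟨n - 1 - k, by omega⟩,
      c * x * c⁻¹ ∈ qg a b ⟨n - 1 - k, by omega⟩ := by
  rintro c hc _ ⟨z, hz, rfl⟩
  have hf := ug_fix (show k ≤ n by omega) c hc
  refine ⟨_, fix_mem_Si hf (by simp only; omega) hz, ?_⟩
  rw [ee_conj, (hf _ (by simp only; omega)).1]

theorem ug_disj {k : ℕ} (hk : k < n) :
    ∀ x ∈ qg a b ⟨n - 1 - k, by omega⟩, x ∈ ug a b n k → x = 1 := by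
  rintro _ ⟨z, hz, rfl⟩ hc
  rw [qg_param hz (ug_fix (show k ≤ n by omega) _ hc _ (by simp only; omega)).2, ee_zero]

theorem card_ug [Finite F] : ∀ {k : ℕ}, k ≤ n → Nat.card (ug a b n k) = Nat.card F ^ (k * (k + 1))
  | 0, _ => by rw [ug, Subgroup.card_bot]; simp
  | k + 1, hk => by
    rw [ug_succ (show k < n by omega), card_sup_of_norm (ug_norm (by omega)) (ug_disj (by omega)),
      card_ug (k := k) (by omega), card_qg _ (k := k) (by simp only; omega), ← pow_add]
    congr 1
    ring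

section Cover

variable {Γ : Type u} [Group Γ] {σ : Γ →* eichGroup (hypSum n (binForm a b))} (E : CEx σ)

include E in
theorem exists_complement {j : ℕ} (hn : n = j + 3)
    (S : Sys (hypSum n (binForm a b)) (hypSum j (binForm a b))) :
    ∀ {k : ℕ}, k ≤ n → ∃ C : Subgroup Γ, (∀ x ∈ C, σ x = 1 → x = 1) ∧ C.map σ = ug a b n k
  | 0, _ => ⟨⊥, fun x hx _ => Subgroup.mem_bot.1 hx, by rw [Subgroup.map_bot, ug]⟩
  | k + 1, hk => by
    obtain ⟨C, hC, hCm⟩ := exists_complement hn S (k := k) (by omega)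
    have hkn : k < n := by omega
    set i : Fin n := ⟨n - 1 - k, by omega⟩
    have hpair : ∃ w, Pair (hypSum n (binForm a b)) (eI i) w := by
      haveI : Nontrivial (Fin n) := Fin.nontrivial_iff_two_le.2 (by omega)
      obtain ⟨m, hm⟩ := exists_ne i
      refine ⟨eI m, form_eI i, form_eI m, by rw [polar_eI]; simp [eI], fun h => ?_, fun c h => ?_⟩
      · simpa [eI] using congrArg (fun w : MV n F => w.1.1 i) h
      · have := congrArg (fun w : MV n F => w.1.1 m) h
        simp [eI, hm] at this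
    obtain ⟨h1, h2, -⟩ := rootGrp_spec E S hpair
    let A : Subgroup Γ := rootGrp E (eI i) ⊓ (qg a b i).comap σ
    have hAm : A.map σ = qg a b i := by
      refine le_antisymm (by rintro _ ⟨x, hx, rfl⟩; exact hx.2) ?_
      rintro _ ⟨z, hz, rfl⟩
      obtain ⟨g, hg, e⟩ := h2 z (polar_eI_Si hz)
      exact ⟨g, ⟨hg, show σ g ∈ qg a b i by rw [e]; exact ⟨z, hz, rfl⟩⟩, e⟩
    have hnorm : ∀ c ∈ C, ∀ x ∈ A, c * x * c⁻¹ ∈ A := by
      intro c hc x hx
      have hσc : σ c ∈ ug a b n k := hCm ▸ Subgroup.mem_map_of_mem σ hc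
      refine ⟨?_, ?_⟩
      · have h := rootGrp_conj E S c hx.1
        rwa [(ug_fix (show k ≤ n by omega) _ hσc i (by simp only [i]; omega)).1] at h
      · show σ (c * x * c⁻¹) ∈ qg a b i
        rw [map_mul, map_mul, map_inv]
        exact ug_norm hkn _ hσc _ hx.2
    refine ⟨A ⊔ C, fun x hx h => ?_, ?_⟩
    · obtain ⟨y, hy, c, hc, rfl⟩ := mem_sup_of_norm hnorm hx
      rw [map_mul, mul_eq_one_iff_eq_inv] at h
      have hy1 : σ y = 1 := ug_disj hkn _ hy.2 (by
        rw [h]; exact inv_mem (hCm ▸ Subgroup.mem_map_of_mem σ hc))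
      rw [hy1, eq_comm, inv_eq_one] at h
      rw [h1 y hy.1 hy1, hC c hc h, mul_one]
    · rw [Subgroup.map_sup, hAm, hCm, ug_succ hkn]

end Cover

/-- `hypSum (j + 3)` as three planes and the rest. -/
def threeIso (Q : QuadraticForm F (F × F)) (j : ℕ) :
    (hyp (hyp (hyp (hypSum j Q)))).IsometryEquiv (hypSum (j + 3) Q) :=
  (((hypSumSucc Q (j + 2)).trans (hypCongr (hypSumSucc Q (j + 1)))).trans
    (hypCongr (hypCongr (hypSumSucc Q j)))).symm

/-- **The `p`-part for `Ω⁻_2l`.** -/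
theorem pFree_minus [Finite F] (hab : BinAniso a b) {p : ℕ} (hp : p.Prime) [CharP F p] {k : ℕ}
    (hk : 1 ≤ k) : PFree.{u} p (eichGroup (hyp (hyp (hypSum k (binForm a b))))) := by
  classical
  haveI := Fintype.ofFinite F
  obtain ⟨j, rfl⟩ : ∃ j, k = j + 1 := ⟨k - 1, by omega⟩
  have S := (sys_minus hab j).congr (threeIso (binForm a b) j)
  let e := eichEquiv (hypSumTwo (binForm a b) (j + 1))
  refine PFree.of_mulEquiv e ?_
  refine pFree_of_subgroup hp (ug a b (j + 3) (j + 3)) ?_ fun Γ _ σ E => ?_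
  · have hB := base_binForm hab
    have hM := hB.nd.hypSum (j + 1)
    have hex := exists_hypSum_ne_zero (Q := binForm a b) (j + 1) (Or.inl (by omega))
    have hgen := elemGroup_hypHyp hB.nd hB.refl (j + 1)
    set G' := eichGroup (hyp (hyp (hypSum (j + 1) (binForm a b)))) with hG'
    have hO : Nat.card (orth (hyp (hyp (hypSum (j + 1) (binForm a b))))) =
        2 * Nat.card F ^ ((j + 3 + 1) * (j + 3)) * ((Nat.card F ^ (j + 3 + 1) + 1) *
          ∏ i ∈ Finset.range (j + 3), (Nat.card F ^ (2 * (i + 1)) - 1)) := by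
      rw [← card_orth_congr (hypSumTwo (binForm a b) (j + 1)), card_orth_minus hab]
      ring
    have hcard : Nat.card G' * G'.index = Nat.card (orth (hyp (hyp (hypSum (j + 1) (binForm a b))))) :=
      G'.card_mul_index
    have hcG : Nat.card (eichGroup (hypSum (j + 3) (binForm a b))) = Nat.card G' :=
      Nat.card_congr e.toEquiv
    have hH := (ug a b (j + 3) (j + 3)).card_mul_index
    rw [card_ug le_rfl, hcG] at hH
    set q := Nat.card F with hq
    set R := (q ^ (j + 3 + 1) + 1) * ∏ i ∈ Finset.range (j + 3), (q ^ (2 * (i + 1)) - 1) with hR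
    have hpq : p ∣ q := by
      obtain ⟨e, -, he⟩ := FiniteField.card F p
      rw [hq, Nat.card_eq_fintype_card, he]
      exact dvd_pow_self _ e.2.ne'
    have hpR : ¬ p ∣ R := by
      intro hd
      rcases (Nat.Prime.dvd_mul hp).1 hd with h | h
      · exact hp.not_dvd_one ((Nat.dvd_add_right (dvd_pow hpq (by omega))).1 h)
      · obtain ⟨i, -, hi⟩ := (Prime.dvd_finsetProd_iff hp.prime _).1 h
        have := Nat.dvd_sub (dvd_pow hpq (show 2 * (i + 1) ≠ 0 by omega)) hi
        rw [Nat.sub_sub_self (Nat.one_le_pow _ _ Finite.card_pos)] at this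
        exact hp.not_dvd_one this
    have key : (ug a b (j + 3) (j + 3)).index * G'.index = 2 * R := by
      refine Nat.eq_of_mul_eq_mul_left
        (Nat.pow_pos (n := (j + 3) * (j + 3 + 1)) (Finite.card_pos (α := F))) ?_
      rw [← hq, ← mul_assoc, hH, hcard, hO]
      ring
    intro hd
    by_cases h2 : (2 : F) = 0
    · rw [hG', (eichGroup_eq_ker_of_two hM hex hgen h2).2, mul_comm 2 R] at key
      exact hpR (Nat.eq_of_mul_eq_mul_right two_pos key ▸ hd)
    · have hp2 : p ≠ 2 := fun e => h2 (by subst e; exact_mod_cast CharP.cast_eq_zero F 2)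
      rw [hG', (eichGroup_eq_ker_of_odd hM hex hgen h2
        (hsep_of_base h2 (hB.sep h2) (j + 1))).2] at key
      rcases (Nat.Prime.dvd_mul hp).1 (show p ∣ 2 * R by rw [← key]; exact dvd_mul_of_dvd_left hd 4)
        with h | h
      · exact hp2 ((Nat.prime_dvd_prime_iff_eq hp Nat.prime_two).1 h)
      · exact hpR h
  · obtain ⟨C, hC, hCm⟩ := exists_complement E (n := j + 3) rfl S le_rfl
    rw [eq_bot_iff]
    rintro x ⟨hx, hx'⟩
    have hle : ⁅(ug a b (j + 3) (j + 3)).comap σ, (ug a b (j + 3) (j + 3)).comap σ⁆ ≤ C := by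
      rw [Subgroup.commutator_le]
      intro y hy z hz
      have key : ∀ y ∈ (ug a b (j + 3) (j + 3)).comap σ, ∃ c ∈ C, ∃ k ∈ Subgroup.center Γ,
          y = c * k := fun y hy => by
        obtain ⟨c, hc, e⟩ : σ y ∈ C.map σ := by rw [hCm]; exact hy
        obtain ⟨k, hk, ek⟩ := E.exists_central (a := y) (a' := c) e.symm
        exact ⟨c, hc, k, hk, ek⟩
      obtain ⟨c, hc, k, hk, rfl⟩ := key y hy
      obtain ⟨c', hc', k', hk', rfl⟩ := key z hz
      rw [Cfsg.Agent.Schur.commutatorElement_mul_central hk hk', commutatorElement_def]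
      exact C.mul_mem (C.mul_mem (C.mul_mem hc hc') (C.inv_mem hc)) (C.inv_mem hc')
    exact Subgroup.mem_bot.2 (hC x (hle hx') hx)

end Cfsg.Agent.ClassMult
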