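import Cfsg.Agent.ClassMult.SpinPlus

/-!
The Schur multipliers of `PΩ⁺_2l` (helper74).
-/

set_option autoImplicit false

namespace Cfsg.Agent.ClassMult

open Cfsg.Agent.UnitaryOrthogonal QuadraticMap

universe v

variable {F : Type v} [Field F] [Finite F]

theorem index_mul_card_center_plus (k : ℕ) (hk : 1 ≤ k) :
    (eichGroup (hyp (hyp (hypSum k (zeroForm F))))).index *
      Nat.card (Subgroup.center (eichGroup (hyp (hyp (hypSum k (zeroForm F)))))) =
      2 * Nat.gcd 4 (Nat.card F ^ (k + 2) - 1) := by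
  have hB := base_zeroForm (F := F)
  let ψ := (plusEquiv (k + 2) F).trans (orthCongr (hypSumTwo (zeroForm F) k))
  obtain ⟨e⟩ := nonempty_commutator_quotient_congr ψ (commutator_orth_eq hB (Or.inl hk))
  have hP := (pomega_plus (F := F) k hk).2
  rw [Nat.card_congr e.toEquiv] at hP
  have h1 := Subgroup.card_eq_card_quotient_mul_card_subgroup
    (Subgroup.center (eichGroup (hyp (hyp (hypSum k (zeroForm F))))))
  have h2 := (eichGroup (hyp (hyp (hypSum k (zeroForm F))))).card_mul_index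
  rw [h1, ← card_orth_congr (hypSumTwo (zeroForm F) k), ← hP] at h2
  refine Nat.eq_of_mul_eq_mul_left (Nat.card_pos (α :=
    eichGroup (hyp (hyp (hypSum k (zeroForm F)))) ⧸
      Subgroup.center (eichGroup (hyp (hyp (hypSum k (zeroForm F))))))) ?_
  linarith [h2]

/-- In odd characteristic the spin group gives a stem extension of the full size. -/
theorem exists_cover_plus_odd (k : ℕ) (hk : 1 ≤ k) (h2 : (2 : F) ≠ 0) :
    ∃ (Γ : Type v) (_ : Group Γ) (_ : Finite Γ)
      (σ : Γ →* Cfsg.POmega F (Cfsg.quadFormPlus (k + 2) F)),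
      Cfsg.IsStemExtension σ ∧ Nat.card σ.ker = Nat.gcd 4 (Nat.card F ^ (k + 2) - 1) ∧
      (Odd (k + 2) → IsCyclic σ.ker) ∧ (Even (k + 2) → ∀ x : σ.ker, x * x = 1) := by
  classical
  haveI : Invertible (2 : F) := invertibleOfNonzero h2
  have hB := base_zeroForm (F := F)
  have hex := exists_hypSum_ne_zero (Q := zeroForm F) k (Or.inl hk)
  set Q := hyp (hyp (hypSum k (zeroForm F))) with hQdef
  have hnd : PolarND Q := (hB.nd.hypSum k).hyp.hyp
  let ψ := (plusEquiv (k + 2) F).trans (orthCongr (hypSumTwo (zeroForm F) k))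
  obtain ⟨e⟩ := nonempty_commutator_quotient_congr ψ (commutator_orth_eq hB (Or.inl hk))
  have hperf : Group.IsPerfect (eichGroup Q) := by
    have := isPerfect_commutator_orth hB (k := k) (Or.inl hk)
    rwa [commutator_orth_eq hB (Or.inl hk)] at this
  have hsq : ∃ g ∈ spin Q, g * g = ((-1, 1) : (CliffordAlgebra Q)ˣ × orth Q) := by
    refine exists_sq_eq_neg_one (a := eVec F _) (b := fVec F _) (c := inW (eVec F _))
      (d := inW (fVec F _)) ?_ ?_ ?_ ?_ ?_ ?_ ?_ ?_ ?_ ?_ <;> simp [hQdef, eVec, fVec, inW_apply, zeroForm, polar]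
  let τ : eichGroup Q →* Cfsg.POmega F (Cfsg.quadFormPlus (k + 2) F) :=
    e.symm.toMonoidHom.comp (QuotientGroup.mk' (Subgroup.center (eichGroup Q)))
  have hτ : τ.ker = Subgroup.center (eichGroup Q) := by
    ext x
    rw [MonoidHom.mem_ker, ← QuotientGroup.eq_one_iff]
    exact e.symm.map_eq_one_iff
  obtain ⟨hst, hcard⟩ := exists_stem_cover hnd hperf hsq τ
    (e.symm.surjective.comp (QuotientGroup.mk'_surjective _)) hτ.le
  haveI : Finite (spin Q) := finite_spin hnd
  refine ⟨spin Q, inferInstance, inferInstance, τ.comp (spinProj Q), hst, ?_⟩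
  have hidx : (eichGroup Q).index = 4 :=
    (eichGroup_eq_ker_of_odd (hB.nd.hypSum k) hex (elemGroup_hypHyp hB.nd hB.refl k) h2
      (hsep_of_base h2 (hB.sep h2) k)).2
  have hc : Nat.card (τ.comp (spinProj Q)).ker = Nat.gcd 4 (Nat.card F ^ (k + 2) - 1) := by
    have := index_mul_card_center_plus (F := F) k hk
    rw [hcard, hτ]
    rw [← hQdef, hidx] at this
    omega
  refine ⟨hc, ?_⟩
  -- the square of an element of the kernel
  have hsqk : ∀ x : (τ.comp (spinProj Q)).ker,
      x.1.1.2 = 1 ∧ x * x = 1 ∨ x.1.1.2 = negOne Q ∧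
        ((x.1.1.1 : CliffordAlgebra Q) * x.1.1.1 = (-1) ^ (k + 2)) := by
    intro x
    have hz : spinProj Q x.1 ∈ Subgroup.center (eichGroup Q) := hτ ▸ x.2
    obtain ⟨c, hc2, hc⟩ := eq_smul_of_fixesPoints ((mem_center_eichGroup (hB.nd.hypSum k) hex).1 hz)
    rcases mul_self_eq_one_iff.1 hc2 with rfl | rfl
    · have h : x.1.1.2 = 1 := orth_ext fun v => (hc v).trans (by simp)
      refine Or.inl ⟨h, Subtype.ext (Subtype.ext (Prod.ext ?_ ?_))⟩
      · show x.1.1.1 * x.1.1.1 = 1
        rcases spin_ker hnd x.1.2 h with e' | e' <;> simp [e']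
      · show x.1.1.2 * x.1.1.2 = 1
        rw [h, one_mul]
    · have h : x.1.1.2 = negOne Q := orth_ext fun v => (hc v).trans (by simp)
      exact Or.inr ⟨h, sq_of_negOne_plus k x.1.2 h⟩
  constructor
  · intro hodd
    by_cases h4 : ∃ x : (τ.comp (spinProj Q)).ker, x.1.1.2 = negOne Q
    · obtain ⟨x, hx⟩ := h4
      have h1 := sq_of_negOne_plus k x.1.2 hx
      rw [hodd.neg_one_pow] at h1
      haveI : Fact (Nat.Prime 2) := ⟨Nat.prime_two⟩
      refine isCyclic_of_orderOf_eq_card x (Nat.dvd_antisymm (orderOf_dvd_natCard x) ?_)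
      have hne : x ^ 2 ≠ 1 := fun h => by
        have h' : (x.1.1.1 : CliffordAlgebra Q) * x.1.1.1 = 1 := by
          rw [pow_two] at h
          exact congrArg (fun y : (τ.comp (spinProj Q)).ker => (y.1.1.1 : CliffordAlgebra Q)) h
        rw [h1, ← map_one (algebraMap F (CliffordAlgebra Q)), ← map_neg] at h'
        exact h2 (by linear_combination -((algebraMap F (CliffordAlgebra Q)).injective h'))
      have h4 : x ^ (2 ^ 2) = 1 := by
        have hsq1 : x.1.1.2 * x.1.1.2 = 1 := by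
          rw [hx]; exact orth_ext fun v => by simp
        have hu : x.1.1.1 * x.1.1.1 = -1 := Units.ext (by simpa using h1)
        show x ^ (2 * 2) = 1
        rw [pow_mul, pow_two, pow_two]
        refine Subtype.ext (Subtype.ext (Prod.ext ?_ ?_))
        · show x.1.1.1 * x.1.1.1 * (x.1.1.1 * x.1.1.1) = 1
          rw [hu]; simp
        · show x.1.1.2 * x.1.1.2 * (x.1.1.2 * x.1.1.2) = 1
          rw [hsq1, one_mul]
      rw [orderOf_eq_prime_pow (n := 1) (p := 2) (by simpa using hne) h4, hc]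
      exact Nat.gcd_dvd_left 4 _
    · have hall : ∀ x : (τ.comp (spinProj Q)).ker, x.1.1.2 = 1 := fun x =>
        (hsqk x).elim And.left fun h => absurd ⟨x, h.1⟩ h4
      have hle : Nat.card (τ.comp (spinProj Q)).ker ≤ 2 := by
        obtain ⟨g, hg, hg2⟩ := hsq
        refine le_of_le_of_eq ?_ (card_ker_spinProj hnd (hg2 ▸ mul_mem hg hg))
        refine Nat.card_le_card_of_injective
          (fun x : (τ.comp (spinProj Q)).ker =>
            (⟨x.1, MonoidHom.mem_ker.2 (Subtype.ext (hall x))⟩ : (spinProj Q).ker)) ?_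
        intro a b h; exact Subtype.ext (congrArg (fun y : (spinProj Q).ker => y.1) h)
      have h2' : Nat.card (τ.comp (spinProj Q)).ker = 2 := by
        have := Nat.card_pos (α := (τ.comp (spinProj Q)).ker)
        rw [hcard] at hle this ⊢
        have := Nat.card_pos (α := τ.ker)
        omega
      haveI : Fact (Nat.Prime 2) := ⟨Nat.prime_two⟩
      exact isCyclic_of_prime_card h2'
  · intro heven x
    rcases hsqk x with h | ⟨h, h1⟩
    · exact h.2
    · rw [heven.neg_one_pow] at h1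
      refine Subtype.ext (Subtype.ext (Prod.ext (Units.ext h1) ?_))
      show x.1.1.2 * x.1.1.2 = 1
      rw [h]; exact orth_ext fun v => by simp

theorem gcd_two_pow_sub_one {q l : ℕ} (hq : Odd q) (hl : l ≠ 0) :
    Nat.gcd 2 (q ^ l - 1) = 2 :=
  Nat.gcd_eq_left (Nat.Odd.sub_odd (hq.pow) odd_one).two_dvd

theorem gcd_four_pow_sub_one {q l : ℕ} (hq : Odd q) (hl : Even l) :
    Nat.gcd 4 (q ^ l - 1) = 4 := by
  obtain ⟨m, rfl⟩ := hl
  obtain ⟨a, rfl⟩ := hq
  refine Nat.gcd_eq_left ((Nat.modEq_iff_dvd' (Nat.one_le_pow _ _ (by omega))).1 ?_)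
  rw [← two_mul, pow_mul]
  have h : 1 ≡ (2 * a + 1) ^ 2 [MOD 4] :=
    (Nat.modEq_iff_dvd' (Nat.one_le_pow _ _ (by omega))).2
      ⟨a * a + a, by rw [Nat.sub_eq_iff_eq_add (Nat.one_le_pow _ _ (by omega))]; ring⟩
  simpa using h.pow m

theorem two_ne_zero_iff_odd [Fintype F] : (2 : F) ≠ 0 ↔ Odd (Fintype.card F) := by
  refine ⟨fun h => ?_, two_ne_zero_of_card_odd⟩
  by_contra hodd
  rw [Nat.not_odd_iff_even, even_iff_two_dvd] at hodd
  haveI : Fact (Nat.Prime 2) := ⟨Nat.prime_two⟩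
  obtain ⟨x, hx⟩ := exists_prime_addOrderOf_dvd_card 2 hodd
  have h0 : (2 : ℕ) • x = 0 := hx ▸ addOrderOf_nsmul_eq_zero x
  rw [nsmul_eq_mul, Nat.cast_ofNat, mul_eq_zero] at h0
  rcases h0 with h0 | h0
  · exact h h0
  · rw [h0, addOrderOf_zero] at hx; exact absurd hx (by norm_num)

/-- The case of trivial multiplier. -/
theorem hasSchurMultiplier_plus_two [Fintype F] {l : ℕ} (hl : 4 ≤ l)
    (h4 : l = 4 → Nat.card F ≠ 2) (h2 : (2 : F) = 0) {A : Type} [CommGroup A] [Subsingleton A] :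
    Cfsg.HasSchurMultiplier (Cfsg.POmega F (Cfsg.quadFormPlus l F)) A := by
  haveI : Unique A := uniqueOfSubsingleton 1
  haveI : Finite (Cfsg.POmega F (Cfsg.quadFormPlus l F)) := by
    obtain ⟨k, rfl⟩ : ∃ k, l = k + 2 := ⟨l - 2, by omega⟩
    obtain ⟨e⟩ := nonempty_commutator_quotient_congr
      ((plusEquiv (k + 2) F).trans (orthCongr (hypSumTwo (zeroForm F) k)))
      (commutator_orth_eq (base_zeroForm (F := F)) (Or.inl (by omega : 1 ≤ k)))
    exact Finite.of_equiv _ e.symm.toEquiv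
  refine Cfsg.Agent.Schur.hasSchurMultiplier_of_card_le
    (MonoidHom.id (Cfsg.POmega F (Cfsg.quadFormPlus l F)))
    ⟨Function.surjective_id, by simp, by simp⟩ ?_ fun Γ _ _ σ hσ => ?_
  · haveI : Unique (MonoidHom.id (Cfsg.POmega F (Cfsg.quadFormPlus l F))).ker :=
      ⟨⟨1⟩, fun x => Subtype.ext x.2⟩
    exact MulEquiv.ofUnique
  · refine (card_stem_ker_plus hl h4 Γ σ hσ).trans (le_of_eq ?_)
    rw [Nat.card_unique (α := A)]
    have he : Even (Nat.card F) := by
      rw [Nat.card_eq_fintype_card, ← Nat.not_odd_iff_even]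
      exact fun ho => two_ne_zero_iff_odd.2 ho h2
    have hone : 1 ≤ Nat.card F ^ l := Nat.one_le_pow _ _ Finite.card_pos
    have ho : Odd (Nat.card F ^ l - 1) :=
      Nat.Even.sub_odd hone (he.pow_of_ne_zero (by omega)) odd_one
    exact Nat.Coprime.pow_left 2 (Nat.prime_two.coprime_iff_not_dvd.2 fun h =>
      Nat.not_even_iff_odd.2 ho (even_iff_two_dvd.2 h))

theorem hasSchurMultiplier_plus_odd_rank [Fintype F] {l : ℕ} (hl : 5 ≤ l) (hodd : Odd l) :
    Cfsg.HasCyclicSchurMultiplier (Cfsg.POmega F (Cfsg.quadFormPlus l F))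
      (Nat.gcd 4 (Fintype.card F ^ l - 1)) := by
  have h4 : l = 4 → Nat.card F ≠ 2 := fun h => absurd h (by omega)
  by_cases h2 : (2 : F) = 0
  · have hg : Nat.gcd 4 (Fintype.card F ^ l - 1) = 1 := by
      have he : Even (Fintype.card F) := Nat.not_odd_iff_even.1 fun ho => two_ne_zero_of_card_odd ho h2
      have ho : Odd (Fintype.card F ^ l - 1) :=
        Nat.Even.sub_odd (Nat.one_le_pow _ _ Fintype.card_pos) (he.pow_of_ne_zero (by omega)) odd_one
      exact Nat.Coprime.pow_left 2 (Nat.prime_two.coprime_iff_not_dvd.2 fun h =>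
        Nat.not_even_iff_odd.2 ho (even_iff_two_dvd.2 h))
    rw [hg]
    exact hasSchurMultiplier_plus_two (by omega) h4 h2
  · obtain ⟨k, rfl⟩ : ∃ k, l = k + 2 := ⟨l - 2, by omega⟩
    obtain ⟨Γ₁, _, _, σ, hσ, hc, hcyc, -⟩ := exists_cover_plus_odd (F := F) k (by omega) h2
    rw [← Nat.card_eq_fintype_card (α := F), ← hc]
    haveI : Finite (Cfsg.POmega F (Cfsg.quadFormPlus (k + 2) F)) := Finite.of_surjective _ hσ.1
    haveI := hcyc hodd
    have hA : Nat.card σ.ker = Nat.card (Multiplicative (ZMod (Nat.card σ.ker))) := by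
      rw [Nat.card_congr Multiplicative.toAdd, Nat.card_zmod]
    refine Cfsg.Agent.Schur.hasSchurMultiplier_of_card_le σ hσ (mulEquivOfCyclicCardEq hA)
      fun Γ _ _ τ hτ => ?_
    exact (card_stem_ker_plus (by omega) h4 Γ τ hτ).trans (le_of_eq (hc.symm.trans hA))

theorem hasSchurMultiplier_plus_even_rank [Fintype F] {l : ℕ} (hl : 4 ≤ l) (heven : Even l)
    (hexc : ¬(l = 4 ∧ Fintype.card F = 2)) :
    Cfsg.HasSchurMultiplier (Cfsg.POmega F (Cfsg.quadFormPlus l F))
      (Multiplicative (ZMod (Nat.gcd 2 (Fintype.card F ^ l - 1)) ×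
        ZMod (Nat.gcd 2 (Fintype.card F ^ l - 1)))) := by
  have h4 : l = 4 → Nat.card F ≠ 2 := fun h hq => hexc ⟨h, by rw [← Nat.card_eq_fintype_card, hq]⟩
  by_cases h2 : (2 : F) = 0
  · have hg : Nat.gcd 2 (Fintype.card F ^ l - 1) = 1 := by
      have he : Even (Fintype.card F) := Nat.not_odd_iff_even.1 fun ho => two_ne_zero_of_card_odd ho h2
      have ho : Odd (Fintype.card F ^ l - 1) :=
        Nat.Even.sub_odd (Nat.one_le_pow _ _ Fintype.card_pos) (he.pow_of_ne_zero (by omega)) odd_one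
      exact Nat.prime_two.coprime_iff_not_dvd.2 fun h =>
        Nat.not_even_iff_odd.2 ho (even_iff_two_dvd.2 h)
    rw [hg]
    exact hasSchurMultiplier_plus_two hl h4 h2
  · have hq := two_ne_zero_iff_odd.1 h2
    obtain ⟨k, rfl⟩ : ∃ k, l = k + 2 := ⟨l - 2, by omega⟩
    rw [gcd_two_pow_sub_one hq (by omega)]
    obtain ⟨Γ₁, _, _, σ, hσ, hc, -, hexp⟩ := exists_cover_plus_odd (F := F) k (by omega) h2
    rw [Nat.card_eq_fintype_card (α := F), gcd_four_pow_sub_one hq heven] at hc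
    haveI : Finite (Cfsg.POmega F (Cfsg.quadFormPlus (k + 2) F)) := Finite.of_surjective _ hσ.1
    have hA : Nat.card (Multiplicative (ZMod 2 × ZMod 2)) = 4 := by
      rw [Nat.card_congr Multiplicative.toAdd, Nat.card_prod, Nat.card_zmod]
    have hne : ∀ {H : Type v} [Group H], Nat.card H = 4 → (∀ x : H, x * x = 1) → IsKleinFour H := by
      intro H _ h4' he
      haveI : Finite H := Nat.finite_of_card_ne_zero (by omega)
      haveI : Nontrivial H := Finite.one_lt_card_iff_nontrivial.1 (by omega)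
      refine ⟨h4', Nat.eq_of_dvd_of_div_eq_one ?_ ?_⟩
      · exact Monoid.exponent_dvd_of_forall_pow_eq_one fun x => by rw [pow_two, he]
      · rcases (Nat.dvd_prime Nat.prime_two).1
          (Monoid.exponent_dvd_of_forall_pow_eq_one fun x : H => by rw [pow_two, he]) with h | h
        · exact absurd (Monoid.exp_eq_one_iff.1 h) (not_subsingleton H)
        · rw [h]
    haveI := hne hc (hexp heven)
    haveI : IsKleinFour (Multiplicative (ZMod 2 × ZMod 2)) := by infer_instance
    obtain ⟨e⟩ := IsKleinFour.nonempty_mulEquiv (G₁ := σ.ker) (G₂ := Multiplicative (ZMod 2 × ZMod 2))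
    refine Cfsg.Agent.Schur.hasSchurMultiplier_of_card_le σ hσ e fun Γ _ _ τ hτ => ?_
    refine (card_stem_ker_plus hl h4 Γ τ hτ).trans (le_of_eq ?_)
    rw [Nat.card_eq_fintype_card (α := F), gcd_four_pow_sub_one hq heven, hA]

end Cfsg.Agent.ClassMult
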