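import Cfsg.Agent.ClassMult.SpinPlus

/-!
The lift of `-1` in the spin cover of `Ω⁻_2l` (helper74).
-/

set_option autoImplicit false

namespace Cfsg.Agent.ClassMult

open Cfsg.Agent.UnitaryOrthogonal QuadraticMap
open CliffordAlgebra (ι involute reverse)

universe v w

variable {F : Type v} [Field F] {V : Type w} [AddCommGroup V] [Module F V] {Q : QuadraticForm F V}

/-- A lift of `-1` squares to `(-1)^(n+1)` with `n` hyperbolic pairs and two more orthogonal vectors. -/
theorem sq_of_negOne_two [Invertible (2 : F)] [FiniteDimensional F V] (hQ : PolarND Q) {n : ℕ}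
    (e f : Fin n → V) (he : ∀ i, Q (e i) = 0) (hf : ∀ i, Q (f i) = 0)
    (hef : ∀ i, polar Q (e i) (f i) = 1)
    (hee : ∀ i j, i ≠ j → polar Q (e i) (e j) = 0) (hff : ∀ i j, i ≠ j → polar Q (f i) (f j) = 0)
    (hef' : ∀ i j, i ≠ j → polar Q (e i) (f j) = 0) (r s : V) (hr : Q r ≠ 0) (hs : Q s ≠ 0)
    (hrs : polar Q r s = 0) (hre : ∀ i, polar Q (e i) r = 0 ∧ polar Q (f i) r = 0)
    (hse : ∀ i, polar Q (e i) s = 0 ∧ polar Q (f i) s = 0)
    (hspan : Submodule.span F ((Set.range e ∪ Set.range f) ∪ {r, s}) = ⊤)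
    {p : (CliffordAlgebra Q)ˣ × orth Q} (hp : p ∈ spin Q) (hneg : p.2 = negOne Q) :
    (p.1 : CliffordAlgebra Q) * p.1 = (-1) ^ (n + 1) := by
  obtain ⟨ω, w1, w2, w3, w4, w5⟩ := exists_pairs_sign e f he hf hef hee hff hef'
  have hsr : ι Q s * ι Q r = -(ι Q r * ι Q s) := by
    rw [ι_mul_ι, polar_comm, hrs, map_zero, zero_sub]
  set ρ := ι Q r * ι Q s with hρ
  have cω : Commute ω ρ := (w5 r hre).mul_right (w5 s hse)
  have hρ2 : ρ * ρ = algebraMap F _ (-(Q r * Q s)) := by
    rw [hρ, mul_assoc, ← mul_assoc (ι Q s), hsr, neg_mul, mul_neg, mul_assoc (ι Q r),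
      CliffordAlgebra.ι_sq_scalar, ← mul_assoc, CliffordAlgebra.ι_sq_scalar, ← map_mul, map_neg]
  have hρrev : reverse (Q := Q) ρ = -ρ := by
    rw [hρ, CliffordAlgebra.reverse.map_mul, CliffordAlgebra.reverse_ι, CliffordAlgebra.reverse_ι,
      hsr]
  refine sq_of_anticommute hQ (ω := ω * ρ) (r := -(Q r * Q s)) (neg_ne_zero.2 (mul_ne_zero hr hs))
    (mul_mem w1 (CliffordAlgebra.ι_mul_ι_mem_evenOdd_zero Q r s)) ?_ ?_ ?_ hp hneg
  · rw [cω.symm.mul_mul_mul_comm, w2, one_mul, hρ2]
  · rw [CliffordAlgebra.reverse.map_mul, w3, hρrev, pow_succ]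
    rcases neg_one_pow_eq_or (CliffordAlgebra Q) n with e' | e' <;> rw [e'] <;>
      simp [cω.eq]
  · intro x
    have hx : x ∈ Submodule.span F ((Set.range e ∪ Set.range f) ∪ {r, s}) :=
      hspan ▸ Submodule.mem_top
    induction hx using Submodule.span_induction with
    | mem y hy =>
      rcases hy with hy | hy
      · have hyρ : Commute ρ (ι Q y) := by
          have key : ∀ t : V, (∀ i, polar Q (e i) t = 0 ∧ polar Q (f i) t = 0) →
              ι Q t * ι Q y = -(ι Q y * ι Q t) := fun t ht => by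
            rw [ι_mul_ι, show polar Q t y = 0 by
              rcases hy with ⟨j, rfl⟩ | ⟨j, rfl⟩
              · rw [polar_comm]; exact (ht j).1
              · rw [polar_comm]; exact (ht j).2, map_zero, zero_sub]
          show ι Q r * ι Q s * ι Q y = ι Q y * (ι Q r * ι Q s)
          rw [mul_assoc, key s hse, mul_neg, ← mul_assoc, key r hre, neg_mul, neg_neg, mul_assoc]
        rw [mul_assoc, hyρ.eq, ← mul_assoc, w4 y (Submodule.subset_span hy), neg_mul, mul_assoc]
      · have hy' : ρ * ι Q y = -(ι Q y * ρ) ∧ Commute ω (ι Q y) := by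
          rcases hy with rfl | rfl
          · refine ⟨?_, w5 _ hre⟩
            rw [hρ, mul_assoc, hsr, mul_neg]
          · refine ⟨?_, w5 _ hse⟩
            rw [hρ, ← mul_assoc (ι Q _) (ι Q r), hsr, neg_mul, neg_neg]
        rw [mul_assoc, hy'.1, mul_neg, ← mul_assoc, hy'.2.eq, mul_assoc]
    | zero => simp
    | add a b _ _ ha hb => rw [map_add, mul_add, add_mul, ha, hb]; abel
    | smul c a _ ha => rw [map_smul, mul_smul_comm, smul_mul_assoc, ha, smul_neg]

/-- The lift of `-1` in the cover of `PΩ⁻`. -/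
theorem sq_of_negOne_minus [Finite F] [Invertible (2 : F)] {a b : F} (hab : BinAniso a b) (k : ℕ)
    {p : (CliffordAlgebra (hyp (hyp (hypSum k (binForm a b)))))ˣ ×
      orth (hyp (hyp (hypSum k (binForm a b))))}
    (hp : p ∈ spin _) (hneg : p.2 = negOne _) :
    (p.1 : CliffordAlgebra (hyp (hyp (hypSum k (binForm a b))))) * p.1 = (-1) ^ (k + 3) := by
  classical
  have h2 : (2 : F) ≠ 0 := Invertible.ne_zero 2
  let ψ := hypSumTwo (binForm a b) k
  let E : Fin (k + 2) → ((Fin (k + 2) → F) × (Fin (k + 2) → F)) × (F × F) :=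
    fun i => ((Pi.single i 1, 0), 0)
  let G : Fin (k + 2) → ((Fin (k + 2) → F) × (Fin (k + 2) → F)) × (F × F) :=
    fun i => ((0, Pi.single i 1), 0)
  let R : ((Fin (k + 2) → F) × (Fin (k + 2) → F)) × (F × F) := (0, (1, 0))
  let S : ((Fin (k + 2) → F) × (Fin (k + 2) → F)) × (F × F) := (0, (a, -2))
  have hpol : ∀ u v, polar (hyp (hyp (hypSum k (binForm a b)))) (ψ u) (ψ v) =
      polar (hypSum (k + 2) (binForm a b)) u v := fun u v => by
    simp only [polar]
    rw [← map_add, ψ.map_app, ψ.map_app, ψ.map_app]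
  have hQS : binForm a b (a, -2) ≠ 0 := hab.form_ne_zero fun h => by
    simp [Prod.ext_iff, h2] at h
  refine sq_of_negOne_two (hab.polarND.hypSum k).hyp.hyp (fun i => ψ (E i))
    (fun i => ψ (G i)) ?_ ?_ ?_ ?_ ?_ ?_ (ψ R) (ψ S) ?_ ?_ ?_ ?_ ?_ ?_ hp hneg
  · intro i; rw [ψ.map_app]; simp [E]
  · intro i; rw [ψ.map_app]; simp [G]
  · intro i; rw [hpol]; simp [polar, E, G, Pi.single_apply]
  · intro i j hij; rw [hpol]; simp [polar, E]
  · intro i j hij; rw [hpol]; simp [polar, G]
  · intro i j hij; rw [hpol]; simp [polar, E, G, Pi.single_apply, hij.symm]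
  · rw [ψ.map_app]; simp [R, binForm_apply]
  · rw [ψ.map_app]; simpa [S] using hQS
  · rw [hpol]
    show polar (hypSum (k + 2) (binForm a b)) R S = 0
    simp [polar, R, S, binForm_apply]
    ring
  · intro i; constructor <;> rw [hpol] <;> simp [polar, E, G, R]
  · intro i; constructor <;> rw [hpol] <;> simp [polar, E, G, S]
  · rw [eq_top_iff]
    intro x _
    obtain ⟨v, rfl⟩ := ψ.toLinearEquiv.surjective x
    have hv : v = ∑ i, v.1.1 i • E i + ∑ i, v.1.2 i • G i +
        ((v.2.1 + a / 2 * v.2.2) • R + (-(v.2.2 / 2)) • S) := by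
      refine Prod.ext (Prod.ext ?_ ?_) ?_
      · funext j; simp [E, G, R, S, Prod.fst_sum, Finset.sum_apply, Pi.single_apply]
      · funext j; simp [E, G, R, S, Prod.fst_sum, Prod.snd_sum, Finset.sum_apply, Pi.single_apply]
      · simp [E, G, R, S, Prod.snd_sum, Prod.ext_iff]
        field_simp
        ring
    rw [hv, map_add, map_add, map_add, map_sum, map_sum, map_smul, map_smul]
    refine add_mem (add_mem (sum_mem fun i _ => ?_) (sum_mem fun i _ => ?_)) (add_mem ?_ ?_)
    · rw [map_smul]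
      exact Submodule.smul_mem _ _ (Submodule.subset_span (Or.inl (Or.inl ⟨i, rfl⟩)))
    · rw [map_smul]
      exact Submodule.smul_mem _ _ (Submodule.subset_span (Or.inl (Or.inr ⟨i, rfl⟩)))
    · exact Submodule.smul_mem _ _ (Submodule.subset_span (Or.inr (Or.inl rfl)))
    · exact Submodule.smul_mem _ _ (Submodule.subset_span (Or.inr (Or.inr rfl)))

end Cfsg.Agent.ClassMult
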