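import Cfsg.Agent.ClassMult.MinusBound
import Cfsg.Agent.ClassMult.MinusPFree
import Cfsg.Agent.ClassMult.SpinMinus
import Cfsg.Agent.ClassMult.PlusMult

/-!
The Schur multiplier of `PΩ⁻_2l(q)`, `l ≥ 4`, from the part prime to `p` of the one of `SU_4(q)`
(helper74).
-/

set_option autoImplicit false

namespace Cfsg.Agent.ClassMult

open Cfsg.Agent.UnitaryOrthogonal QuadraticMap
open Cfsg.Agent.CharB.PSLMult hiding emb

universe v

variable {F : Type v} [Field F] [Finite F] {a b : F}

theorem index_mul_card_center_minus (hab : BinAniso a b) (k : ℕ) :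
    (eichGroup (hyp (hyp (hypSum k (binForm a b))))).index *
      Nat.card (Subgroup.center (eichGroup (hyp (hyp (hypSum k (binForm a b)))))) =
      2 * Nat.gcd 4 (Nat.card F ^ (k + 3) + 1) := by
  have hB := base_binForm hab
  have hex : 1 ≤ k ∨ ∃ c, binForm a b c ≠ 0 := Or.inr (exists_binForm_ne_zero a b)
  let ψ := (minusEquiv (k + 2) F a b).trans (orthCongr (hypSumTwo (binForm a b) k))
  obtain ⟨e⟩ := nonempty_commutator_quotient_congr ψ (commutator_orth_eq hB hex)
  have hP := (pomega_minus hab k).2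
  rw [Nat.card_congr e.toEquiv] at hP
  have h1 := Subgroup.card_eq_card_quotient_mul_card_subgroup
    (Subgroup.center (eichGroup (hyp (hyp (hypSum k (binForm a b))))))
  have h2 := (eichGroup (hyp (hyp (hypSum k (binForm a b))))).card_mul_index
  rw [h1, ← card_orth_congr (hypSumTwo (binForm a b) k), ← hP] at h2
  refine Nat.eq_of_mul_eq_mul_left (Nat.card_pos (α :=
    eichGroup (hyp (hyp (hypSum k (binForm a b)))) ⧸
      Subgroup.center (eichGroup (hyp (hyp (hypSum k (binForm a b))))))) ?_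
  linarith [h2]

theorem gcd_four_pow_succ_of_two (h2 : (2 : F) = 0) (m : ℕ) :
    Nat.gcd 4 (Nat.card F ^ (m + 1) + 1) = 1 := by
  haveI := Fintype.ofFinite F
  have he : Even (Nat.card F) := by
    rw [Nat.card_eq_fintype_card, ← Nat.not_odd_iff_even]
    exact fun ho => two_ne_zero_iff_odd.2 ho h2
  have ho : Odd (Nat.card F ^ (m + 1) + 1) := (he.pow_of_ne_zero (by omega)).add_one
  exact Nat.Coprime.pow_left 2 (Nat.prime_two.coprime_iff_not_dvd.2 fun h =>
    Nat.not_even_iff_odd.2 ho (even_iff_two_dvd.2 h))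

/-- In odd characteristic the spin group gives a stem extension of the full size. -/
theorem exists_cover_minus_odd (hab : BinAniso a b) (k : ℕ) (h2 : (2 : F) ≠ 0) :
    ∃ (Γ : Type v) (_ : Group Γ) (_ : Finite Γ)
      (σ : Γ →* Cfsg.POmega F (Cfsg.quadFormMinus (k + 2) F a b)),
      Cfsg.IsStemExtension σ ∧ Nat.card σ.ker = Nat.gcd 4 (Nat.card F ^ (k + 3) + 1) ∧
      IsCyclic σ.ker := by
  classical
  haveI : Invertible (2 : F) := invertibleOfNonzero h2
  have hB := base_binForm hab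
  have hk : 1 ≤ k ∨ ∃ c, binForm a b c ≠ 0 := Or.inr (exists_binForm_ne_zero a b)
  have hex := exists_hypSum_ne_zero (Q := binForm a b) k hk
  set Q := hyp (hyp (hypSum k (binForm a b))) with hQdef
  have hnd : PolarND Q := (hB.nd.hypSum k).hyp.hyp
  let ψ := (minusEquiv (k + 2) F a b).trans (orthCongr (hypSumTwo (binForm a b) k))
  obtain ⟨e⟩ := nonempty_commutator_quotient_congr ψ (commutator_orth_eq hB hk)
  have hperf : Group.IsPerfect (eichGroup Q) := by
    have := isPerfect_commutator_orth hB (k := k) hk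
    rwa [commutator_orth_eq hB hk] at this
  have hsq : ∃ g ∈ spin Q, g * g = ((-1, 1) : (CliffordAlgebra Q)ˣ × orth Q) := by
    refine exists_sq_eq_neg_one (a := eVec F _) (b := fVec F _) (c := inW (eVec F _))
      (d := inW (fVec F _)) ?_ ?_ ?_ ?_ ?_ ?_ ?_ ?_ ?_ ?_ <;>
        simp [hQdef, eVec, fVec, inW_apply, polar]
  let τ : eichGroup Q →* Cfsg.POmega F (Cfsg.quadFormMinus (k + 2) F a b) :=
    e.symm.toMonoidHom.comp (QuotientGroup.mk' (Subgroup.center (eichGroup Q)))
  have hτ : τ.ker = Subgroup.center (eichGroup Q) := by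
    ext x
    rw [MonoidHom.mem_ker, ← QuotientGroup.eq_one_iff]
    exact e.symm.map_eq_one_iff
  obtain ⟨hst, hcard⟩ := exists_stem_cover hnd hperf hsq τ
    (e.symm.surjective.comp (QuotientGroup.mk'_surjective _)) hτ.le
  haveI : Finite (spin Q) := finite_spin hnd
  refine ⟨spin Q, inferInstance, inferInstance, τ.comp (spinProj Q), hst, ?_⟩
  have hidx : (eichGroup Q).index = 4 :=
    (eichGroup_eq_ker_of_odd (hB.nd.hypSum k) hex (elemGroup_hypHyp hB.nd hB.refl k) h2
      (hsep_of_base h2 (hB.sep h2) k)).2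
  have hc : Nat.card (τ.comp (spinProj Q)).ker = Nat.gcd 4 (Nat.card F ^ (k + 3) + 1) := by
    have := index_mul_card_center_minus hab k
    rw [hcard, hτ]
    rw [← hQdef, hidx] at this
    omega
  refine ⟨hc, ?_⟩
  haveI : Fact (Nat.Prime 2) := ⟨Nat.prime_two⟩
  by_cases h4 : ∃ x : (τ.comp (spinProj Q)).ker, x.1.1.2 = negOne Q
  · obtain ⟨x, hx⟩ := h4
    have hpos := Nat.card_pos (α := (τ.comp (spinProj Q)).ker)
    by_cases hsmall : Nat.card (τ.comp (spinProj Q)).ker = 2
    · exact isCyclic_of_prime_card hsmall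
    have h4' : Nat.gcd 4 (Nat.card F ^ (k + 3) + 1) = 4 := by
      have hd : Nat.gcd 4 (Nat.card F ^ (k + 3) + 1) ∣ 4 := Nat.gcd_dvd_left _ _
      have hev : 2 ∣ Nat.gcd 4 (Nat.card F ^ (k + 3) + 1) := by
        refine Nat.dvd_gcd (by norm_num) (even_iff_two_dvd.1 ?_)
        have hodd' : Odd (Nat.card F) := by
          have := odd_natCard (F := F) h2
          rw [Nat.odd_iff]; omega
        exact hodd'.pow.add_one
      have hle := Nat.le_of_dvd (by norm_num) hd
      obtain ⟨c, hc'⟩ := hev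
      rw [hc] at hsmall hpos
      interval_cases h : Nat.gcd 4 (Nat.card F ^ (k + 3) + 1) <;> omega
    have hodd : Odd (k + 3) := by
      rw [← Nat.not_even_iff_odd]
      rintro ⟨m, hm⟩
      have h4d : 4 ∣ Nat.card F ^ (k + 3) + 1 :=
        (dvd_of_eq h4'.symm).trans (Nat.gcd_dvd_right _ _)
      obtain ⟨t, ht⟩ : Odd (Nat.card F ^ m) := by
        have := odd_natCard (F := F) h2
        exact (show Odd (Nat.card F) by rw [Nat.odd_iff]; omega).pow
      rw [hm, pow_add, ht, show (2 * t + 1) * (2 * t + 1) + 1 = 4 * (t * t + t) + 2 by ring] at h4d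
      exact absurd ((Nat.dvd_add_right (dvd_mul_right 4 _)).1 h4d) (by norm_num)
    have h1 := sq_of_negOne_minus hab k x.1.2 hx
    rw [hodd.neg_one_pow] at h1
    refine isCyclic_of_orderOf_eq_card x (Nat.dvd_antisymm (orderOf_dvd_natCard x) ?_)
    have hne : x ^ 2 ≠ 1 := fun h => by
      have h' : (x.1.1.1 : CliffordAlgebra Q) * x.1.1.1 = 1 := by
        rw [pow_two] at h
        exact congrArg (fun y : (τ.comp (spinProj Q)).ker => (y.1.1.1 : CliffordAlgebra Q)) h
      rw [h1, ← map_one (algebraMap F (CliffordAlgebra Q)), ← map_neg] at h'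
      exact h2 (by linear_combination -((algebraMap F (CliffordAlgebra Q)).injective h'))
    have h4 : x ^ (2 ^ 2) = 1 := by
      have hsq1 : x.1.1.2 * x.1.1.2 = 1 := by
        rw [hx]; exact orth_ext fun v => by simp
      have hu : x.1.1.1 * x.1.1.1 = -1 := Units.ext (by simpa using h1)
      show x ^ (2 * 2) = 1
      rw [pow_mul, pow_two, pow_two]
      refine Subtype.ext (Subtype.ext (Prod.ext ?_ ?_))
      · show x.1.1.1 * x.1.1.1 * (x.1.1.1 * x.1.1.1) = 1
        rw [hu]; simp
      · show x.1.1.2 * x.1.1.2 * (x.1.1.2 * x.1.1.2) = 1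
        rw [hsq1, one_mul]
    rw [orderOf_eq_prime_pow (n := 1) (p := 2) (by simpa using hne) h4, hc, h4']
    norm_num
  · have hall : ∀ x : (τ.comp (spinProj Q)).ker, x.1.1.2 = 1 := fun x => by
      have hz : spinProj Q x.1 ∈ Subgroup.center (eichGroup Q) := hτ ▸ x.2
      obtain ⟨c, hc2, hc⟩ := eq_smul_of_fixesPoints ((mem_center_eichGroup (hB.nd.hypSum k) hex).1 hz)
      rcases mul_self_eq_one_iff.1 hc2 with rfl | rfl
      · exact orth_ext fun v => (hc v).trans (by simp)
      · exact absurd ⟨x, orth_ext fun v => (hc v).trans (by simp)⟩ h4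
    have hle : Nat.card (τ.comp (spinProj Q)).ker ≤ 2 := by
      obtain ⟨g, hg, hg2⟩ := hsq
      refine le_of_le_of_eq ?_ (card_ker_spinProj hnd (hg2 ▸ mul_mem hg hg))
      refine Nat.card_le_card_of_injective
        (fun x : (τ.comp (spinProj Q)).ker =>
          (⟨x.1, MonoidHom.mem_ker.2 (Subtype.ext (hall x))⟩ : (spinProj Q).ker)) ?_
      intro a b h; exact Subtype.ext (congrArg (fun y : (spinProj Q).ker => y.1) h)
    have h2' : Nat.card (τ.comp (spinProj Q)).ker = 2 := by
      rw [hcard] at hle ⊢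
      have := Nat.card_pos (α := τ.ker)
      omega
    exact isCyclic_of_prime_card h2'

/-- **The upper bound for `PΩ⁻_2l`.** -/
theorem card_stem_ker_minus [Fintype F] (hab : BinAniso a b) {k : ℕ} (hk : 1 ≤ k) {p : ℕ}
    (hp : p.Prime) [CharP F p] [Fact (∀ r : F, r ^ 2 ≠ -b + a * r)]
    (hSU : PTriv.{v} p (Cfsg.SU 4 (QuadraticAlgebra F (-b) a) (Fintype.card F)))
    (Γ : Type v) [Group Γ] [Finite Γ]
    (σ : Γ →* Cfsg.POmega F (Cfsg.quadFormMinus (k + 2) F a b)) (hσ : Cfsg.IsStemExtension σ) :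
    Nat.card σ.ker ≤ Nat.gcd 4 (Nat.card F ^ (k + 3) + 1) := by
  have hB := base_binForm hab
  have hex' : 1 ≤ k ∨ ∃ c, binForm a b c ≠ 0 := Or.inl hk
  have hex := exists_hypSum_ne_zero (Q := binForm a b) k hex'
  let ψ := (minusEquiv (k + 2) F a b).trans (orthCongr (hypSumTwo (binForm a b) k))
  obtain ⟨e⟩ := nonempty_commutator_quotient_congr ψ (commutator_orth_eq hB hex')
  have hperf : Group.IsPerfect (eichGroup (hyp (hyp (hypSum k (binForm a b))))) := by
    have := isPerfect_commutator_orth hB (k := k) hex'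
    rwa [commutator_orth_eq hB hex'] at this
  obtain ⟨hσ', hkσ⟩ := Cfsg.Agent.Schur.isStemExtension_comp_mulEquiv hσ e
  have hbound := card_stem_ker_le hperf
    (QuotientGroup.mk' (Subgroup.center (eichGroup (hyp (hyp (hypSum k (binForm a b)))))))
    (QuotientGroup.mk'_surjective _) hp (pFree_minus hab hp hk) (pBound_minus hab hp hSU k)
    (closure_pel_eichGroup _ p) (e.toMonoidHom.comp σ) hσ'
  rw [hkσ, QuotientGroup.ker_mk'] at hbound
  refine hbound.trans (le_of_eq ?_)
  have h3 := index_mul_card_center_minus hab k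
  by_cases h20 : (2 : F) = 0
  · rw [(eichGroup_eq_ker_of_two (hB.nd.hypSum k) hex (elemGroup_hypHyp hB.nd hB.refl k) h20).2] at h3
    simp only [dOrth, h20, if_true]
    omega
  · rw [(eichGroup_eq_ker_of_odd (hB.nd.hypSum k) hex (elemGroup_hypHyp hB.nd hB.refl k) h20
      (hsep_of_base h20 (hB.sep h20) k)).2] at h3
    simp only [dOrth, h20, if_false]
    omega

/-- **The multiplier.** -/
theorem hasSchurMultiplier_minus [Fintype F] (hab : BinAniso a b) {k : ℕ} (hk : 1 ≤ k) {p : ℕ}
    (hp : p.Prime) [CharP F p] [Fact (∀ r : F, r ^ 2 ≠ -b + a * r)]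
    (hSU : PTriv.{v} p (Cfsg.SU 4 (QuadraticAlgebra F (-b) a) (Fintype.card F))) :
    Cfsg.HasCyclicSchurMultiplier (Cfsg.POmega F (Cfsg.quadFormMinus (k + 2) F a b))
      (Nat.gcd 4 (Fintype.card F ^ (k + 3) + 1)) := by
  have hbound := card_stem_ker_minus hab hk hp hSU
  haveI : Finite (Cfsg.POmega F (Cfsg.quadFormMinus (k + 2) F a b)) := by
    obtain ⟨e⟩ := nonempty_commutator_quotient_congr
      ((minusEquiv (k + 2) F a b).trans (orthCongr (hypSumTwo (binForm a b) k)))
      (commutator_orth_eq (base_binForm hab) (Or.inl hk))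
    exact Finite.of_equiv _ e.symm.toEquiv
  rw [← Nat.card_eq_fintype_card (α := F)]
  by_cases h2 : (2 : F) = 0
  · rw [gcd_four_pow_succ_of_two h2 (k + 2)] at hbound ⊢
    exact Cfsg.Agent.Schur.hasCyclicSchurMultiplier_one_of_forall fun Γ _ _ σ hσ =>
      Subgroup.card_eq_one.1 (le_antisymm (hbound Γ σ hσ) Nat.card_pos)
  · obtain ⟨Γ₁, _, _, σ, hσ, hc, hcyc⟩ := exists_cover_minus_odd hab k h2
    rw [← hc]
    haveI := hcyc
    have hA : Nat.card σ.ker = Nat.card (Multiplicative (ZMod (Nat.card σ.ker))) := by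
      rw [Nat.card_congr Multiplicative.toAdd, Nat.card_zmod]
    refine Cfsg.Agent.Schur.hasSchurMultiplier_of_card_le σ hσ (mulEquivOfCyclicCardEq hA)
      fun Γ _ _ τ hτ => ?_
    exact (hbound Γ τ hτ).trans (le_of_eq (hc.symm.trans hA))

end Cfsg.Agent.ClassMult
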