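import Cfsg.Agent.ClassMult.RootSplit
import Cfsg.Agent.ClassMult.OmegaFacts

/-!
Every pair of singular vectors of `H^3 ⊥ H^j ⊥ binForm` lies in a frame (helper74).
-/

set_option autoImplicit false

namespace Cfsg.Agent.ClassMult

open Cfsg.Agent.UnitaryOrthogonal QuadraticMap
open scoped commutatorElement

universe v w w' x

variable {F : Type v} [Field F]

section Transport

variable {V : Type w} [AddCommGroup V] [Module F V] {V' : Type w'} [AddCommGroup V'] [Module F V']
  {Q : QuadraticForm F V} {Q' : QuadraticForm F V'} {U : Type x} [AddCommGroup U] [Module F U]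
  {M : QuadraticForm F U} {u a : V}

/-- The image of a frame under an isometry of spaces. -/
def Frame.congr (f : Frame Q M u a) (e : Q.IsometryEquiv Q') : Frame Q' M (e u) (e a) where
  u' := e f.u'
  a' := e f.a'
  j := e.toLinearEquiv.toLinearMap.comp f.j
  hu := by rw [e.map_app, f.hu]
  hu' := by rw [e.map_app, f.hu']
  ha := by rw [e.map_app, f.ha]
  ha' := by rw [e.map_app, f.ha']
  huu := by rw [polar_isometryEquiv, f.huu]
  haa := by rw [polar_isometryEquiv, f.haa]
  hua := by rw [polar_isometryEquiv, f.hua]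
  hua' := by rw [polar_isometryEquiv, f.hua']
  hu'a := by rw [polar_isometryEquiv, f.hu'a]
  hu'a' := by rw [polar_isometryEquiv, f.hu'a']
  hj p := (e.map_app _).trans (f.hj p)
  hju p := (polar_isometryEquiv e _ _).trans (f.hju p)
  hju' p := (polar_isometryEquiv e _ _).trans (f.hju' p)
  hja p := (polar_isometryEquiv e _ _).trans (f.hja p)
  hja' p := (polar_isometryEquiv e _ _).trans (f.hja' p)
  span z := by
    obtain ⟨y, rfl⟩ := e.toLinearEquiv.surjective z
    obtain ⟨p, hp⟩ := f.span y
    refine ⟨p, ?_⟩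
    show e y = _
    conv_lhs => rw [hp]
    simp only [map_add, map_smul]
    show _ = polar Q' (e f.u') (e y) • e u + polar Q' (e u) (e y) • e f.u' +
      polar Q' (e f.a') (e y) • e a + polar Q' (e a) (e y) • e f.a' + e (f.j p)
    simp only [polar_isometryEquiv]
  gen := by
    rw [eq_top_iff, ← f.gen]
    refine AddSubgroup.closure_mono fun v hv => ?_
    rcases hv with ⟨k, v', h1, h2, h3, h4, h5, h6, h7⟩ | h
    · have key : ∀ t s : V, k.1.1 t = s → (orthCongr e k.1).1 (e t) = e s := fun t s h => by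
        rw [orthCongr_apply, h]
      refine Or.inl ⟨⟨orthCongr e k.1, (eichEquiv' e k.1 k.2)⟩, v', key _ _ h1, key _ _ h2,
        key _ _ h3, key _ _ h4, key _ _ h5, key _ _ h6, ?_⟩
      exact (key _ _ h7).trans (map_add e.toLinearEquiv _ _)
    · exact Or.inr h
where
  eichEquiv' (e : Q.IsometryEquiv Q') (k : orth Q) (hk : k ∈ eichGroup Q) :
      orthCongr e k ∈ eichGroup Q' := by
    unfold eichGroup at hk
    induction hk using Subgroup.closure_induction with
    | mem x hx =>
        obtain ⟨p, q, -, -, rfl⟩ := hx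
        rw [orthCongr_eich]; exact eich_mem_eichGroup _ _
    | one => rw [map_one]; exact one_mem _
    | mul x y _ _ hx hy => rw [map_mul]; exact mul_mem hx hy
    | inv x _ hx => rw [map_inv]; exact inv_mem hx

theorem Sys.congr (S : Sys Q M) (e : Q.IsometryEquiv Q') : Sys Q' M where
  nd := S.nd
  hB := S.hB
  frames u w hp := by
    obtain ⟨u, rfl⟩ := e.toLinearEquiv.surjective u
    obtain ⟨w, rfl⟩ := e.toLinearEquiv.surjective w
    have hp' : Pair Q u w :=
      { hu := (e.map_app u).symm.trans hp.hu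
        hw := (e.map_app w).symm.trans hp.hw
        huw := (polar_isometryEquiv e u w).symm.trans hp.huw
        hu0 := fun h => hp.hu0 (by rw [h]; exact map_zero _)
        ind := fun c h => hp.ind c (by rw [h]; exact map_smul _ _ _) }
    obtain ⟨c, ⟨f⟩⟩ := S.frames u w hp'
    refine ⟨c, ⟨?_⟩⟩
    have h := f.congr e
    have e1 : e (w + c • u) = e.toLinearEquiv w + c • e.toLinearEquiv u :=
      (map_add e.toLinearEquiv _ _).trans (congrArg _ (map_smul e.toLinearEquiv c u))
    exact e1 ▸ h

end Transport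

section Rotation

variable [Finite F] {a b : F}

theorem exists_rotation (hab : BinAniso a b) :
    ∃ k ∈ commutator (orth (binForm a b)), ∀ v, ∃ v', k.1 v' = v' + v := by
  classical
  haveI := Fintype.ofFinite F
  obtain ⟨z, hz, hz2⟩ : ∃ z : F × F, binForm a b z = 1 ∧ z.2 ≠ 0 := by
    by_contra hc
    push Not at hc
    have h3 : level (binForm a b) 1 ≤ 2 := by
      let f : {v : F × F // binForm a b v = 1} → Bool := fun v => decide (v.1.1 = 1)
      refine (Nat.card_le_card_of_injective f fun v v' e => ?_).trans (by simp)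
      have e1 := v.2
      have e2 := v'.2
      rw [binForm_apply, hc _ v.2] at e1
      rw [binForm_apply, hc _ v'.2] at e2
      simp at e1 e2
      refine Subtype.ext (Prod.ext ?_ ((hc _ v.2).trans (hc _ v'.2).symm))
      simp only [f, decide_eq_decide] at e
      rcases e1 with h | h <;> rcases e2 with h' | h'
      · exact h.trans h'.symm
      · exact (e.1 h).symm ▸ h
      · exact (e.2 h').symm ▸ h'.symm
      · exact h.trans h'.symm
    rw [hab.level_eq one_ne_zero] at h3
    have := Finite.one_lt_card (α := F)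
    omega
  have hn : z.1 * z.1 + a * z.1 * z.2 + b * z.2 * z.2 = 1 := by
    rw [binForm_apply] at hz; linear_combination hz
  let zb : F × F := (z.1 + a * z.2, -z.2)
  have hzb : binForm a b zb = 1 := by rw [binForm_apply]; simp only [zb]; linear_combination hn
  let R : orth (binForm a b) := ⟨
    { binMul a b z with
      invFun := binMul a b zb
      left_inv := fun v => by
        simp only [binMul, LinearMap.coe_mk, AddHom.coe_mk, zb]
        refine Prod.ext ?_ ?_
        · linear_combination v.1 * hn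
        · linear_combination v.2 * hn
      right_inv := fun v => by
        simp only [binMul, LinearMap.coe_mk, AddHom.coe_mk, zb]
        refine Prod.ext ?_ ?_
        · linear_combination v.1 * hn
        · linear_combination v.2 * hn }, fun v => by
    show binForm a b (binMul a b z v) = _
    rw [binForm_binMul, hz, one_mul]⟩
  have hR : ∀ v, R.1 v = binMul a b z v := fun v => rfl
  have hRi : ∀ v, R⁻¹.1 v = binMul a b zb v := fun v => rfl
  let s := rf (binForm a b) ((1, 0) : F × F)
  have hs : ∀ v, s.1 v = (-v.1 - a * v.2, v.2) := fun v => by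
    simp [s, rf_apply, binForm_apply, polar_binForm, Prod.ext_iff]
    ring
  refine ⟨⁅R, s⁆, Subgroup.commutator_mem_commutator (Subgroup.mem_top _) (Subgroup.mem_top _), ?_⟩
  have hk : ∀ v, (⁅R, s⁆ : orth (binForm a b)).1 v = binMul a b z (binMul a b z v) := fun v => by
    rw [commutatorElement_def, show s⁻¹ = s from rf_inv _, coe_mul_apply, coe_mul_apply,
      coe_mul_apply, hR, hs, hs, hRi]
    congr 1
    simp only [binMul, LinearMap.coe_mk, AddHom.coe_mk, zb]
    refine Prod.ext ?_ ?_ <;> ring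
  let d : (F × F) →ₗ[F] F × F := (binMul a b z).comp (binMul a b z) - LinearMap.id
  have hd : Function.Injective d := by
    rw [← LinearMap.ker_eq_bot, LinearMap.ker_eq_bot']
    intro v hv
    by_contra hv0
    set w : F × F := (z.1 * z.1 - b * z.2 * z.2 - 1, 2 * z.1 * z.2 + a * z.2 * z.2) with hw
    have e : binMul a b w v = d v := by
      simp only [d, binMul, LinearMap.coe_mk, AddHom.coe_mk, LinearMap.sub_apply,
        LinearMap.comp_apply, LinearMap.id_apply, hw, Prod.mk_sub_mk, Prod.ext_iff, Prod.fst_sub,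
        Prod.snd_sub]
      constructor <;> ring
    have h0 : binForm a b w * binForm a b v = 0 := by
      rw [← binForm_binMul, e, hv, QuadraticMap.map_zero]
    rcases mul_eq_zero.1 h0 with h | h
    · have hw0 := hab.eq_zero h
      simp only [hw, Prod.ext_iff, Prod.fst_zero, Prod.snd_zero] at hw0
      obtain ⟨h1, h2⟩ := hw0
      have h2' : 2 * z.1 + a * z.2 = 0 := (mul_eq_zero.1 (show z.2 * (2 * z.1 + a * z.2) = 0 by
        linear_combination h2)).resolve_left hz2
      have h3 : z.2 * (a * z.1 + 2 * b * z.2) = 0 := by linear_combination hn - h1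
      have h3' := (mul_eq_zero.1 h3).resolve_left hz2
      exact hz2 ((mul_eq_zero.1 (show (4 * b - a ^ 2) * z.2 = 0 by
        linear_combination 2 * h3' - a * h2')).resolve_left hab.disc_ne_zero)
    · exact hv0 (hab.eq_zero h)
  intro v
  obtain ⟨v', hv'⟩ := Finite.injective_iff_surjective.1 hd v
  refine ⟨v', ?_⟩
  rw [hk, ← hv']
  simp [d]

end Rotation

/-- `O(binForm)` inside `O(H^j ⊥ binForm)`. -/
def embBin {a b : F} (j : ℕ) : orth (binForm a b) →* orth (hypSum j (binForm a b)) where
  toFun g := ⟨(LinearEquiv.refl F _).prodCongr g.1, fun x => by simp⟩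
  map_one' := orth_ext fun _ => rfl
  map_mul' _ _ := orth_ext fun _ => rfl

theorem exists_polar_bin [Finite F] {a b : F} (hab : BinAniso a b) (j : ℕ) (c : F) :
    ∃ v v', polar (hypSum j (binForm a b)) v v' = c := by
  have hne : ((1, 0) : F × F) ≠ 0 := by simp
  obtain ⟨y, hy⟩ : ∃ y, polar (binForm a b) ((1, 0) : F × F) y ≠ 0 := by
    by_contra hc
    push Not at hc
    exact hne (hab.polarND _ hc)
  refine ⟨(0, (1, 0)), (0, (c * (polar (binForm a b) ((1, 0) : F × F) y)⁻¹) • y), ?_⟩
  rw [polar, hypSum_apply, hypSum_apply, hypSum_apply]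
  simp only [Prod.mk_add_mk, add_zero, Prod.fst_zero, Prod.snd_zero, Pi.zero_apply, mul_zero,
    Finset.sum_const_zero, zero_add]
  show polar (binForm a b) ((1, 0) : F × F) ((c * (polar (binForm a b) ((1, 0) : F × F) y)⁻¹) • y) = c
  rw [polar_smul_right, smul_eq_mul, inv_mul_cancel_right₀ hy]

/-- The standard frame of `H ⊥ H ⊥ H ⊥ M`. -/
def stdFrame {U : Type w} [AddCommGroup U] [Module F U] (M : QuadraticForm F U)
    (hgen : AddSubgroup.closure {v : U | (∃ (k : orth M) (v' : U),
        emb (emb (emb k)) ∈ eichGroup (hyp (hyp (hyp M))) ∧ k.1 v' = v' + v) ∨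
      (M v = 0 ∧ ∃ z t, polar M v z = 0 ∧ polar M v t = 0 ∧ polar M z t = 1)} = ⊤) :
    Frame (hyp (hyp (hyp M))) M (eVec F ((F × F) × ((F × F) × U)))
      (inW (eVec F ((F × F) × U))) where
  u' := fVec F _
  a' := inW (fVec F _)
  j := (inW (W := (F × F) × ((F × F) × U))).comp (inW (W := (F × F) × U))
  hu := by simp [eVec, fVec, inW_apply, polar_hyp]
  hu' := by simp [eVec, fVec, inW_apply, polar_hyp]
  ha := by simp [eVec, fVec, inW_apply, polar_hyp]
  ha' := by simp [eVec, fVec, inW_apply, polar_hyp]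
  huu := by simp [eVec, fVec, inW_apply, polar_hyp]
  haa := by simp [eVec, fVec, inW_apply, polar_hyp]
  hua := by simp [eVec, fVec, inW_apply, polar_hyp]
  hua' := by simp [eVec, fVec, inW_apply, polar_hyp]
  hu'a := by simp [eVec, fVec, inW_apply, polar_hyp]
  hu'a' := by simp [eVec, fVec, inW_apply, polar_hyp]
  hj p := by simp [eVec, fVec, inW_apply, polar_hyp]
  hju p := by simp [eVec, fVec, inW_apply, polar_hyp]
  hju' p := by simp [eVec, fVec, inW_apply, polar_hyp]
  hja p := by simp [eVec, fVec, inW_apply, polar_hyp]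
  hja' p := by simp [eVec, fVec, inW_apply, polar_hyp]
  span z := ⟨z.2.2, by
    obtain ⟨⟨x, y⟩, ⟨⟨x', y'⟩, p⟩⟩ := z
    simp [eVec, fVec, inW_apply, polar_hyp]⟩
  gen := by
    rw [eq_top_iff, ← hgen]
    refine AddSubgroup.closure_mono fun v hv => ?_
    rcases hv with ⟨k, v', hk, h⟩ | h
    · refine Or.inl ⟨⟨_, hk⟩, v', ?_, ?_, ?_, ?_, ?_, ?_, ?_⟩ <;>
        simp [eVec, fVec, inW_apply, emb_apply, h]
    · exact Or.inr h

variable [Finite F] {a b : F}

theorem gen_minus (hab : BinAniso a b) (j : ℕ) :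
    AddSubgroup.closure {v : ((Fin j → F) × (Fin j → F)) × (F × F) |
      (∃ (k : orth (hypSum j (binForm a b))) (v' : _),
        emb (emb (emb k)) ∈ eichGroup (hyp (hyp (hyp (hypSum j (binForm a b))))) ∧
          k.1 v' = v' + v) ∨
      (hypSum j (binForm a b) v = 0 ∧ ∃ z t, polar (hypSum j (binForm a b)) v z = 0 ∧
        polar (hypSum j (binForm a b)) v t = 0 ∧ polar (hypSum j (binForm a b)) z t = 1)} = ⊤ := by
  rw [eq_top_iff]
  rintro ⟨⟨x, y⟩, z⟩ -
  have hd : (((x, y), z) : ((Fin j → F) × (Fin j → F)) × (F × F)) =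
      ((x, 0), 0) + ((0, y), 0) + (0, z) := by simp
  rw [hd]
  obtain ⟨v₀, v₁, hvv⟩ := exists_polar_bin hab 0 1
  have hpz : ∀ t t' : F × F, polar (hypSum j (binForm a b)) (0, t) (0, t') =
      polar (binForm a b) t t' := fun t t' => by
    simp [polar]
  have hvv' : polar (binForm a b) v₀.2 v₁.2 = 1 := by
    rw [← hvv]
    simp [polar]
  have hs : ∀ (x y : Fin j → F), x = 0 ∨ y = 0 →
      hypSum j (binForm a b) ((x, y), 0) = 0 ∧
        ∀ t : F × F, polar (hypSum j (binForm a b)) ((x, y), 0) (0, t) = 0 := by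
    intro x y h
    rcases h with rfl | rfl <;> constructor <;> simp [polar]
  refine add_mem (add_mem ?_ ?_) ?_
  · refine AddSubgroup.subset_closure (Or.inr ?_)
    exact ⟨(hs x 0 (Or.inr rfl)).1, (0, v₀.2), (0, v₁.2), (hs x 0 (Or.inr rfl)).2 _,
      (hs x 0 (Or.inr rfl)).2 _, (hpz _ _).trans hvv'⟩
  · refine AddSubgroup.subset_closure (Or.inr ?_)
    exact ⟨(hs 0 y (Or.inl rfl)).1, (0, v₀.2), (0, v₁.2), (hs 0 y (Or.inl rfl)).2 _,
      (hs 0 y (Or.inl rfl)).2 _, (hpz _ _).trans hvv'⟩
  · obtain ⟨k, hk, hk'⟩ := exists_rotation hab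
    obtain ⟨z', hz'⟩ := hk' z
    refine AddSubgroup.subset_closure (Or.inl ⟨embBin j k, (0, z'), ?_, ?_⟩)
    · have hMnd := hab.polarND.hypSum j
      rw [← commutator_eq_eichGroup hMnd.hyp ⟨((1, 1), 0), by simp⟩
        (elemGroup_hyp_eq_top hMnd.hyp.hyp.nonsing
          (elemGroup_hypHyp hab.polarND hab.reflGroup_eq_top j))]
      have hle : (commutator (orth (binForm a b))).map
          (emb.comp (emb.comp (emb.comp (embBin j)))) ≤
          commutator (orth (hyp (hyp (hyp (hypSum j (binForm a b)))))) := by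
        rw [_root_.commutator_def, Subgroup.map_commutator, _root_.commutator_def]
        exact Subgroup.commutator_mono le_top le_top
      exact hle ⟨k, hk, rfl⟩
    · simp [embBin, hz']

theorem frames_of_std {U : Type w} [AddCommGroup U] [Module F U] {M : QuadraticForm F U}
    (hMnd : PolarND M)
    (f : Frame (hyp (hyp (hyp M))) M (eVec F ((F × F) × ((F × F) × U)))
      (inW (eVec F ((F × F) × U))))
    {u w : (F × F) × ((F × F) × ((F × F) × U))} (hp : Pair (hyp (hyp (hyp M))) u w) :
    ∃ c : F, Nonempty (Frame (hyp (hyp (hyp M))) M u (w + c • u)) := by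
  obtain ⟨g₁, -, hg₁⟩ := exists_eich_map hMnd.hyp (a := eVec F ((F × F) × ((F × F) × U))) (d := u)
    eVec_ne_zero hp.hu0 (by rw [hyp_eVec, hp.hu])
  obtain ⟨w₀, hw₀⟩ : ∃ w₀, w₀ = g₁⁻¹.1 w := ⟨_, rfl⟩
  have hg : g₁.1 w₀ = w := by rw [hw₀, coe_apply_inv_apply]
  have hw2 : w₀.1.2 = 0 := by
    have h := hp.huw
    rw [← hg₁, ← hg, map_polar, polar_eVec] at h
    exact h
  have hd : w₀ = w₀.1.1 • eVec F ((F × F) × ((F × F) × U)) + inW w₀.2 := by
    conv_lhs => rw [decomp w₀, hw2, zero_smul, add_zero]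
  have hw0 : hyp (hyp M) w₀.2 = 0 := by
    have h := hp.hw
    rw [← hg, map_form, hyp_apply, hw2, mul_zero, zero_add] at h
    exact h
  have hne : w₀.2 ≠ 0 := fun h => hp.ind w₀.1.1 (by
    rw [← hg₁, ← hg, ← map_smul]
    conv_lhs => rw [hd, h, map_zero, add_zero])
  obtain ⟨g₂, -, hg₂⟩ := exists_eich_map hMnd (a := eVec F ((F × F) × U)) (d := w₀.2)
    eVec_ne_zero hne (by rw [hyp_eVec, hw0])
  refine ⟨-w₀.1.1, ⟨?_⟩⟩
  have h := f.map (g₁ * emb g₂)
  have e1 : (g₁ * emb g₂).1 (eVec F ((F × F) × ((F × F) × U))) = u := by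
    rw [coe_mul_apply, show (emb g₂).1 (eVec F ((F × F) × ((F × F) × U))) = eVec F _ by
      simp [emb_apply, eVec], hg₁]
  have e2 : (g₁ * emb g₂).1 (inW (eVec F ((F × F) × U))) = w + (-w₀.1.1) • u := by
    rw [coe_mul_apply, show (emb g₂).1 (inW (eVec F ((F × F) × U))) = inW w₀.2 by
      simp [emb_apply, inW_apply, hg₂], ← hg₁, ← hg, ← map_smul, ← map_add]
    congr 1
    conv_rhs => arg 1; rw [hd]
    module
  rw [e1, e2] at h
  exact h

/-- **Frames everywhere.** -/
theorem sys_minus (hab : BinAniso a b) (j : ℕ) :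
    Sys (hyp (hyp (hyp (hypSum j (binForm a b))))) (hypSum j (binForm a b)) where
  nd := hab.polarND.hypSum j
  hB := exists_polar_bin hab j
  frames _ _ hp := frames_of_std (hab.polarND.hypSum j) (stdFrame _ (gen_minus hab j)) hp

end Cfsg.Agent.ClassMult
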