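import Cfsg.Agent.ClassMult.Clifford
import Cfsg.Prelude.Def_KGroupFacts

/-!
The double cover of the Eichler group inside the Clifford algebra (helper74).
-/

set_option autoImplicit false

namespace Cfsg.Agent.ClassMult

open Cfsg.Agent.UnitaryOrthogonal QuadraticMap
open CliffordAlgebra (ι involute reverse)

universe v w

variable {F : Type v} [Field F] {V : Type w} [AddCommGroup V] [Module F V] (Q : QuadraticForm F V)

theorem ι_mul_ι (a b : V) :
    ι Q a * ι Q b = algebraMap F (CliffordAlgebra Q) (polar Q a b) - ι Q b * ι Q a := by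
  rw [← CliffordAlgebra.ι_mul_ι_add_swap, add_sub_cancel_right]

theorem ι_sq_of_singular {u : V} (hu : Q u = 0) : ι Q u * ι Q u = 0 := by
  rw [CliffordAlgebra.ι_sq_scalar, hu, map_zero]

theorem root_sq {u z : V} (hu : Q u = 0) (hz : polar Q u z = 0) :
    ι Q u * ι Q z * (ι Q u * ι Q z) = 0 := by
  have h : ι Q z * ι Q u = -(ι Q u * ι Q z) := by
    rw [ι_mul_ι, polar_comm, hz, map_zero, zero_sub]
  rw [mul_assoc, ← mul_assoc (ι Q z), h, neg_mul, mul_neg, ← mul_assoc, ← mul_assoc,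
    ι_sq_of_singular Q hu, zero_mul, zero_mul, neg_zero]

open scoped Classical in
/-- The lift `1 - u z` of `E(u, z)`. -/
noncomputable def spinLift (u z : V) : (CliffordAlgebra Q)ˣ :=
  if h : Q u = 0 ∧ polar Q u z = 0 then
    { val := 1 - ι Q u * ι Q z
      inv := 1 + ι Q u * ι Q z
      val_inv := by
        rw [sub_mul, one_mul, mul_add, mul_one, root_sq Q h.1 h.2]
        abel
      inv_val := by
        rw [add_mul, one_mul, mul_sub, mul_one, root_sq Q h.1 h.2]
        abel }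
  else 1

theorem coe_spinLift {u z : V} (hu : Q u = 0) (hz : polar Q u z = 0) :
    (spinLift Q u z : CliffordAlgebra Q) = 1 - ι Q u * ι Q z := by
  rw [spinLift, dif_pos ⟨hu, hz⟩]

theorem coe_inv_spinLift {u z : V} (hu : Q u = 0) (hz : polar Q u z = 0) :
    ((spinLift Q u z)⁻¹ : (CliffordAlgebra Q)ˣ).val = 1 + ι Q u * ι Q z := by
  rw [spinLift, dif_pos ⟨hu, hz⟩]; rfl

/-- The double cover of `eichGroup Q`, as a group of pairs. -/
noncomputable def spin : Subgroup ((CliffordAlgebra Q)ˣ × orth Q) :=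
  Subgroup.closure {p | ∃ u z, Q u = 0 ∧ polar Q u z = 0 ∧ p = (spinLift Q u z, eich Q u z)}

theorem spinGen_mem {u z : V} (hu : Q u = 0) (hz : polar Q u z = 0) :
    (spinLift Q u z, eich Q u z) ∈ spin Q :=
  Subgroup.subset_closure ⟨u, z, hu, hz, rfl⟩

theorem conj_spinLift {u z : V} (hu : Q u = 0) (hz : polar Q u z = 0) (x : V) :
    (spinLift Q u z : CliffordAlgebra Q) * ι Q x * ((spinLift Q u z)⁻¹ : (CliffordAlgebra Q)ˣ).val =
      ι Q ((eich Q u z).1 x) := by
  rw [coe_spinLift Q hu hz, coe_inv_spinLift Q hu hz, eich_apply hu hz]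
  have e1 : ι Q z * ι Q x = algebraMap F _ (polar Q z x) - ι Q x * ι Q z := ι_mul_ι Q z x
  have e2 : ι Q x * ι Q u = algebraMap F _ (polar Q u x) - ι Q u * ι Q x := by
    rw [ι_mul_ι, polar_comm]
  have e3 : ι Q z * ι Q u = -(ι Q u * ι Q z) := by
    rw [ι_mul_ι, polar_comm, hz, map_zero, zero_sub]
  have e4 : ι Q z * ι Q z = algebraMap F _ (Q z) := CliffordAlgebra.ι_sq_scalar Q z
  have e5 := ι_sq_of_singular Q hu
  have m1 : ι Q u * ι Q z * ι Q x = polar Q z x • ι Q u - ι Q u * ι Q x * ι Q z := by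
    rw [mul_assoc, e1, mul_sub, ← Algebra.commutes, ← Algebra.smul_def, mul_assoc]
  have m2 : ι Q x * (ι Q u * ι Q z) = polar Q u x • ι Q z - ι Q u * ι Q x * ι Q z := by
    rw [← mul_assoc, e2, sub_mul, ← Algebra.smul_def]
  have m3 : ι Q u * ι Q z * ι Q x * (ι Q u * ι Q z) = (Q z * polar Q u x) • ι Q u := by
    have a1 : ι Q u * ι Q z * ι Q u = 0 := by
      rw [mul_assoc, e3, mul_neg, ← mul_assoc, e5, zero_mul, neg_zero]
    rw [mul_assoc (ι Q u * ι Q z), m2, mul_sub, mul_smul_comm, mul_assoc (ι Q u), e4,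
      ← Algebra.commutes, ← Algebra.smul_def, ← mul_assoc, ← mul_assoc, a1, zero_mul, zero_mul,
      sub_zero, smul_smul, mul_comm]
  rw [sub_mul, one_mul, sub_mul, mul_add, mul_one, mul_add, mul_one, m3, m2, m1]
  simp only [map_add, map_sub, map_smul]
  abel

variable {Q}

/-- What every element of `spin Q` satisfies. -/
theorem spin_props {p : (CliffordAlgebra Q)ˣ × orth Q} (hp : p ∈ spin Q) :
    (p.1 : CliffordAlgebra Q) ∈ CliffordAlgebra.even Q ∧
      (p.1 : CliffordAlgebra Q) * reverse (Q := Q) (p.1 : CliffordAlgebra Q) = 1 ∧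
      p.2 ∈ eichGroup Q ∧
      ∀ x, (p.1 : CliffordAlgebra Q) * ι Q x = ι Q (p.2.1 x) * (p.1 : CliffordAlgebra Q) := by
  induction hp using Subgroup.closure_induction'' with
  | mem q hq =>
      obtain ⟨u, z, hu, hz, rfl⟩ := hq
      refine ⟨?_, ?_, eich_mem_eichGroup u z, fun x => ?_⟩
      · show (spinLift Q u z : CliffordAlgebra Q) ∈ _
        rw [coe_spinLift Q hu hz]
        exact sub_mem (one_mem _) (CliffordAlgebra.ι_mul_ι_mem_evenOdd_zero Q u z)
      · show (spinLift Q u z : CliffordAlgebra Q) * _ = 1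
        rw [coe_spinLift Q hu hz, map_sub, CliffordAlgebra.reverse.map_one,
          CliffordAlgebra.reverse.map_mul, CliffordAlgebra.reverse_ι, CliffordAlgebra.reverse_ι,
          ι_mul_ι Q z u, polar_comm, hz, map_zero, zero_sub, sub_neg_eq_add,
          ← coe_spinLift Q hu hz, ← coe_inv_spinLift Q hu hz, Units.mul_inv]
      · show (spinLift Q u z : CliffordAlgebra Q) * _ = _
        rw [← conj_spinLift Q hu hz, Units.inv_mul_cancel_right]
  | inv_mem q hq =>
      obtain ⟨u, z, hu, hz, rfl⟩ := hq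
      refine ⟨?_, ?_, inv_mem (eich_mem_eichGroup u z), fun x => ?_⟩
      · show ((spinLift Q u z)⁻¹ : (CliffordAlgebra Q)ˣ).val ∈ _
        rw [coe_inv_spinLift Q hu hz]
        exact add_mem (one_mem _) (CliffordAlgebra.ι_mul_ι_mem_evenOdd_zero Q u z)
      · show ((spinLift Q u z)⁻¹ : (CliffordAlgebra Q)ˣ).val * _ = 1
        rw [Prod.fst_inv, coe_inv_spinLift Q hu hz, map_add, CliffordAlgebra.reverse.map_one,
          CliffordAlgebra.reverse.map_mul, CliffordAlgebra.reverse_ι, CliffordAlgebra.reverse_ι,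
          ι_mul_ι Q z u, polar_comm, hz, map_zero, zero_sub, ← sub_eq_add_neg,
          ← coe_spinLift Q hu hz, ← coe_inv_spinLift Q hu hz, Units.inv_mul]
      · show ((spinLift Q u z)⁻¹ : (CliffordAlgebra Q)ˣ).val * ι Q x = ι Q ((eich Q u z)⁻¹.1 x) * _
        conv_lhs => rw [← coe_apply_inv_apply (eich Q u z) x, ← conj_spinLift Q hu hz, mul_assoc,
          ← mul_assoc, ← mul_assoc, Units.inv_mul, one_mul]
        rfl
  | one =>
      refine ⟨one_mem _, ?_, one_mem _, fun x => by simp⟩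
      simp [CliffordAlgebra.reverse.map_one]
  | mul a b _ _ ha hb =>
      obtain ⟨a1, a2, a3, a4⟩ := ha
      obtain ⟨b1, b2, b3, b4⟩ := hb
      refine ⟨mul_mem a1 b1, ?_, mul_mem a3 b3, fun x => ?_⟩
      · show (a.1 : CliffordAlgebra Q) * b.1 * reverse (Q := Q) ((a.1 : CliffordAlgebra Q) * b.1) = 1
        rw [CliffordAlgebra.reverse.map_mul, mul_assoc, ← mul_assoc (b.1 : CliffordAlgebra Q), b2,
          one_mul, a2]
      · show (a.1 : CliffordAlgebra Q) * b.1 * ι Q x = ι Q ((a.2 * b.2).1 x) * (a.1 * b.1)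
        rw [mul_assoc, b4, ← mul_assoc, a4, mul_assoc, coe_mul_apply]

/-- The projection on the Eichler group. -/
noncomputable def spinProj (Q : QuadraticForm F V) : spin Q →* eichGroup Q :=
  ((MonoidHom.snd (CliffordAlgebra Q)ˣ (orth Q)).comp (spin Q).subtype).codRestrict _
    fun p => (spin_props p.2).2.2.1

theorem spinProj_surjective (Q : QuadraticForm F V) : Function.Surjective (spinProj Q) := by
  rintro ⟨g, hg⟩
  suffices h : g ∈ (spin Q).map (MonoidHom.snd (CliffordAlgebra Q)ˣ (orth Q)) by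
    obtain ⟨p, hp, rfl⟩ := h; exact ⟨⟨p, hp⟩, rfl⟩
  refine (Subgroup.closure_le _).2 ?_ hg
  rintro _ ⟨u, z, hu, hz, rfl⟩
  exact ⟨_, spinGen_mem Q hu hz, rfl⟩

section two

variable [Invertible (2 : F)] [FiniteDimensional F V]

theorem spin_ker (hQ : PolarND Q) {p : (CliffordAlgebra Q)ˣ × orth Q} (hp : p ∈ spin Q)
    (h : p.2 = 1) : p.1 = 1 ∨ p.1 = -1 := by
  obtain ⟨he, hn, -, hc⟩ := spin_props hp
  obtain ⟨c, hc'⟩ := mem_range_algebraMap_of_commute hQ he fun x => by
    have := hc x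
    rw [h] at this
    exact this
  rw [← hc', CliffordAlgebra.reverse.commutes, ← map_mul] at hn
  have hc2 : c * c = 1 :=
    (algebraMap F (CliffordAlgebra Q)).injective (hn.trans (map_one _).symm)
  rcases mul_self_eq_one_iff.1 hc2 with rfl | rfl
  · exact Or.inl (Units.ext (by rw [← hc', map_one, Units.val_one]))
  · exact Or.inr (Units.ext (by rw [← hc', map_neg, map_one, Units.val_neg, Units.val_one]))

omit [FiniteDimensional F V] in
theorem clifford_ι_inj {x y : V} (h : ι Q x = ι Q y) : x = y := by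
  have h' := congrArg (CliffordAlgebra.equivExterior Q) h
  have e : ∀ m, CliffordAlgebra.equivExterior Q (ι Q m) = ExteriorAlgebra.ι F m := fun m =>
    CliffordAlgebra.changeForm_ι (h := CliffordAlgebra.changeForm.associated_neg_proof (Q := Q)) m
  rw [e, e] at h'
  exact (ExteriorAlgebra.ι_inj F x y).1 h'

theorem card_ker_spinProj (hQ : PolarND Q) (hneg : ((-1, 1) : (CliffordAlgebra Q)ˣ × orth Q) ∈ spin Q) :
    Nat.card (spinProj Q).ker = 2 := by
  have hne : (-1 : (CliffordAlgebra Q)ˣ) ≠ 1 := fun e => by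
    have h1 : (-1 : CliffordAlgebra Q) = 1 := congrArg Units.val e
    rw [← map_one (algebraMap F (CliffordAlgebra Q)), ← map_neg] at h1
    have h2 := (algebraMap F (CliffordAlgebra Q)).injective h1
    exact (Invertible.ne_zero (2 : F)) (by linear_combination -h2)
  rw [Nat.card_eq_two_iff]
  refine ⟨1, ⟨⟨_, hneg⟩, Subtype.ext rfl⟩, fun e => hne ?_, ?_⟩
  · exact (congrArg (fun x : (spinProj Q).ker => x.1.1.1) e).symm
  · refine Set.eq_univ_of_forall fun x => ?_
    have h2 : x.1.1.2 = 1 := congrArg Subtype.val (MonoidHom.mem_ker.1 x.2)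
    rcases spin_ker hQ x.1.2 h2 with h | h
    · exact Or.inl (Subtype.ext (Subtype.ext (Prod.ext h h2)))
    · exact Or.inr (Subtype.ext (Subtype.ext (Prod.ext h h2)))

end two

/-- Two hyperbolic pairs, as used below. -/
theorem hypPairs_sq {R : Type*} [Ring R] {a b c d : R} (haa : a * a = 0) (hbb : b * b = 0)
    (hcc : c * c = 0) (hdd : d * d = 0) (hab : b * a = 1 - a * b) (hcd : d * c = 1 - c * d)
    (hca : c * a = -(a * c)) (hda : d * a = -(a * d)) (hcb : c * b = -(b * c))
    (hdb : d * b = -(b * d)) :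
    ((1 + a * c) * (1 - d * b) * (1 + a * c) * ((1 + a * d) * (1 - c * b) * (1 + a * d))) *
      ((1 + a * c) * (1 - d * b) * (1 + a * c) * ((1 + a * d) * (1 - c * b) * (1 + a * d))) =
      -1 := by
  have haa' : ∀ x, a * (a * x) = 0 := fun x => by rw [← mul_assoc, haa, zero_mul]
  have hbb' : ∀ x, b * (b * x) = 0 := fun x => by rw [← mul_assoc, hbb, zero_mul]
  have hcc' : ∀ x, c * (c * x) = 0 := fun x => by rw [← mul_assoc, hcc, zero_mul]
  have hdd' : ∀ x, d * (d * x) = 0 := fun x => by rw [← mul_assoc, hdd, zero_mul]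
  have hab' : ∀ x, b * (a * x) = x - a * (b * x) := fun x => by
    rw [← mul_assoc, hab, sub_mul, one_mul, mul_assoc]
  have hcd' : ∀ x, d * (c * x) = x - c * (d * x) := fun x => by
    rw [← mul_assoc, hcd, sub_mul, one_mul, mul_assoc]
  have hca' : ∀ x, c * (a * x) = -(a * (c * x)) := fun x => by
    rw [← mul_assoc, hca, neg_mul, mul_assoc]
  have hda' : ∀ x, d * (a * x) = -(a * (d * x)) := fun x => by
    rw [← mul_assoc, hda, neg_mul, mul_assoc]
  have hcb' : ∀ x, c * (b * x) = -(b * (c * x)) := fun x => by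
    rw [← mul_assoc, hcb, neg_mul, mul_assoc]
  have hdb' : ∀ x, d * (b * x) = -(b * (d * x)) := fun x => by
    rw [← mul_assoc, hdb, neg_mul, mul_assoc]
  have w1 : (1 + a * c) * (1 - d * b) * (1 + a * c) =
      1 + a * c - d * b - (a * c * (d * b) + d * b * (a * c)) := by
    simp [mul_add, add_mul, mul_sub, sub_mul, mul_assoc, haa, hbb, hcc, hdd, hab, hcd, hca, hda,
      hcb, hdb, haa', hbb', hcc', hdd', hab', hcd', hca', hda', hcb', hdb']
    abel
  have w2 : (1 + a * d) * (1 - c * b) * (1 + a * d) =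
      1 + a * d - c * b - (a * d * (c * b) + c * b * (a * d)) := by
    simp [mul_add, add_mul, mul_sub, sub_mul, mul_assoc, haa, hbb, hcc, hdd, hab, hcd, hca, hda,
      hcb, hdb, haa', hbb', hcc', hdd', hab', hcd', hca', hda', hcb', hdb']
    abel
  have ww : (1 + a * c - d * b - (a * c * (d * b) + d * b * (a * c))) *
      (1 + a * d - c * b - (a * d * (c * b) + c * b * (a * d))) =
      a * c - d * b + (a * d - c * b) := by
    simp [mul_add, add_mul, mul_sub, sub_mul, mul_assoc, haa, hbb, hcc, hdd, hab, hcd, hca, hda,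
      hcb, hdb, haa', hbb', hcc', hdd', hab', hcd', hca', hda', hcb', hdb']
    abel
  rw [w1, w2, ww]
  simp [mul_add, add_mul, mul_sub, sub_mul, mul_assoc, haa, hbb, hcc, hdd, hab, hcd, hca, hda,
    hcb, hdb, haa', hbb', hcc', hdd', hab', hcd', hca', hda', hcb', hdb']
  abel

/-- `-1` lies in the cover, as a square. -/
theorem exists_sq_eq_neg_one [Invertible (2 : F)] {a b c d : V} (ha : Q a = 0) (hb : Q b = 0)
    (hc : Q c = 0) (hd : Q d = 0) (hab : polar Q a b = 1) (hcd : polar Q c d = 1)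
    (hac : polar Q a c = 0) (had : polar Q a d = 0) (hbc : polar Q b c = 0)
    (hbd : polar Q b d = 0) :
    ∃ g ∈ spin Q, g * g = ((-1, 1) : (CliffordAlgebra Q)ˣ × orth Q) := by
  have hdb : polar Q d b = 0 := by rw [polar_comm, hbd]
  have hcb : polar Q c b = 0 := by rw [polar_comm, hbc]
  let X := (spinLift Q a c, eich Q a c)
  let Y := (spinLift Q d b, eich Q d b)
  let X' := (spinLift Q a d, eich Q a d)
  let Y' := (spinLift Q c b, eich Q c b)
  have hX : X ∈ spin Q := spinGen_mem Q ha hac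
  have hY : Y ∈ spin Q := spinGen_mem Q hd hdb
  have hX' : X' ∈ spin Q := spinGen_mem Q ha had
  have hY' : Y' ∈ spin Q := spinGen_mem Q hc hcb
  let g := X⁻¹ * Y * X⁻¹ * (X'⁻¹ * Y' * X'⁻¹)
  have hg : g ∈ spin Q :=
    mul_mem (mul_mem (mul_mem (inv_mem hX) hY) (inv_mem hX))
      (mul_mem (mul_mem (inv_mem hX') hY') (inv_mem hX'))
  refine ⟨g, hg, ?_⟩
  have h1 : ((g * g).1 : CliffordAlgebra Q) = -1 := by
    show ((spinLift Q a c)⁻¹ : (CliffordAlgebra Q)ˣ).val * spinLift Q d b *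
      ((spinLift Q a c)⁻¹ : (CliffordAlgebra Q)ˣ).val *
      (((spinLift Q a d)⁻¹ : (CliffordAlgebra Q)ˣ).val * spinLift Q c b *
        ((spinLift Q a d)⁻¹ : (CliffordAlgebra Q)ˣ).val) *
      (((spinLift Q a c)⁻¹ : (CliffordAlgebra Q)ˣ).val * spinLift Q d b *
      ((spinLift Q a c)⁻¹ : (CliffordAlgebra Q)ˣ).val *
      (((spinLift Q a d)⁻¹ : (CliffordAlgebra Q)ˣ).val * spinLift Q c b *
        ((spinLift Q a d)⁻¹ : (CliffordAlgebra Q)ˣ).val)) = -1
    rw [coe_inv_spinLift Q ha hac, coe_inv_spinLift Q ha had, coe_spinLift Q hd hdb,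
      coe_spinLift Q hc hcb]
    refine hypPairs_sq (ι_sq_of_singular Q ha) (ι_sq_of_singular Q hb) (ι_sq_of_singular Q hc)
      (ι_sq_of_singular Q hd) ?_ ?_ ?_ ?_ ?_ ?_
    · rw [ι_mul_ι, polar_comm, hab, map_one]
    · rw [ι_mul_ι, polar_comm, hcd, map_one]
    · rw [ι_mul_ι, polar_comm, hac, map_zero, zero_sub]
    · rw [ι_mul_ι, polar_comm, had, map_zero, zero_sub]
    · rw [ι_mul_ι, hcb, map_zero, zero_sub]
    · rw [ι_mul_ι, hdb, map_zero, zero_sub]
  refine Prod.ext (Units.ext (by rw [h1]; simp)) (orth_ext fun x => clifford_ι_inj (Q := Q) ?_)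
  have := (spin_props (mul_mem hg hg)).2.2.2 x
  rw [h1] at this
  simpa using this.symm

theorem isPerfect_spin [Invertible (2 : F)] [FiniteDimensional F V] (hQ : PolarND Q)
    (hperf : Group.IsPerfect (eichGroup Q))
    (hsq : ∃ g ∈ spin Q, g * g = ((-1, 1) : (CliffordAlgebra Q)ˣ × orth Q)) :
    Group.IsPerfect (spin Q) := by
  obtain ⟨g, hg, hg2⟩ := hsq
  have hneg : ((-1, 1) : (CliffordAlgebra Q)ˣ × orth Q) ∈ spin Q := hg2 ▸ mul_mem hg hg
  have hdec : ∀ x : spin Q, ∃ y ∈ commutator (spin Q), x = y ∨ x = ⟨_, hneg⟩ * y := by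
    intro x
    have hx : spinProj Q x ∈ (commutator (spin Q)).map (spinProj Q) := by
      rw [_root_.commutator_def, Subgroup.map_commutator,
        Subgroup.map_top_of_surjective _ (spinProj_surjective Q), ← _root_.commutator_def,
        hperf.commutator_eq_top]
      trivial
    obtain ⟨y, hy, he⟩ := hx
    refine ⟨y, hy, ?_⟩
    have h2 : (x * y⁻¹).1.2 = 1 := congrArg Subtype.val
      (show spinProj Q (x * y⁻¹) = 1 by rw [map_mul, map_inv, he, mul_inv_cancel])
    rcases spin_ker hQ (x * y⁻¹).2 h2 with h | h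
    · exact Or.inl (mul_inv_eq_one.1 (Subtype.ext (Prod.ext h h2)))
    · exact Or.inr (mul_inv_eq_iff_eq_mul.1 (Subtype.ext (Prod.ext h h2)))
  have hz : ∀ x : spin Q, Commute (⟨_, hneg⟩ : spin Q) x := fun x =>
    Subtype.ext (Prod.ext (Units.ext (by simp)) (by simp))
  have hnegD : (⟨_, hneg⟩ : spin Q) ∈ commutator (spin Q) := by
    obtain ⟨y, hy, h | h⟩ := hdec ⟨g, hg⟩
    · have : (⟨_, hneg⟩ : spin Q) = y * y := by rw [← h]; exact Subtype.ext hg2.symm
      rw [this]; exact mul_mem hy hy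
    · have hsq : (⟨_, hneg⟩ : spin Q) * ⟨_, hneg⟩ = 1 :=
        Subtype.ext (Prod.ext (Units.ext (by simp)) (by simp))
      have : (⟨_, hneg⟩ : spin Q) = y * y := by
        have e : (⟨g, hg⟩ : spin Q) * ⟨g, hg⟩ = ⟨_, hneg⟩ := Subtype.ext hg2
        rw [h, (hz y).symm.mul_mul_mul_comm, hsq, one_mul] at e
        exact e.symm
      rw [this]; exact mul_mem hy hy
  refine ⟨eq_top_iff.2 fun x _ => ?_⟩
  obtain ⟨y, hy, rfl | rfl⟩ := hdec x
  · exact hy
  · exact mul_mem hnegD hy

theorem finite_spin [Invertible (2 : F)] [Finite V] [FiniteDimensional F V] (hQ : PolarND Q) :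
    Finite (spin Q) := by
  haveI : Finite (V ≃ₗ[F] V) := DFunLike.finite _
  haveI : Finite (spinProj Q).ker := by
    refine Finite.of_injective (fun x => (x.1.1.1 = 1 : Prop)) ?_
    intro x y e
    have hx2 : x.1.1.2 = 1 := congrArg Subtype.val (MonoidHom.mem_ker.1 x.2)
    have hy2 : y.1.1.2 = 1 := congrArg Subtype.val (MonoidHom.mem_ker.1 y.2)
    refine Subtype.ext (Subtype.ext (Prod.ext ?_ (hx2.trans hy2.symm)))
    rcases spin_ker hQ x.1.2 hx2 with h | h
    · exact h.trans (e.mp h).symm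
    · rcases spin_ker hQ y.1.2 hy2 with h' | h'
      · exact (e.mpr h').trans h'.symm
      · exact h.trans h'.symm
  haveI : Finite (spin Q ⧸ (spinProj Q).ker) :=
    Finite.of_injective _ (QuotientGroup.kerLift_injective (spinProj Q))
  exact Finite.of_equiv _ (Subgroup.groupEquivQuotientProdSubgroup (s := (spinProj Q).ker)).symm

/-- The cover of `eichGroup Q / Z` and its kernel. -/
theorem exists_stem_cover [Invertible (2 : F)] [FiniteDimensional F V] (hQ : PolarND Q)
    (hperf : Group.IsPerfect (eichGroup Q))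
    (hsq : ∃ g ∈ spin Q, g * g = ((-1, 1) : (CliffordAlgebra Q)ˣ × orth Q))
    {G : Type*} [Group G] (τ : eichGroup Q →* G) (hτ : Function.Surjective τ)
    (hker : τ.ker ≤ Subgroup.center (eichGroup Q)) :
    Cfsg.IsStemExtension (τ.comp (spinProj Q)) ∧
      Nat.card (τ.comp (spinProj Q)).ker = 2 * Nat.card τ.ker := by
  have hP : Group.IsPerfect (spin Q) := isPerfect_spin hQ hperf hsq
  obtain ⟨g, hg, hg2⟩ := hsq
  have hneg : ((-1, 1) : (CliffordAlgebra Q)ˣ × orth Q) ∈ spin Q := hg2 ▸ mul_mem hg hg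
  have hk : ∀ x ∈ (spinProj Q).ker, x ∈ Subgroup.center (spin Q) := by
    intro x hx
    have h2 : x.1.2 = 1 := congrArg Subtype.val (MonoidHom.mem_ker.1 hx)
    refine Subgroup.mem_center_iff.2 fun y => Subtype.ext (Prod.ext ?_ ?_)
    · rcases spin_ker hQ x.2 h2 with h | h <;> simp [h]
    · simp [h2]
  refine ⟨⟨hτ.comp (spinProj_surjective Q), ?_, fun x _ => hP.mem_commutator⟩, ?_⟩
  · intro x hx
    -- commutators with `x` give a map to the kernel, trivial on commutators
    have hc : ∀ y : spin Q, x * y * x⁻¹ * y⁻¹ ∈ (spinProj Q).ker := fun y => by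
      have := Subgroup.mem_center_iff.1 (hker (show spinProj Q x ∈ τ.ker from hx)) (spinProj Q y)
      rw [MonoidHom.mem_ker, map_mul, map_mul, map_mul, map_inv, map_inv, ← this]
      group
    let f : spin Q →* spin Q :=
      { toFun := fun y => x * y * x⁻¹ * y⁻¹
        map_one' := by group
        map_mul' := fun a b => by
          have h := Subgroup.mem_center_iff.1 (hk _ (hc b)) a
          calc x * (a * b) * x⁻¹ * (a * b)⁻¹
              = x * a * x⁻¹ * (x * b * x⁻¹ * b⁻¹) * a⁻¹ := by group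
            _ = x * a * x⁻¹ * (a⁻¹ * (a * (x * b * x⁻¹ * b⁻¹)) * a⁻¹) := by group
            _ = x * a * x⁻¹ * (a⁻¹ * ((x * b * x⁻¹ * b⁻¹) * a) * a⁻¹) := by rw [h]
            _ = x * a * x⁻¹ * a⁻¹ * (x * b * x⁻¹ * b⁻¹) := by group }
    have hcomm : commutator (spin Q) ≤ f.ker := by
      rw [_root_.commutator_def, Subgroup.commutator_le]
      intro a _ b _
      rw [MonoidHom.mem_ker, map_commutatorElement, commutatorElement_eq_one_iff_mul_comm]
      exact (Subgroup.mem_center_iff.1 (hk _ (hc a)) _).symm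
    refine Subgroup.mem_center_iff.2 fun y => ?_
    have h : x * y * x⁻¹ * y⁻¹ = 1 := hcomm (hP.mem_commutator (g := y))
    rw [mul_inv_eq_one, mul_inv_eq_iff_eq_mul] at h
    exact h.symm
  · rw [← card_ker_spinProj hQ hneg]
    have : (τ.comp (spinProj Q)).ker = τ.ker.comap (spinProj Q) := rfl
    rw [this]
    have h1 := Subgroup.card_eq_card_quotient_mul_card_subgroup
      ((spinProj Q).ker.subgroupOf (τ.ker.comap (spinProj Q)))
    let r : τ.ker.comap (spinProj Q) →* τ.ker :=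
      ((spinProj Q).comp (Subgroup.subtype _)).codRestrict _ fun x => x.2
    have hr : Function.Surjective r := fun y => by
      obtain ⟨x, hx⟩ := spinProj_surjective Q y.1
      exact ⟨⟨x, by show spinProj Q x ∈ τ.ker; rw [hx]; exact y.2⟩, Subtype.ext hx⟩
    have hrk : r.ker = (spinProj Q).ker.subgroupOf (τ.ker.comap (spinProj Q)) :=
      MonoidHom.ker_codRestrict _ _ _
    rw [← hrk] at h1
    rw [h1, Nat.card_congr (QuotientGroup.quotientKerEquivOfSurjective r hr).toEquiv, hrk,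
      Nat.card_congr (Subgroup.subgroupOfEquivOfLe (fun x hx => by
        show spinProj Q x ∈ τ.ker
        rw [MonoidHom.mem_ker.1 hx]; exact one_mem _)).toEquiv, mul_comm]

end Cfsg.Agent.ClassMult
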