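import Cfsg.Agent.ClassMult.SiegelOdd
import Cfsg.Agent.ClassMult.PlusBound
import Cfsg.Agent.ClassMult.Spin
import Cfsg.Agent.Lib.Schur.Basic
import Cfsg.Agent.SpMult50.PPrime
import Cfsg.Agent.Lib.Symplectic.Card

/-!
The Schur multiplier of `PΩ_{2m+1}(q)`, `q` odd (helper74).
-/

set_option autoImplicit false

namespace Cfsg.Agent.ClassMult

open Cfsg.Agent.UnitaryOrthogonal QuadraticMap
open Cfsg.Agent.CharB.PSLMult hiding emb

universe v

variable {F : Type v} [Field F]

theorem pBound_five [Finite F] (h2 : (2 : F) ≠ 0) {p : ℕ} (hp : p.Prime) [CharP F p] :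
    PBound.{v} p 2 (eichGroup (hyp (hyp (hypSum 0 (sqForm F))))) := by
  haveI := Fintype.ofFinite F
  classical
  have hB := base_sqForm (F := F) h2
  have hex : 1 ≤ 0 ∨ ∃ a, sqForm F a ≠ 0 := Or.inr ⟨1, by simp⟩
  obtain ⟨-, hodd⟩ := index_commutator_orth hB (k := 0) hex
  have hq : 3 ≤ Fintype.card F := by
    have h1 := odd_natCard (F := F) h2
    have := Fintype.one_lt_card (α := F)
    rw [Nat.card_eq_fintype_card] at h1
    omega
  have hperf : commutator (Matrix.symplecticGroup (Fin 2) F) = ⊤ :=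
    Symplectic.commutator_eq_top (Or.inr (Or.inl ⟨rfl, hq⟩))
  haveI : IsSimpleGroup (Matrix.symplecticGroup (Fin 2) F ⧸
      Subgroup.center (Matrix.symplecticGroup (Fin 2) F)) :=
    Symplectic.isSimpleGroup_PSp le_rfl hperf
  haveI : Finite (Matrix.symplecticGroup (Fin 2) F) := Finite.of_injective _ Subtype.val_injective
  have hle : (spOrth (F := F)).range ≤ commutator (orth (hypSum 2 (sqForm F))) := by
    rw [MonoidHom.range_eq_map, ← hperf, _root_.commutator_def, Subgroup.map_commutator,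
      _root_.commutator_def]
    exact Subgroup.commutator_mono le_top le_top
  have hker : (spOrth (F := F)).ker ≤ Subgroup.center (Matrix.symplecticGroup (Fin 2) F) :=
    ker_le_center_of_ne_one hperf spOrth_ne_one
  have hc2 : Nat.card (Subgroup.center (Matrix.symplecticGroup (Fin 2) F)) = 2 := by
    have h := Symplectic.card_center (F := F) (m := 2) (q := Fintype.card F) rfl (by norm_num)
    have h1 := odd_natCard (F := F) h2
    rw [Nat.card_eq_fintype_card] at h1
    rw [Nat.gcd_eq_left (by omega : 2 ∣ Fintype.card F - 1)] at h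
    exact h
  have hcard : Nat.card (spOrth (F := F)).ker ≤ 2 :=
    (Subgroup.card_le_of_le hker).trans hc2.le
  have hp2 : p ≠ 2 := fun e => h2 (by subst e; exact_mod_cast CharP.cast_eq_zero F 2)
  have hnd : ¬ p ∣ Nat.card (spOrth (F := F)).ker := fun hd => hp2
    ((Nat.prime_dvd_prime_iff_eq hp Nat.prime_two).1 ((hd.trans (Subgroup.card_dvd_of_le hker)).trans (dvd_of_eq hc2)))
  have hrange : (spOrth (F := F)).range = commutator (orth (hypSum 2 (sqForm F))) := by
    refine Subgroup.eq_of_le_of_card_ge hle ?_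
    have h1 := card_ker_mul (spOrth (F := F)).rangeRestrict (MonoidHom.rangeRestrict_surjective _)
    rw [MonoidHom.ker_rangeRestrict] at h1
    have h3 := (commutator (orth (hypSum 2 (sqForm F)))).card_mul_index
    have hO : Nat.card (orth (hypSum 2 (sqForm F))) =
        2 * Nat.card (Matrix.symplecticGroup (Fin 2) F) := by
      rw [card_orth_odd h2,
        show Nat.card (Matrix.symplecticGroup (Fin 2) F) = _ from
          Symplectic.card_Sp (F := F) (q := Fintype.card F) rfl 2, Nat.card_eq_fintype_card]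
      ring
    rw [hO, ← h1, hodd h2] at h3
    have h4 : Nat.card (spOrth (F := F)).ker * Nat.card (spOrth (F := F)).range ≤
        2 * Nat.card (spOrth (F := F)).range := Nat.mul_le_mul_right _ hcard
    omega
  let π₁ : Matrix.symplecticGroup (Fin 2) F →* commutator (orth (hypSum 2 (sqForm F))) :=
    spOrth.codRestrict _ fun g => hle ⟨g, rfl⟩
  let ι₁ : commutator (orth (hypSum 2 (sqForm F))) ≃*
      eichGroup (hyp (hyp (hypSum 0 (sqForm F)))) :=
    (commEquiv (orthCongr (hypSumTwo (sqForm F) 0))).trans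
      (MulEquiv.subgroupCongr (commutator_orth_eq hB hex))
  have hπ : Function.Surjective π₁ := fun x => by
    obtain ⟨g, hg⟩ : x.1 ∈ (spOrth (F := F)).range := by rw [hrange]; exact x.2
    exact ⟨g, Subtype.ext hg⟩
  have hk : π₁.ker = (spOrth (F := F)).ker := MonoidHom.ker_codRestrict _ _ _
  have hgen : Subgroup.closure {g : Matrix.symplecticGroup (Fin 2) F | Pel p g} = ⊤ := by
    rw [eq_top_iff]
    intro g _
    have hg : g ∈ (Symplectic.tvGroup ∅ : Subgroup (Symplectic.Sp 2 F)) := by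
      rw [Symplectic.tvGroup_empty]; trivial
    refine (Subgroup.closure_le _).2 ?_ hg
    rintro _ ⟨w, -, c, rfl⟩
    refine Subgroup.subset_closure ⟨1, ?_⟩
    have key : ∀ k : ℕ, Symplectic.tv w c ^ k = Symplectic.tv w ((k : F) * c) := by
      intro k
      induction k with
      | zero => rw [pow_zero, Nat.cast_zero, zero_mul, Symplectic.tv_zero]
      | succ k ih =>
          rw [pow_succ, ih, Symplectic.tv_mul_tv, Nat.cast_succ, add_mul, one_mul]
    rw [pow_one, key, CharP.cast_eq_zero, zero_mul, Symplectic.tv_zero]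
  have hb := pBound_of_cover.{v, v, v} hp π₁ hπ (hk ▸ hker) (hk ▸ hnd) hgen
    (Cfsg.Agent.SpMult50.ptriv_Sp (p := p) (F := F) (m := 2))
  intro Γ _ _ σ E hg
  exact (PBound.of_mulEquiv ι₁ hb Γ σ E hg).trans (le_of_eq_of_le (by rw [hk]) hcard)

theorem pBound_odd [Finite F] (h2 : (2 : F) ≠ 0) {p : ℕ} (hp : p.Prime) [CharP F p] :
    ∀ k : ℕ, PBound.{v} p 2 (eichGroup (hyp (hyp (hypSum k (sqForm F)))))
  | 0 => pBound_five h2 hp
  | k + 1 => by
    have hB := base_sqForm (F := F) h2
    have h := pBound_step (M := hypSum k (sqForm F)) (hB.nd.hypSum _)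
      (exists_hypSum_ne_zero _ (Or.inr ⟨(1 : F), by simp⟩)) (elemGroup_hypHyp hB.nd hB.refl _)
      (fun c => ⟨((c, 1), 0), by simp⟩) (pBound_odd h2 hp k)
    exact PBound.of_mulEquiv
      (eichEquiv (hypCongr (hypCongr (hypSumSucc (sqForm F) k)))).symm h

theorem hasSchurMultiplier_odd [Fintype F] (h2 : (2 : F) ≠ 0) {m : ℕ} (hm : 3 ≤ m)
    (hexc : ¬(m = 3 ∧ Fintype.card F = 3)) :
    Cfsg.HasCyclicSchurMultiplier (Cfsg.POmega F (Cfsg.quadFormOdd m F)) 2 := by
  classical
  obtain ⟨k, rfl⟩ : ∃ k, m = k + 2 := ⟨m - 2, by omega⟩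
  haveI : Invertible (2 : F) := invertibleOfNonzero h2
  obtain ⟨p, hp⟩ := CharP.exists F
  have hpp : p.Prime :=
    (CharP.char_is_prime_or_zero F p).resolve_right (CharP.char_ne_zero_of_finite F p)
  have hB := base_sqForm (F := F) h2
  have hk : 1 ≤ k ∨ ∃ a, sqForm F a ≠ 0 := Or.inl (by omega)
  have hex := exists_hypSum_ne_zero (Q := sqForm F) k hk
  set Q := hyp (hyp (hypSum k (sqForm F))) with hQdef
  have hnd : PolarND Q := (hB.nd.hypSum k).hyp.hyp
  let ψ := (oddEquiv (k + 2) F).trans (orthCongr (hypSumTwo (sqForm F) k))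
  obtain ⟨e⟩ := nonempty_commutator_quotient_congr ψ (commutator_orth_eq hB hk)
  have hperf : Group.IsPerfect (eichGroup Q) := by
    have := isPerfect_commutator_orth hB (k := k) hk
    rwa [commutator_orth_eq hB hk] at this
  let τ : eichGroup Q →* Cfsg.POmega F (Cfsg.quadFormOdd (k + 2) F) :=
    e.symm.toMonoidHom.comp (QuotientGroup.mk' (Subgroup.center (eichGroup Q)))
  have hτ : τ.ker = Subgroup.center (eichGroup Q) := by
    ext x
    rw [MonoidHom.mem_ker, ← QuotientGroup.eq_one_iff]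
    exact e.symm.map_eq_one_iff
  have hτs : Function.Surjective τ := e.symm.surjective.comp (QuotientGroup.mk'_surjective _)
  haveI : Finite (Cfsg.POmega F (Cfsg.quadFormOdd (k + 2) F)) := Finite.of_surjective _ hτs
  have hZ : Nat.card (Subgroup.center (eichGroup Q)) = 1 := by
    have hP := (pomega_odd (F := F) h2 k).2
    rw [Nat.card_congr e.toEquiv] at hP
    have h1 := Subgroup.card_eq_card_quotient_mul_card_subgroup (Subgroup.center (eichGroup Q))
    have h3 := (eichGroup Q).card_mul_index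
    have hidx : (eichGroup Q).index = 4 :=
      (eichGroup_eq_ker_of_odd (hB.nd.hypSum k) hex (elemGroup_hypHyp hB.nd hB.refl k) h2
        (hsep_of_base h2 (hB.sep h2) k)).2
    rw [h1, hidx, ← card_orth_congr (hypSumTwo (sqForm F) k), ← hP] at h3
    have hpos : 0 < Nat.card (eichGroup Q ⧸ Subgroup.center (eichGroup Q)) := Nat.card_pos
    refine Nat.eq_of_mul_eq_mul_left hpos ?_
    rw [hQdef] at *
    linarith [h3]
  have hsq : ∃ g ∈ spin Q, g * g = ((-1, 1) : (CliffordAlgebra Q)ˣ × orth Q) := by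
    refine exists_sq_eq_neg_one (a := eVec F _) (b := fVec F _) (c := inW (eVec F _))
      (d := inW (fVec F _)) ?_ ?_ ?_ ?_ ?_ ?_ ?_ ?_ ?_ ?_ <;>
        simp [hQdef, eVec, fVec, inW_apply, polar]
  obtain ⟨hst, hcard⟩ := exists_stem_cover hnd hperf hsq τ hτs hτ.le
  haveI : Finite (spin Q) := finite_spin hnd
  rw [hτ, hZ, mul_one] at hcard
  haveI : Fact (Nat.Prime 2) := ⟨Nat.prime_two⟩
  haveI := isCyclic_of_prime_card hcard
  have hA : Nat.card (Multiplicative (ZMod 2)) = 2 := by
    rw [Nat.card_congr Multiplicative.toAdd, Nat.card_zmod]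
  refine Cfsg.Agent.Schur.hasSchurMultiplier_of_card_le (τ.comp (spinProj Q)) hst
    (mulEquivOfCyclicCardEq (hcard.trans hA.symm)) fun Γ _ _ σ hσ => ?_
  have hfree : PFree.{v} p (eichGroup Q) :=
    PFree.of_mulEquiv ((commEquiv (orthCongr (hypSumTwo (sqForm F) k))).trans
      (MulEquiv.subgroupCongr (commutator_orth_eq hB hk)))
      (pFree_odd (l := k + 2) hpp h2 hm (fun h h' => hexc ⟨h, by
        rw [← Nat.card_eq_fintype_card, h']⟩))
  have hbound := card_stem_ker_le hperf τ hτs hpp hfree (pBound_odd h2 hpp k)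
    (closure_pel_eichGroup _ p) σ hσ
  rw [hτ, hZ, mul_one] at hbound
  rw [hA]
  exact hbound

end Cfsg.Agent.ClassMult
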