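import Cfsg.Agent.ClassMult.Graph
import Cfsg.Agent.ClassMult.OmegaFacts
import Cfsg.Agent.Lib.UnitaryOrthogonal.HypGenerate

/-!
Covering the singular vectors: a central extension of `Ω` with kernel prime to `p` has its kernel in the
lifted stabiliser of a singular vector (helper74).
-/

set_option autoImplicit false

namespace Cfsg.Agent.ClassMult

open Cfsg.Agent.UnitaryOrthogonal Cfsg.Agent.CharB.PSLMult QuadraticMap

universe u v w

variable {F : Type v} [Field F] {U : Type w} [AddCommGroup U] [Module F U] {M : QuadraticForm F U}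

local notation "WW" => (F × F) × ((F × F) × U)
local notation "VV" => (F × F) × ((F × F) × ((F × F) × U))
local notation "QV" => hyp (hyp (hyp M))

variable {Γ : Type u} [Group Γ] {p : ℕ} (σ : Γ →* eichGroup (hyp (hyp (hyp M))))

/-- The action on vectors. -/
noncomputable def act (g : Γ) (v : VV) : VV := (σ g).1.1 v

theorem act_mul (g h : Γ) (v : VV) : act σ (g * h) v = act σ g (act σ h v) := by
  simp [act]

theorem act_one (v : VV) : act σ 1 v = v := by simp [act]

theorem act_inv_act (g : Γ) (v : VV) : act σ g⁻¹ (act σ g v) = v := by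
  rw [← act_mul, inv_mul_cancel, act_one]

theorem act_act_inv (g : Γ) (v : VV) : act σ g (act σ g⁻¹ v) = v := by
  rw [← act_mul, mul_inv_cancel, act_one]

/-- The lifted stabiliser of `eVec`. -/
def stab (p : ℕ) : Subgroup Γ :=
  Subgroup.closure {g | Pel p g ∧ act σ g (eVec F WW) = eVec F WW}

theorem stab_fix {g : Γ} (hg : g ∈ stab σ p) : act σ g (eVec F WW) = eVec F WW := by
  induction hg using Subgroup.closure_induction with
  | mem x hx => exact hx.2
  | one => exact act_one σ _
  | mul a b _ _ ha hb => rw [act_mul, hb, ha]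
  | inv a _ ha =>
      conv_lhs => rw [← ha]
      exact act_inv_act σ a _

/-- The vector of a coset. -/
noncomputable def pos (C : Γ ⧸ stab σ p) : VV :=
  Quotient.liftOn' C (fun g => act σ g (eVec F WW)) fun a b h => by
    rw [QuotientGroup.leftRel_apply] at h
    have := stab_fix σ h
    rw [act_mul] at this
    conv_lhs => rw [← this]
    rw [act_act_inv]

theorem pos_smul (g : Γ) (C : Γ ⧸ stab σ p) : pos σ (g • C) = act σ g (pos σ C) := by
  induction C using QuotientGroup.induction_on with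
  | H a => exact act_mul σ g a _

theorem smul_eq_self {g : Γ} (hg : Pel p g) {C : Γ ⧸ stab σ p}
    (h : act σ g (pos σ C) = pos σ C) : g • C = C := by
  induction C using QuotientGroup.induction_on with
  | H a =>
    refine ((QuotientGroup.eq).2 ?_).symm
    refine Subgroup.subset_closure ⟨?_, ?_⟩
    · have h1 := hg.conj a⁻¹
      rwa [inv_inv, mul_assoc] at h1
    · have h' : act σ g (act σ a (eVec F WW)) = act σ a (eVec F WW) := h
      rw [act_mul]
      show act σ a⁻¹ (act σ (g * a) (eVec F WW)) = eVec F WW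
      rw [act_mul, h', act_inv_act]

theorem act_eq {g : Γ} {u z : VV} (h : (σ g).1 = eich QV u z) (x : VV) :
    act σ g x = (eich QV u z).1 x := by
  rw [act, h]

/-- Transporters along an edge. -/
def IsT (p : ℕ) (v w : VV) (g : Γ) : Prop :=
  ∃ z, polar QV (w - v) z = 0 ∧ polar QV z v = -1 ∧ Pel p g ∧ (σ g).1 = eich QV (w - v) z

theorem sing_sub {v w : VV} (h : Adj QV v w) : QV (w - v) = 0 ∧ polar QV (w - v) v = 0 := by
  obtain ⟨h1, h2, h3, -⟩ := h
  constructor
  · rw [sub_eq_add_neg, form_add, QuadraticMap.map_neg, h1, h2, polar_neg_right, polar_comm, h3]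
    simp
  · rw [polar_sub_left, polar_comm, h3, polar_self_eq, h1]; simp

theorem eich_edge {v w z : VV} (h : Adj QV v w) (h1 : polar QV (w - v) z = 0)
    (h2 : polar QV z v = -1) : (eich QV (w - v) z).1 v = w := by
  rw [eich_apply (sing_sub h).1 h1, h2, (sing_sub h).2]
  simp

theorem IsT.act {v w : VV} {g : Γ} (hg : IsT σ p v w g) (h : Adj QV v w) : act σ g v = w := by
  obtain ⟨z, h1, h2, -, h4⟩ := hg
  rw [act_eq σ h4, eich_edge h h1 h2]

theorem pel_sub {x : (eichGroup (hyp (hyp (hyp M))))} {u z : VV} (h : x.1 = eich QV u z) [CharP F p] : Pel p x := by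
  obtain ⟨k, hk⟩ := pel_eich QV p u z
  exact ⟨k, Subtype.ext (by rw [SubmonoidClass.coe_pow, h, hk]; rfl)⟩

/-- The transporter over an Eichler transformation. -/
noncomputable def lft (E : PExt p σ) [CharP F p] (u z : VV) : Γ :=
  E.pl ⟨eich QV u z, eich_mem_eichGroup u z⟩ (pel_sub rfl)

theorem map_lft (E : PExt p σ) [CharP F p] (u z : VV) : (σ (lft σ E u z)).1 = eich QV u z :=
  congrArg Subtype.val (E.map_pl _)

theorem pel_lft (E : PExt p σ) [CharP F p] (u z : VV) : Pel p (lft σ E u z) := E.pel_pl _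

variable (hM : PolarND M) (E : PExt p σ) [CharP F p]

include hM E in
theorem exists_isT {v w : VV} (h : Adj QV v w) : ∃ g, IsT σ p v w g := by
  obtain ⟨z, h1, h2⟩ := h.exists_dual hM.hyp.hyp.hyp
  exact ⟨lft σ E (w - v) z, z, h1, h2, pel_lft σ E _ _, map_lft σ E _ _⟩

open scoped Classical in
/-- The transport of cosets along an edge. -/
noncomputable def mv (p : ℕ) (v w : VV) (C : Γ ⧸ stab σ p) : Γ ⧸ stab σ p :=
  if h : ∃ g, IsT σ p v w g then h.choose • C else C

include E in
theorem isT_smul {v w : VV} (h : Adj QV v w) {g g' : Γ} (hg : IsT σ p v w g)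
    (hg' : IsT σ p v w g') {C : Γ ⧸ stab σ p} (hC : pos σ C = v) : g • C = g' • C := by
  obtain ⟨z, h1, h2, h3, h4⟩ := hg
  obtain ⟨z', h1', h2', h3', h4'⟩ := hg'
  have hu := (sing_sub h).1
  have hcomm : Commute (σ g') (σ g) := by
    refine Subtype.ext ?_
    show (σ g').1 * (σ g).1 = (σ g).1 * (σ g').1
    rw [h4, h4', eich_mul hu h1 h1', eich_mul hu h1' h1, add_comm]
  have hc : Commute g' g := E.commute h3' h3 hcomm
  have hp : Pel p (g'⁻¹ * g) := h3'.inv.mul h3 hc.inv_left
  have hfix : act σ (g'⁻¹ * g) (pos σ C) = pos σ C := by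
    rw [hC, act_mul, IsT.act σ ⟨z, h1, h2, h3, h4⟩ h]
    conv_lhs => rw [← IsT.act σ ⟨z', h1', h2', h3', h4'⟩ h]
    rw [act_inv_act]
  have := smul_eq_self σ hp hfix
  rw [mul_smul, inv_smul_eq_iff] at this
  exact this

include hM E in
theorem mv_eq {v w : VV} (h : Adj QV v w) {g : Γ} (hg : IsT σ p v w g) {C : Γ ⧸ stab σ p}
    (hC : pos σ C = v) : mv σ p v w C = g • C := by
  rw [mv, dif_pos (exists_isT σ hM E h)]
  exact isT_smul σ E h (exists_isT σ hM E h).choose_spec hg hC

include hM E in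
theorem pos_mv {v w : VV} (h : Adj QV v w) {C : Γ ⧸ stab σ p} (hC : pos σ C = v) :
    pos σ (mv σ p v w C) = w := by
  obtain ⟨g, hg⟩ := exists_isT σ hM E h
  rw [mv_eq σ hM E h hg hC, pos_smul, hC, hg.act σ h]

include hM E in
theorem mv_smul (a : Γ) {v w : VV} (h : Adj QV v w) {C : Γ ⧸ stab σ p} (hC : pos σ C = v) :
    a • mv σ p v w C = mv σ p (act σ a v) (act σ a w) (a • C) := by
  obtain ⟨g, hg⟩ := exists_isT σ hM E h
  have h' : Adj QV (act σ a v) (act σ a w) := h.map (σ a).1
  have hg' : IsT σ p (act σ a v) (act σ a w) (a * g * a⁻¹) := by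
    obtain ⟨z, h1, h2, h3, h4⟩ := hg
    refine ⟨act σ a z, ?_, ?_, h3.conj a, ?_⟩
    · simp only [act]
      rw [← map_sub, map_polar, h1]
    · simp only [act]
      rw [map_polar, h2]
    · simp only [act, map_mul, map_inv, Subgroup.coe_mul, Subgroup.coe_inv, h4]
      rw [conj_eich, map_sub]
  rw [mv_eq σ hM E h hg hC, mv_eq σ hM E h' hg' (by rw [pos_smul, hC]), mul_smul, mul_smul,
    inv_smul_smul]

include hM E in
theorem mv_symm {v w : VV} (h : Adj QV v w) {C : Γ ⧸ stab σ p} (hC : pos σ C = v) :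
    mv σ p w v (mv σ p v w C) = C := by
  obtain ⟨g, hg⟩ := exists_isT σ hM E h
  have hg' : IsT σ p w v g⁻¹ := by
    obtain ⟨z, h1, h2, h3, h4⟩ := hg
    refine ⟨z, ?_, ?_, h3.inv, ?_⟩
    · rw [← neg_sub w v, polar_neg_left, h1, neg_zero]
    · rw [polar_sub_left, polar_comm QV w z, polar_comm QV v z, h2, sub_neg_eq_add] at h1
      exact eq_neg_of_add_eq_zero_left h1
    · rw [map_inv, Subgroup.coe_inv, h4, eich_inv (sing_sub h).1 h1,
        show v - w = (-1 : F) • (w - v) by rw [neg_one_smul, neg_sub],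
        eich_smul_left (sing_sub h).1 h1, neg_one_smul]
  rw [mv_eq σ hM E h.symm hg' (pos_mv σ hM E h hC), mv_eq σ hM E h hg hC, inv_smul_smul]

theorem eich_flip {u z : VV} (hu : QV u = 0) (hz : QV z = 0) (h : polar QV u z = 0) :
    eich QV u z = eich QV z (-u) := by
  refine orth_ext fun x => ?_
  rw [eich_apply hu h, eich_apply hz (by rw [polar_neg_right, polar_comm, h, neg_zero]), hz,
    QuadraticMap.map_neg, hu, polar_neg_left]
  simp
  abel

include hM E in
theorem mv_tri {a b c : VV} (h : Tri QV a b c) {C : Γ ⧸ stab σ p} (hC : pos σ C = a) :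
    mv σ p b c (mv σ p a b C) = mv σ p a c C := by
  obtain ⟨z, hz, za, zb, zc⟩ := h.exists_dual hM.hyp.hyp.hyp
  have hT : ∀ {x y : VV}, Adj QV x y → polar QV z x = -1 → polar QV z y = -1 →
      polar QV (y - x) z = 0 ∧ IsT σ p x y (lft σ E (y - x) z) := fun {x y} hxy hx hy => by
    have h0 : polar QV (y - x) z = 0 := by
      rw [polar_sub_left, polar_comm QV y, polar_comm QV x, hx, hy, sub_self]
    exact ⟨h0, z, h0, hx, pel_lft σ E _ _, map_lft σ E _ _⟩
  obtain ⟨p1, t1⟩ := hT h.adj12 za zb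
  obtain ⟨p2, t2⟩ := hT h.adj23 zb zc
  obtain ⟨p3, t3⟩ := hT h.adj13 za zc
  rw [mv_eq σ hM E h.adj23 t2 (pos_mv σ hM E h.adj12 hC), mv_eq σ hM E h.adj12 t1 hC,
    mv_eq σ hM E h.adj13 t3 hC, ← mul_smul]
  congr 1
  have q1 : polar QV z (-(b - a)) = 0 := by rw [polar_neg_right, polar_comm, p1, neg_zero]
  have q2 : polar QV z (-(c - b)) = 0 := by rw [polar_neg_right, polar_comm, p2, neg_zero]
  have i1 : (σ (lft σ E (b - a) z)).1 = eich QV z (-(b - a)) := by
    rw [map_lft, eich_flip (sing_sub h.adj12).1 hz p1]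
  have i2 : (σ (lft σ E (c - b) z)).1 = eich QV z (-(c - b)) := by
    rw [map_lft, eich_flip (sing_sub h.adj23).1 hz p2]
  have hc : Commute (σ (lft σ E (c - b) z)) (σ (lft σ E (b - a) z)) := by
    refine Subtype.ext ?_
    show (σ _).1 * (σ _).1 = (σ _).1 * (σ _).1
    rw [i1, i2, eich_mul hz q1 q2, eich_mul hz q2 q1, add_comm]
  refine E.uniq ((pel_lft σ E _ _).mul (pel_lft σ E _ _) (E.commute (pel_lft σ E _ _)
    (pel_lft σ E _ _) hc)) (pel_lft σ E _ _) (Subtype.ext ?_)
  rw [map_mul, Subgroup.coe_mul, i1, i2, eich_mul hz q2 q1, map_lft,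
    eich_flip (sing_sub h.adj13).1 hz p3]
  congr 1
  abel

/-- The base coset. -/
noncomputable def base (p : ℕ) : Γ ⧸ stab σ p := QuotientGroup.mk 1

theorem pos_base : pos σ (base σ p) = eVec F WW := act_one σ _

open scoped Classical in
/-- The section. -/
noncomputable def sec (p : ℕ) (v : VV) : Γ ⧸ stab σ p :=
  if v = eVec F WW then base σ p
  else if Adj QV (eVec F WW) v then mv σ p (eVec F WW) v (base σ p)
  else if h : ∃ w, Adj QV (eVec F WW) w ∧ Adj QV w v then
    mv σ p h.choose v (mv σ p (eVec F WW) h.choose (base σ p))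
  else base σ p

theorem not_adj_self (v : VV) : ¬ Adj QV v v := fun h => by
  have := (adj_iff.1 h).2.2.2 1 (-1) (by simp)
  simp at this

include hM E in
theorem via_eq {v w w' : VV} (hv : QV v = 0) (hv0 : v ≠ 0) (hn : ¬ Adj QV (eVec F WW) v)
    (h1 : Adj QV (eVec F WW) w) (h2 : Adj QV w v) (h1' : Adj QV (eVec F WW) w') (h2' : Adj QV w' v) :
    mv σ p w v (mv σ p (eVec F WW) w (base σ p)) =
      mv σ p w' v (mv σ p (eVec F WW) w' (base σ p)) := by
  have hb := pos_base σ (p := p)
  obtain ⟨f, hf, hef, c, hc, hvc⟩ : ∃ f, QV f = 0 ∧ polar QV (eVec F WW) f = 1 ∧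
      ∃ c : F, c ≠ 0 ∧ (v = c • eVec F WW ∨ v = c • f) := by
    by_cases hp : polar QV (eVec F WW) v = 0
    · refine ⟨fVec F WW, hyp_fVec, polar_eVec_fVec, ?_⟩
      have hn' : ¬ LinearIndependent F ![eVec F WW, v] := fun h => hn ⟨hyp_eVec, hv, hp, h⟩
      rw [LinearIndependent.pair_iff] at hn'
      simp only [not_forall] at hn'
      obtain ⟨r, s, hrs, hne⟩ := hn'
      have hs : s ≠ 0 := fun h => by
        subst h
        simp [eVec_ne_zero] at hrs
        exact hne ⟨hrs, rfl⟩
      have hve : v = (-(r / s)) • eVec F WW := by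
        rw [add_comm, add_eq_zero_iff_eq_neg] at hrs
        rw [← inv_smul_smul₀ hs v, hrs, smul_neg, smul_smul, neg_smul, div_eq_inv_mul]
      exact ⟨_, fun h => hv0 (by rw [hve, h, zero_smul]), Or.inl hve⟩
    · exact ⟨(polar QV (eVec F WW) v)⁻¹ • v, by rw [form_smul, hv, mul_zero],
        by rw [polar_smul_right, smul_eq_mul, inv_mul_cancel₀ hp], _, hp,
        Or.inr (by rw [smul_smul, mul_inv_cancel₀ hp, one_smul])⟩
  have hstep : ∀ {a b : VV}, Tri QV (eVec F WW) a b → Tri QV v a b → Adj QV a v → Adj QV b v →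
      mv σ p a v (mv σ p (eVec F WW) a (base σ p)) =
        mv σ p b v (mv σ p (eVec F WW) b (base σ p)) := by
    intro a b hT hTv _ _
    rw [← mv_tri σ hM E hT hb, mv_tri σ hM E hTv.swap12.swap23
      (pos_mv σ hM E hT.adj12 hb)]
  have hv' : ∀ {a b : VV}, Tri QV (eVec F WW) a b →
      (polar QV f a = 0 → polar QV f b = 0 → Tri QV f a b) → Adj QV a v → Adj QV b v →
      Tri QV v a b := by
    intro a b hT hTf ha hb'
    rcases hvc with hvc | hvc
    · rw [hvc]; exact hT.smul_fst hc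
    · have hp : ∀ {x : VV}, Adj QV x v → polar QV f x = 0 := fun {x} hx => by
        have h := hx.2.2.1
        rw [hvc, polar_smul_right, smul_eq_mul, mul_eq_zero, polar_comm] at h
        exact h.resolve_left hc
      rw [hvc]; exact (hTf (hp ha) (hp hb')).smul_fst hc
  have hf0 : ∀ {x : VV}, Adj QV x v → v = c • f → polar QV f x = 0 := fun {x} hx e => by
    have h := hx.2.2.1
    rw [e, polar_smul_right, smul_eq_mul, mul_eq_zero, polar_comm] at h
    exact h.resolve_left hc
  rcases link hM hyp_eVec hf hef h1 h1' with ⟨hT, hTf⟩ | ⟨x, hT, hT', hTf, hTf'⟩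
  · exact hstep hT (hv' hT hTf h2 h2') h2 h2'
  · have hxv : Tri QV v w x ∧ Tri QV v w' x := by
      rcases hvc with hvc | hvc
      · rw [hvc]; exact ⟨hT.smul_fst hc, hT'.smul_fst hc⟩
      · exact ⟨hvc ▸ (hTf (hf0 h2 hvc)).smul_fst hc, hvc ▸ (hTf' (hf0 h2' hvc)).smul_fst hc⟩
    rw [hstep hT hxv.1 h2 hxv.1.adj13.symm, hstep hT' hxv.2 h2' hxv.2.adj13.symm]

include hM E in
theorem sec_adj {v : VV} (h : Adj QV (eVec F WW) v) :
    sec σ p v = mv σ p (eVec F WW) v (base σ p) := by
  have hne : v ≠ eVec F WW := fun e => not_adj_self (F := F) (M := M) v (by rwa [← e] at h)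
  rw [sec, if_neg hne, if_pos h]

include hM E in
theorem sec_via {v w : VV} (hv : QV v = 0) (hv0 : v ≠ 0) (hne : v ≠ eVec F WW)
    (hn : ¬ Adj QV (eVec F WW) v) (h1 : Adj QV (eVec F WW) w) (h2 : Adj QV w v) :
    sec σ p v = mv σ p w v (mv σ p (eVec F WW) w (base σ p)) := by
  rw [sec, if_neg hne, if_neg hn,
    dif_pos (⟨w, h1, h2⟩ : ∃ w, Adj QV (eVec F WW) w ∧ Adj QV w v)]
  exact via_eq σ hM E hv hv0 hn (Exists.choose_spec (⟨w, h1, h2⟩ :
    ∃ w, Adj QV (eVec F WW) w ∧ Adj QV w v)).1 (Exists.choose_spec (⟨w, h1, h2⟩ :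
    ∃ w, Adj QV (eVec F WW) w ∧ Adj QV w v)).2 h1 h2

include hM E in
theorem pos_sec {v : VV} (hv : QV v = 0) (hv0 : v ≠ 0) : pos σ (sec σ p v) = v := by
  have hb := pos_base σ (p := p)
  by_cases hne : v = eVec F WW
  · rw [sec, if_pos hne, hb, hne]
  by_cases h : Adj QV (eVec F WW) v
  · rw [sec_adj σ hM E h, pos_mv σ hM E h hb]
  obtain ⟨w, h1, h2⟩ := exists_common hM hv hv0 h
  rw [sec_via σ hM E hv hv0 hne h h1 h2, pos_mv σ hM E h2 (pos_mv σ hM E h1 hb)]

theorem adj_ne_zero {a b : VV} (h : Adj QV a b) : b ≠ 0 := fun e => by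
  have := (adj_iff.1 h).2.2.2 0 1 (by simp [e])
  simp at this

include hM E in
/-- The section is compatible with all edges. -/
theorem mv_sec {v v' : VV} (h : Adj QV v v') : mv σ p v v' (sec σ p v) = sec σ p v' := by
  have hb := pos_base σ (p := p)
  by_cases hv : v = eVec F WW
  · subst hv
    rw [sec_adj σ hM E h, sec, if_pos rfl]
  by_cases hv' : v' = eVec F WW
  · subst hv'
    rw [sec_adj σ hM E h.symm, mv_symm σ hM E h.symm hb, sec, if_pos rfl]
  have h0 : v' ≠ 0 := adj_ne_zero h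
  have h0' : v ≠ 0 := adj_ne_zero h.symm
  by_cases ha : Adj QV (eVec F WW) v
  · by_cases ha' : Adj QV (eVec F WW) v'
    · rw [sec_adj σ hM E ha, sec_adj σ hM E ha']
      rcases edge_near hM ha ha' h with hT | ⟨x, hT, hT', hT2⟩
      · exact mv_tri σ hM E hT hb
      · rw [← mv_tri σ hM E hT.swap23 hb, mv_tri σ hM E hT2.swap23.swap12
          (pos_mv σ hM E hT.adj13 hb), mv_tri σ hM E hT'.swap23 hb]
    · rw [sec_adj σ hM E ha, ← sec_via σ hM E h.2.1 h0 hv' ha' ha h]
  by_cases ha' : Adj QV (eVec F WW) v'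
  · have e := sec_via σ hM E h.1 h0' hv ha ha' h.symm
    rw [e, mv_symm σ hM E h.symm (pos_mv σ hM E ha' hb), sec_adj σ hM E ha']
  have hfar : ∀ {a b : VV}, Adj QV a b → ¬ Adj QV (eVec F WW) b →
      polar QV (eVec F WW) b = 0 → ¬ Adj QV (eVec F WW) a → a ≠ eVec F WW → False := by
    intro a b hab hb' hp ha hne
    have hn : ¬ LinearIndependent F ![eVec F WW, b] := fun hl => hb' ⟨hyp_eVec, hab.2.1, hp, hl⟩
    rw [LinearIndependent.pair_iff] at hn
    simp only [not_forall] at hn
    obtain ⟨r, s, hrs, hne'⟩ := hn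
    have hs : s ≠ 0 := fun h => by
      subst h
      simp [eVec_ne_zero] at hrs
      exact hne' ⟨hrs, rfl⟩
    have hbe : b = (-(r / s)) • eVec F WW := by
      rw [add_comm, add_eq_zero_iff_eq_neg] at hrs
      rw [← inv_smul_smul₀ hs b, hrs, smul_neg, smul_smul, neg_smul, div_eq_inv_mul]
    have hk : -(r / s) ≠ 0 := fun h => adj_ne_zero hab (by rw [hbe, h, zero_smul])
    obtain ⟨h1, h2, h3, h4⟩ := adj_iff.1 hab
    refine ha (adj_iff.2 ⟨hyp_eVec, h1, ?_, fun x y e => ?_⟩)
    · rw [hbe, polar_smul_right, smul_eq_mul, mul_eq_zero] at h3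
      rw [polar_comm]; exact h3.resolve_left hk
    · obtain ⟨e1, e2⟩ := h4 y (x * (-(r / s))⁻¹) (by
        rw [hbe, smul_smul, inv_mul_cancel_right₀ hk, add_comm]; exact e)
      exact ⟨(mul_eq_zero.1 e2).resolve_right (inv_ne_zero hk), e1⟩
  have hp : polar QV (eVec F WW) v ≠ 0 := fun hp => hfar h.symm ha hp ha' hv'
  have hp' : polar QV (eVec F WW) v' ≠ 0 := fun hp' => hfar h ha' hp' ha hv
  obtain ⟨x, hx, hT⟩ := edge_far hM hp h hp'
  rw [sec_via σ hM E h.1 h0' hv ha hx hT.adj12, sec_via σ hM E h.2.1 h0 hv' ha' hx hT.adj13,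
    mv_tri σ hM E hT (pos_mv σ hM E hx hb)]

include hM E in
/-- The section is determined by one value. -/
theorem eq_sec_of {S : VV → Γ ⧸ stab σ p}
    (hS : ∀ a b, Adj QV a b → mv σ p a b (S a) = S b) {v₀ : VV} (hv₀ : QV v₀ = 0) (h0 : v₀ ≠ 0)
    (e : S v₀ = sec σ p v₀) {v : VV} (hv : QV v = 0) (hv0 : v ≠ 0) : S v = sec σ p v := by
  have step : ∀ {a b : VV}, Adj QV a b → S a = sec σ p a → S b = sec σ p b := fun {a b} h ha => by
    rw [← hS a b h, ha, mv_sec σ hM E h]
  have he : S (eVec F WW) = sec σ p (eVec F WW) := by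
    by_cases hne : v₀ = eVec F WW
    · rw [← hne]; exact e
    by_cases h : Adj QV (eVec F WW) v₀
    · exact step h.symm e
    obtain ⟨w, h1, h2⟩ := exists_common hM hv₀ h0 h
    exact step h1.symm (step h2.symm e)
  by_cases hne : v = eVec F WW
  · rw [hne]; exact he
  by_cases h : Adj QV (eVec F WW) v
  · exact step h he
  obtain ⟨w, h1, h2⟩ := exists_common hM hv hv0 h
  exact step h2 (step h1 he)

include hM E in
/-- Generators with `u ⊥ eVec` respect the section. -/
theorem smul_sec {g : Γ} {u z : VV} (hu : QV u = 0) (hz : polar QV u z = 0)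
    (hue : polar QV u (eVec F WW) = 0) (hg : Pel p g) (hσ : (σ g).1 = eich QV u z) {v : VV}
    (hv : QV v = 0) (hv0 : v ≠ 0) : g • sec σ p v = sec σ p (act σ g v) := by
  set t := polar QV z (eVec F WW) with ht
  have hge : act σ g (eVec F WW) = eVec F WW - t • u := by
    rw [act_eq σ hσ, eich_apply hu hz, hue, ← ht]; simp
  have hge1 : QV (act σ g (eVec F WW)) = 0 := by rw [act, map_form, hyp_eVec]
  have hge0 : act σ g (eVec F WW) ≠ 0 := fun e => eVec_ne_zero
    ((σ g).1.1.injective (e.trans (map_zero _).symm))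
  have he : g • sec σ p (eVec F WW) = sec σ p (act σ g (eVec F WW)) := by
    have hse : sec σ p (eVec F WW) = base σ p := by rw [sec, if_pos rfl]
    rw [hse]
    by_cases hfix : act σ g (eVec F WW) = eVec F WW
    · rw [hfix, hse]
      exact smul_eq_self σ hg (by rw [pos_base]; exact hfix)
    have ht0 : t ≠ 0 := fun h => hfix (by rw [hge, h, zero_smul, sub_zero])
    have hadj : Adj QV (eVec F WW) (act σ g (eVec F WW)) := by
      refine adj_iff.2 ⟨hyp_eVec, hge1, ?_, fun x y e => ?_⟩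
      · rw [hge, polar_sub_right, polar_smul_right, polar_comm QV (eVec F WW) u, hue,
          polar_self_eq, hyp_eVec]
        simp
      · rw [hge, smul_sub, ← add_sub_assoc, ← add_smul, sub_eq_zero, smul_smul] at e
        have e' := congrArg (fun w => polar QV z w) e
        simp only [polar_smul_right, smul_eq_mul, ← ht, polar_comm QV z u, hz, mul_zero] at e'
        have hxy : x + y = 0 := (mul_eq_zero.1 e').resolve_right ht0
        rw [hxy, zero_smul, eq_comm, smul_eq_zero] at e
        rcases e with e | e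
        · have hy : y = 0 := (mul_eq_zero.1 e).resolve_right ht0
          exact ⟨by rw [hy, add_zero] at hxy; exact hxy, hy⟩
        · exact absurd (by rw [hge, e, smul_zero, sub_zero]) hfix
    rw [sec_adj σ hM E hadj]
    refine (mv_eq σ hM E hadj (g := g) ⟨(-t)⁻¹ • z, ?_, ?_, hg, ?_⟩ (pos_base σ)).symm
    · rw [hge, show eVec F WW - t • u - eVec F WW = (-t) • u by rw [neg_smul]; abel,
        polar_smul_left, polar_smul_right, hz]
      simp
    · rw [polar_smul_left, smul_eq_mul, ← ht, inv_neg, neg_mul, inv_mul_cancel₀ ht0]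
    · rw [hσ, hge, show eVec F WW - t • u - eVec F WW = (-t) • u by rw [neg_smul]; abel,
        eich_smul_left hu (by rw [polar_smul_right, hz, smul_zero]), smul_smul,
        mul_inv_cancel₀ (neg_ne_zero.2 ht0), one_smul]
  have key := eq_sec_of σ hM E (S := fun w => g • sec σ p (act σ g⁻¹ w)) (fun a b hab => ?_)
    hge1 hge0 (by simp only [act_inv_act]; exact he) (v := act σ g v) (by rw [act, map_form, hv])
    (fun e => hv0 ((σ g).1.1.injective (e.trans (map_zero _).symm)))
  · simpa only [act_inv_act] using key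
  · have h' : Adj QV (act σ g⁻¹ a) (act σ g⁻¹ b) := hab.map (σ g⁻¹).1
    have h0 : act σ g⁻¹ a ≠ 0 := adj_ne_zero h'.symm
    show mv σ p a b (g • sec σ p (act σ g⁻¹ a)) = g • sec σ p (act σ g⁻¹ b)
    rw [← mv_sec σ hM E h', mv_smul σ hM E g h' (pos_sec σ hM E h'.1 h0), act_act_inv, act_act_inv]

include hM E in
/-- **The kernel lies in the lifted stabiliser.** -/
theorem ker_le_stab (hsurj : ∀ c : F, ∃ z, hyp (hyp M) z = c)
    (hgen : Subgroup.closure {g : Γ | Pel p g} = ⊤) : σ.ker ≤ stab σ p := by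
  let H : Subgroup Γ :=
    { carrier := {g | ∀ v : VV, QV v = 0 → v ≠ 0 → g • sec σ p v = sec σ p (act σ g v)}
      one_mem' := fun v _ _ => by rw [one_smul, act_one]
      mul_mem' := fun {a b} ha hb v hv hv0 => by
        rw [mul_smul, hb v hv hv0, ha (act σ b v) (by rw [act, map_form, hv])
          (fun e => hv0 ((σ b).1.1.injective (e.trans (map_zero _).symm))), act_mul]
      inv_mem' := fun {a} ha v hv hv0 => by
        have h := ha (act σ a⁻¹ v) (by rw [act, map_form, hv])
          (fun e => hv0 ((σ a⁻¹).1.1.injective (e.trans (map_zero _).symm)))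
        rw [act_act_inv] at h
        rw [← h, inv_smul_smul] }
  have hgens : ∀ u z : VV, QV u = 0 → polar QV u z = 0 → polar QV u (eVec F WW) = 0 →
      ∃ h ∈ H, σ h = ⟨eich QV u z, eich_mem_eichGroup u z⟩ := fun u z hu hz hue =>
    ⟨lft σ E u z, fun v hv hv0 =>
      smul_sec σ hM E hu hz hue (pel_lft σ E u z) (map_lft σ E u z) hv hv0,
      Subtype.ext (map_lft σ E u z)⟩
  have hHtop : H = ⊤ := by
    refine E.eq_top hgen ?_
    refine eq_top_iff.2 fun x _ => ?_
    have hle : eichGroup QV ≤ (H.map σ).map (eichGroup QV).subtype := by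
      refine eichGroup_hyp_le hM.hyp.hyp.nonsing hsurj (fun z => ?_) (fun z => ?_)
      · obtain ⟨h, hh, e⟩ := hgens (eVec F WW) (inW z) hyp_eVec (polar_eVec_inW z)
          (by rw [polar_self_eq, hyp_eVec, mul_zero])
        exact ⟨σ h, ⟨h, hh, rfl⟩, congrArg Subtype.val e⟩
      · have hz : z ∈ AddSubgroup.closure {v : WW | hyp (hyp M) v = 0} :=
          closure_singular_eq_top (P := hyp M) ▸ AddSubgroup.mem_top z
        have hpf : ∀ w : WW, polar QV (fVec F WW) (inW w) = 0 := fun w => polar_fVec_inW w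
        induction hz using AddSubgroup.closure_induction with
        | mem w hw =>
            have hw' : QV (inW w) = 0 := by rw [hyp_inW]; exact hw
            have hwf : polar QV (inW w) (-fVec F WW) = 0 := by
              rw [polar_neg_right, polar_comm, hpf, neg_zero]
            obtain ⟨h, hh, e⟩ := hgens (inW w) (-fVec F WW) hw' hwf
              (by rw [polar_comm, polar_eVec_inW])
            refine ⟨σ h, ⟨h, hh, rfl⟩, ?_⟩
            rw [eich_flip hyp_fVec hw' (hpf w)]
            exact congrArg Subtype.val e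
        | zero => rw [map_zero, eich_zero]; exact one_mem _
        | add a b _ _ ha hb =>
            rw [map_add, ← eich_mul hyp_fVec (hpf a) (hpf b)]
            exact mul_mem ha hb
        | neg a _ ha =>
            rw [map_neg, ← eich_inv hyp_fVec (hpf a)]
            exact inv_mem ha
    obtain ⟨y, hy, e⟩ := hle x.2
    rwa [← Subtype.ext (a1 := y) (a2 := x) e]
  intro g hg
  have h := (hHtop ▸ Subgroup.mem_top g : g ∈ H) (eVec F WW) hyp_eVec eVec_ne_zero
  have hact : act σ g (eVec F WW) = eVec F WW := by rw [act, MonoidHom.mem_ker.1 hg]; rfl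
  rw [hact, sec, if_pos rfl, base, MulAction.Quotient.smul_mk, smul_eq_mul, mul_one,
    eq_comm, QuotientGroup.eq, inv_one, one_mul] at h
  exact h

end Cfsg.Agent.ClassMult
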