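import Cfsg.Agent.ClassMult.Alt
import Cfsg.Agent.Lib.LinearGroup.Generation
import Cfsg.Agent.Lib.Schur.Perfect

/-!
Central extensions of `(F^m · Alt_m(F)) ⋊ SL_m(F)`, the Siegel parabolic of `O_{2m+1}`, in odd
characteristic: commutators of lifts (helper74).
-/

set_option autoImplicit false

namespace Cfsg.Agent.ClassMult

open Matrix Cfsg.Agent.CharB.PSLMult
open scoped commutatorElement

universe u v v' w

variable {ι : Type w} [Fintype ι] [DecidableEq ι] {F : Type v} [Field F]

/-- The alternating matrix of two vectors. -/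
def oe (x y : ι → F) : altM ι F :=
  ⟨vecMulVec x y - vecMulVec y x, ⟨fun i j => by simp [vecMulVec_apply]; ring,
    fun i => by simp [vecMulVec_apply]; ring⟩⟩

omit [Fintype ι] [DecidableEq ι] in
theorem oe_val (x y : ι → F) (i j : ι) : (oe x y).1 i j = x i * y j - y i * x j := by
  simp [oe, vecMulVec_apply]

omit [Fintype ι] [DecidableEq ι] in
theorem oe_swap (x y : ι → F) : oe y x = -oe x y :=
  Subtype.ext (Matrix.ext fun i j => by
    show (oe y x).1 i j = -((oe x y).1 i j)
    rw [oe_val, oe_val]; ring)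

omit [Fintype ι] [DecidableEq ι] in
theorem oe_add_left (x x' y : ι → F) : oe (x + x') y = oe x y + oe x' y :=
  Subtype.ext (Matrix.ext fun i j => by
    show (oe (x + x') y).1 i j = (oe x y).1 i j + (oe x' y).1 i j
    simp only [oe_val, Pi.add_apply]; ring)

omit [Fintype ι] [DecidableEq ι] in
theorem oe_add_right (x y y' : ι → F) : oe x (y + y') = oe x y + oe x y' :=
  Subtype.ext (Matrix.ext fun i j => by
    show (oe x (y + y')).1 i j = (oe x y).1 i j + (oe x y').1 i j
    simp only [oe_val, Pi.add_apply]; ring)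

omit [Fintype ι] [DecidableEq ι] in
theorem oe_neg_left (x y : ι → F) : oe (-x) y = -oe x y :=
  Subtype.ext (Matrix.ext fun i j => by
    show (oe (-x) y).1 i j = -((oe x y).1 i j)
    simp only [oe_val, Pi.neg_apply]; ring)

omit [Fintype ι] [DecidableEq ι] in
theorem oe_self (x : ι → F) : oe x x = 0 :=
  Subtype.ext (Matrix.ext fun i j => by
    show (oe x x).1 i j = 0
    rw [oe_val]; ring)

omit [Fintype ι] [DecidableEq ι] in
theorem oe_zero_left (y : ι → F) : oe 0 y = 0 :=
  Subtype.ext (Matrix.ext fun i j => by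
    show (oe 0 y).1 i j = 0
    simp [oe_val])

omit [Fintype ι] in
theorem oe_single (i j : ι) (a b : F) : oe (Pi.single i a) (Pi.single j b) = xA i j (a * b) :=
  Subtype.ext (Matrix.ext fun x y => by
    show (oe _ _).1 x y = _
    simp only [oe_val, xA, xm, Matrix.sub_apply, Matrix.single_apply, Pi.single_apply,
      @eq_comm _ i x, @eq_comm _ j y, @eq_comm _ j x, @eq_comm _ i y]
    split_ifs <;> simp_all [mul_comm])

theorem cg_oe (A : SpecialLinearGroup ι F) (x y : ι → F) :
    cg A (oe x y) = oe (A.1 *ᵥ x) (A.1 *ᵥ y) :=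
  Subtype.ext (by
    show A.1 * (vecMulVec x y - vecMulVec y x) * A.1ᵀ = _
    simp [oe, Matrix.mul_sub, Matrix.sub_mul, mul_vecMulVec, vecMulVec_mul, vecMul_transpose])

theorem dg_mulVec_single (p q : ι) {a : F} (ha : a ≠ 0) (i : ι) (c : F) :
    (dg p q ha).1 *ᵥ Pi.single i c = Pi.single i (dvec p q a i * c) := by
  funext k
  show (Matrix.diagonal (dvec p q a) *ᵥ Pi.single i c) k = _
  rw [mulVec_diagonal]
  by_cases h : k = i
  · subst h; simp
  · simp [h]

/-- Induction over the coordinate vectors. -/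
theorem single_induction {P : (ι → F) → Prop} (h0 : P 0) (hadd : ∀ x y, P x → P y → P (x + y))
    (hs : ∀ i c, P (Pi.single i c)) (x : ι → F) : P x := by
  rw [← Finset.univ_sum_single x]
  exact Finset.sum_induction _ P hadd h0 fun i _ => hs i _

variable {G : Type v'} [Group G]

/-- A copy of `(F^m · Alt) ⋊ SL_m` in `G`. -/
structure QDatum (lev : SpecialLinearGroup ι F →* G) (va : (ι → F) → G) (sg : altM ι F → G) :
    Prop where
  two : (2 : F) ≠ 0
  three : 3 ≤ Fintype.card ι
  big : Fintype.card ι = 3 → ∃ μ : F, μ ≠ 0 ∧ μ ^ 2 ≠ 1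
  add : ∀ X Y, sg (X + Y) = sg X * sg Y
  rel : ∀ A X, lev A * sg X * (lev A)⁻¹ = sg (cg A X)
  relv : ∀ A v, lev A * va v * (lev A)⁻¹ = va (A.1 *ᵥ v)
  mulv : ∀ v w, va v * va w = sg (oe w v) * va (v + w)
  commv : ∀ X v, Commute (sg X) (va v)
  inj : ∀ X v A, sg X * va v * lev A = 1 → X = 0 ∧ v = 0 ∧ A = 1
  torus : Fintype.card ι = 3 → ∀ i : ι, ∃ (d : G) (c : F), c ≠ 1 ∧
    (∀ a, d * va (Pi.single i a) * d⁻¹ = va (Pi.single i (c * a))) ∧
    ∀ (p q : ι) (u : F), p ≠ i → q ≠ i → d * sg (xA p q u) * d⁻¹ = sg (xA p q u)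

variable {lev : SpecialLinearGroup ι F →* G} {va : (ι → F) → G} {sg : altM ι F → G}

theorem QDatum.off (D : QDatum lev va sg) (i j : ι) : ∃ k, k ≠ i ∧ k ≠ j := by
  by_contra h
  push Not at h
  have hs : (Finset.univ : Finset ι) ⊆ {i, j} := fun k _ => by
    simp only [Finset.mem_insert, Finset.mem_singleton]
    by_cases h1 : k = i
    · exact Or.inl h1
    · exact Or.inr (h k h1)
  have := (Finset.card_le_card hs).trans Finset.card_le_two
  rw [Finset.card_univ] at this
  have := D.three
  omega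

theorem exists_off3' (h4 : 4 ≤ Fintype.card ι) (i j k : ι) : ∃ m : ι, m ≠ i ∧ m ≠ j ∧ m ≠ k := by
  by_contra h
  push Not at h
  have hs : (Finset.univ : Finset ι) ⊆ {i, j, k} := fun m _ => by
    simp only [Finset.mem_insert, Finset.mem_singleton]
    by_cases h1 : m = i
    · exact Or.inl h1
    by_cases h2 : m = j
    · exact Or.inr (Or.inl h2)
    exact Or.inr (Or.inr (h m h1 h2))
  have := (Finset.card_le_card hs).trans Finset.card_le_three
  rw [Finset.card_univ] at this
  omega

theorem QDatum.sg_zero (D : QDatum lev va sg) : sg 0 = 1 := by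
  have h := D.add 0 0
  rw [add_zero] at h
  exact left_eq_mul.1 h

theorem QDatum.sg_neg (D : QDatum lev va sg) (X : altM ι F) : sg (-X) = (sg X)⁻¹ :=
  eq_inv_of_mul_eq_one_left (by rw [← D.add, neg_add_cancel, D.sg_zero])

theorem QDatum.sg_comm (D : QDatum lev va sg) (X Y : altM ι F) : Commute (sg X) (sg Y) := by
  show sg X * sg Y = sg Y * sg X
  rw [← D.add, ← D.add, add_comm]

theorem QDatum.va_zero (D : QDatum lev va sg) : va 0 = 1 := by
  have h := D.mulv 0 0
  rw [oe_self, D.sg_zero, one_mul, add_zero] at h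
  exact mul_eq_left.1 h

theorem QDatum.va_neg (D : QDatum lev va sg) (v : ι → F) : va (-v) = (va v)⁻¹ := by
  refine eq_inv_of_mul_eq_one_left ?_
  rw [D.mulv, oe_swap (-v) v, oe_neg_left, neg_neg, oe_self, D.sg_zero, one_mul, neg_add_cancel,
    D.va_zero]

theorem QDatum.va_single_add (D : QDatum lev va sg) (i : ι) (a b : F) :
    va (Pi.single i a) * va (Pi.single i b) = va (Pi.single i (a + b)) := by
  rw [D.mulv, oe_single, show xA i i (b * a) = 0 from Subtype.ext (by simp [xA, xm]), D.sg_zero,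
    one_mul, Pi.single_add]

theorem QDatum.va_add (D : QDatum lev va sg) (v w : ι → F) :
    va (v + w) = sg (oe v w) * (va v * va w) := by
  rw [D.mulv, ← mul_assoc, ← D.add, oe_swap v w, add_neg_cancel, D.sg_zero, one_mul]

theorem QDatum.comm_va (D : QDatum lev va sg) (v w : ι → F) :
    ⁅va v, va w⁆ = sg (oe w v + oe w v) := by
  rw [commutatorElement_def, mul_assoc (va v * va w), ← _root_.mul_inv_rev, D.mulv, D.mulv, add_comm w v,
    _root_.mul_inv_rev, mul_assoc, mul_inv_cancel_left, ← D.sg_neg, ← oe_swap, ← D.add]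

/-- The unipotent radical. -/
def qSub (D : QDatum lev va sg) : Subgroup G where
  carrier := {g | ∃ X v, g = sg X * va v}
  one_mem' := ⟨0, 0, by rw [D.sg_zero, D.va_zero, one_mul]⟩
  mul_mem' := by
    rintro _ _ ⟨X, v, rfl⟩ ⟨Y, w, rfl⟩
    refine ⟨X + Y + oe w v, v + w, ?_⟩
    rw [D.add, D.add, mul_assoc (sg X * sg Y), ← D.mulv, mul_assoc (sg X), ← mul_assoc (va v),
      ← (D.commv Y v).eq]
    simp only [mul_assoc]
  inv_mem' := by
    rintro _ ⟨X, v, rfl⟩
    exact ⟨-X, -v, by rw [_root_.mul_inv_rev, ← D.va_neg, ← D.sg_neg, (D.commv (-X) (-v)).eq]⟩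

theorem sg_mem_qSub (D : QDatum lev va sg) (X : altM ι F) : sg X ∈ qSub D :=
  ⟨X, 0, by rw [D.va_zero, mul_one]⟩

theorem va_mem_qSub (D : QDatum lev va sg) (v : ι → F) : va v ∈ qSub D :=
  ⟨0, v, by rw [D.sg_zero, one_mul]⟩

variable {Γ : Type u} [Group Γ] {σ : Γ →* G} (E : CEx σ) (D : QDatum lev va sg)
  (hodd : ∀ z ∈ σ.ker, z * z = 1 → z = 1)

include E in
theorem cm_mem_ker {x y : G} (h : Commute x y) : E.cm x y ∈ σ.ker := by
  rw [MonoidHom.mem_ker, E.map_cm, commutatorElement_eq_one_iff_mul_comm.2 h.eq]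

include D hodd in
theorem cm_single_alt (i : ι) (c : F) (X : altM ι F) :
    E.cm (va (Pi.single i c)) (sg X) = 1 := by
  classical
  letI : LinearOrder ι := LinearOrder.lift' (Fintype.equivFin ι) (Fintype.equivFin ι).injective
  let H : AddSubgroup (altM ι F) :=
    { carrier := {X | ∀ c : F, E.cm (va (Pi.single i c)) (sg X) = 1}
      zero_mem' := fun c => by rw [D.sg_zero, E.cm_one_right]
      add_mem' := fun {A B} hA hB c => by
        rw [D.add, ← E.cm_inv, E.cm_mul_left' (D.commv B _), ← E.cm_inv (va _), ← E.cm_inv (va _),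
          hA, hB, inv_one, one_mul, inv_one]
      neg_mem' := fun {A} hA c => by
        rw [D.sg_neg, E.cm_inv_right (D.commv A _).symm, hA, inv_one] }
  have hm1 : (-1 : F) ≠ 0 := by simp
  refine mem_of_xA_mem (H := H) ?_ X c
  intro p q hpq a c
  have key : ∀ (A : SpecialLinearGroup ι F) (c' : F) (Y : altM ι F),
      A.1 *ᵥ Pi.single i c = Pi.single i c' → cg A (xA p q a) = Y →
      E.cm (va (Pi.single i c')) (sg Y) = E.cm (va (Pi.single i c)) (sg (xA p q a)) := by
    intro A c' Y h1 h2
    have h := E.cm_conj (D.commv (xA p q a) (Pi.single i c)).symm (lev A)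
    rwa [D.relv, D.rel, h1, h2] at h
  have hsq : ∀ z : Γ, z ∈ σ.ker → z = z⁻¹ → z = 1 := fun z hz e => hodd z hz (by
    conv_lhs => arg 1; rw [e]
    exact inv_mul_cancel z)
  by_cases hi : i = p ∨ i = q
  · obtain ⟨j, hij, hs⟩ : ∃ j, i ≠ j ∧ ∃ a', xA p q a = xA i j a' := by
      rcases hi with rfl | rfl
      · exact ⟨q, hpq, a, rfl⟩
      · exact ⟨p, hpq.symm, -a, by rw [xA_swap i p]⟩
    obtain ⟨a', ha'⟩ := hs
    obtain ⟨k, hki, hkj⟩ := D.off i j
    refine hsq _ (cm_mem_ker E (D.commv _ _).symm) ?_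
    conv_lhs => rw [← key (dg j k hm1) c (-xA p q a)
      (by rw [dg_mulVec_single]; simp [dvec, hij, hki.symm])
      (by rw [ha', cg_dg, ← xA_neg]; simp [dvec, hij, hki.symm, hkj.symm])]
    rw [D.sg_neg, E.cm_inv_right (D.commv _ _).symm]
  push Not at hi
  by_cases h4 : 4 ≤ Fintype.card ι
  · obtain ⟨r, hri, hrp, hrq⟩ := exists_off3' h4 i p q
    refine hsq _ (cm_mem_ker E (D.commv _ _).symm) ?_
    conv_lhs => rw [← key (dg i r hm1) (-c) (xA p q a)
      (by rw [dg_mulVec_single]; simp [dvec, hri.symm])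
      (by rw [cg_dg]; simp [dvec, hi.1.symm, hi.2.symm, hrp.symm, hrq.symm])]
    rw [Pi.single_neg, D.va_neg, E.cm_inv_left (D.commv _ _).symm]
  obtain ⟨d, e, he, hd1, hd2⟩ := D.torus (by have := D.three; omega) i
  obtain ⟨c', rfl⟩ : ∃ c', c = (e - 1) * c' :=
    ⟨(e - 1)⁻¹ * c, by rw [mul_inv_cancel_left₀ (sub_ne_zero.2 he)]⟩
  have h := E.cm_conj (D.commv (xA p q a) (Pi.single i c')).symm d
  rw [hd1, hd2 p q a hi.1.symm hi.2.symm, show e * c' = c' + (e - 1) * c' by ring,
    ← D.va_single_add, E.cm_mul_left' (D.commv _ _).symm] at h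
  exact mul_eq_right.1 h

include D hodd in
theorem cm_alt_alt (X Y : altM ι F) : E.cm (sg X) (sg Y) = 1 := by
  classical
  letI : LinearOrder ι := LinearOrder.lift' (Fintype.equivFin ι) (Fintype.equivFin ι).injective
  let H : AddSubgroup (altM ι F) :=
    { carrier := {X | E.cm (sg X) (sg Y) = 1}
      zero_mem' := by
        show E.cm (sg 0) (sg Y) = 1
        rw [D.sg_zero, E.cm_one_left]
      add_mem' := fun {A B} hA hB => by
        show E.cm (sg (A + B)) (sg Y) = 1
        rw [D.add, E.cm_mul_left' (D.sg_comm B Y), hA, hB, one_mul]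
      neg_mem' := fun {A} hA => by
        show E.cm (sg (-A)) (sg Y) = 1
        rw [D.sg_neg, E.cm_inv_left (D.sg_comm A Y), hA, inv_one] }
  refine mem_of_xA_mem (H := H) (fun i j hij u => ?_) X
  show E.cm (sg (xA i j u)) (sg Y) = 1
  have e : sg (xA i j u) = ⁅va (Pi.single j (1 : F)), va (Pi.single i (u / 2))⁆ := by
    rw [D.comm_va, oe_single, ← xA_add]
    congr 2
    have := D.two
    field_simp; ring
  have hc : ∀ k c, Commute (E.s (va (Pi.single k c))) (E.s (sg Y)) := fun k c =>
    E.commute_of_cm (by rw [E.map_s, E.map_s, cm_single_alt E D hodd])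
  rw [e, ← E.map_cm]
  have hbr : Commute (E.cm (va (Pi.single j (1 : F))) (va (Pi.single i (u / 2)))) (E.s (sg Y)) := by
    rw [CEx.cm, commutatorElement_def]
    exact (((hc j 1).mul_left (hc i _)).mul_left (hc j 1).inv_left).mul_left (hc i _).inv_left
  have h := E.cm_eq (E.cm (va (Pi.single j (1 : F))) (va (Pi.single i (u / 2)))) (E.s (sg Y))
  rw [E.map_s, commutatorElement_eq_one_iff_mul_comm.2 hbr.eq] at h
  exact h.symm

include E D hodd in
/-- Elements over the alternating part commute with those over the unipotent radical. -/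
theorem alt_central {a g : Γ} {X : altM ι F} (ha : σ a = sg X) (hg : σ g ∈ qSub D) :
    Commute a g := by
  let C : Subgroup G :=
    { carrier := {g | ∀ Y, E.cm g (sg Y) = 1 ∧ Commute g (sg Y)}
      one_mem' := fun Y => ⟨E.cm_one_left _, Commute.one_left _⟩
      mul_mem' := fun {x y} hx hy Y => ⟨by rw [E.cm_mul_left' (hy Y).2, (hx Y).1, (hy Y).1, one_mul],
        (hx Y).2.mul_left (hy Y).2⟩
      inv_mem' := fun {x} hx Y => ⟨by rw [E.cm_inv_left (hx Y).2, (hx Y).1, inv_one],
        (hx Y).2.inv_left⟩ }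
  have hsg : ∀ Z, sg Z ∈ C := fun Z Y => ⟨cm_alt_alt E D hodd Z Y, D.sg_comm Z Y⟩
  have hva : ∀ v, va v ∈ C := by
    intro v
    induction v using single_induction with
    | h0 => rw [D.va_zero]; exact C.one_mem
    | hadd x y hx hy => rw [D.va_add]; exact C.mul_mem (hsg _) (C.mul_mem hx hy)
    | hs i c => exact fun Y => ⟨cm_single_alt E D hodd i c Y, (D.commv Y _).symm⟩
  obtain ⟨Z, v, e⟩ := hg
  have h : σ g ∈ C := e ▸ C.mul_mem (hsg Z) (hva v)
  exact (E.commute_of_cm (by rw [ha]; exact (h X).1)).symm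

/-- The commutator of the lifts of two vectors. -/
noncomputable def beta (va : (ι → F) → G) (v w : ι → F) : Γ := E.cm (va v) (va w)

include D in
theorem map_beta (v w : ι → F) : σ (beta E va v w) = sg (oe w v + oe w v) := by
  rw [beta, E.map_cm, D.comm_va]

include D in
theorem map_beta_mem (v w : ι → F) : σ (beta E va v w) ∈ qSub D := by
  rw [map_beta E D]; exact sg_mem_qSub D _

include D hodd in
theorem beta_add_left (v v' w : ι → F) :
    beta E va (v + v') w = beta E va v w * beta E va v' w := by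
  set z := E.s (sg (oe v v'))
  set a := E.s (va v)
  set a' := E.s (va v')
  set b := E.s (va w)
  have e : σ (z * (a * a')) = va (v + v') := by
    rw [D.va_add, map_mul, map_mul, E.map_s, E.map_s, E.map_s]
  have hza : Commute z (a * a') := alt_central E D hodd (E.map_s _) (by
    rw [map_mul, E.map_s, E.map_s]; exact mul_mem (va_mem_qSub D _) (va_mem_qSub D _))
  have hzb : Commute z b := alt_central E D hodd (E.map_s _) (by
    rw [E.map_s]; exact va_mem_qSub D _)
  have h := E.cm_eq (z * (a * a')) b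
  rw [e, E.map_s] at h
  show E.cm (va (v + v')) (va w) = ⁅a, b⁆ * ⁅a', b⁆
  rw [← h]
  have h1 : ⁅z * (a * a'), b⁆ = ⁅a * a', b⁆ := by
    calc ⁅z * (a * a'), b⁆ = a * a' * (z * b * z⁻¹) * (a * a')⁻¹ * b⁻¹ := by
          rw [hza.eq, commutatorElement_def]; group
      _ = ⁅a * a', b⁆ := by rw [hzb.eq, mul_inv_cancel_right, commutatorElement_def]
  have h2 : Commute ⁅a', b⁆ a := alt_central E D hodd
    (show σ ⁅a', b⁆ = _ from map_beta E D v' w) (by rw [E.map_s]; exact va_mem_qSub D _)
  have h3 : Commute ⁅a', b⁆ ⁅a, b⁆ := alt_central E D hodd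
    (show σ ⁅a', b⁆ = _ from map_beta E D v' w) (map_beta_mem E D v w)
  rw [h1, ← h3.eq]
  calc ⁅a * a', b⁆ = a * ⁅a', b⁆ * a⁻¹ * ⁅a, b⁆ := by simp only [commutatorElement_def]; group
    _ = ⁅a', b⁆ * ⁅a, b⁆ := by rw [← h2.eq, mul_inv_cancel_right]

theorem beta_inv (v w : ι → F) : (beta E va v w)⁻¹ = beta E va w v := E.cm_inv _ _

include D hodd in
theorem beta_comm (v w v' w' : ι → F) : Commute (beta E va v w) (beta E va v' w') :=
  alt_central E D hodd (map_beta E D v w) (map_beta_mem E D v' w')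

include D hodd in
theorem beta_add_right (v w w' : ι → F) :
    beta E va v (w + w') = beta E va v w * beta E va v w' := by
  rw [← beta_inv, beta_add_left E D hodd, _root_.mul_inv_rev, beta_inv, beta_inv]
  exact (beta_comm E D hodd _ _ _ _).eq

include D hodd in
theorem beta_zero_left (w : ι → F) : beta E va 0 w = 1 := by
  have h := beta_add_left E D hodd 0 0 w
  rw [add_zero] at h
  exact left_eq_mul.1 h

include D hodd in
theorem beta_neg_right (v w : ι → F) : beta E va v (-w) = (beta E va v w)⁻¹ := by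
  have h : beta E va (-w) v = (beta E va w v)⁻¹ := by
    refine eq_inv_of_mul_eq_one_left ?_
    rw [← beta_add_left E D hodd, neg_add_cancel, beta_zero_left E D hodd]
  rw [← beta_inv E (-w), h, inv_inv, beta_inv]

include D hodd in
theorem beta_neg_left (v w : ι → F) : beta E va (-v) w = (beta E va v w)⁻¹ := by
  refine eq_inv_of_mul_eq_one_left ?_
  rw [← beta_add_left E D hodd, neg_add_cancel, beta_zero_left E D hodd]

variable (η : SpecialLinearGroup ι F →* Γ) (hη : ∀ A, σ (η A) = lev A)

include D hη in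
theorem beta_conj (A : SpecialLinearGroup ι F) (v w : ι → F) :
    η A * beta E va v w * (η A)⁻¹ = beta E va (A.1 *ᵥ v) (A.1 *ᵥ w) := by
  rw [beta, E.conj_cm, hη, D.relv, D.relv]; rfl

include D hodd hη in
theorem beta_self_aux {i k : ι} (hki : k ≠ i) (a b t : F) :
    beta E va (Pi.single i a) (Pi.single k (t * b)) *
      beta E va (Pi.single k (t * a)) (Pi.single i b) = 1 ∧
      beta E va (Pi.single k a) (Pi.single k b) = 1 := by
  have hker : ∀ (j : ι) (x y : F), beta E va (Pi.single j x) (Pi.single j y) ∈ σ.ker :=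
    fun j x y => by
      rw [MonoidHom.mem_ker, map_beta E D, oe_single]
      simp [show xA j j (y * x) = 0 from Subtype.ext (by simp [xA, xm]), D.sg_zero]
  have key : ∀ s : F, beta E va (Pi.single i a) (Pi.single k (s * b)) *
      beta E va (Pi.single k (s * a)) (Pi.single i b) *
      beta E va (Pi.single k (s * a)) (Pi.single k (s * b)) = 1 := by
    intro s
    have h := beta_conj E D η hη (T k i s) (Pi.single i a) (Pi.single i b)
    rw [Subgroup.mem_center_iff.1 (E.central (hker i a b)), mul_inv_cancel_right,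
      T_mulVec_single hki, T_mulVec_single hki] at h
    simp only [if_true] at h
    rw [beta_add_left E D hodd, beta_add_right E D hodd, beta_add_right E D hodd, mul_assoc] at h
    rw [mul_assoc]
    exact (left_eq_mul.1 h)
  have hS : ∀ x y : F, beta E va (Pi.single k x) (Pi.single k y) = 1 := by
    intro x y
    refine hodd _ (hker k x y) ?_
    have h : ∀ a b : F, beta E va (Pi.single i a) (Pi.single k b) *
        beta E va (Pi.single k a) (Pi.single i b) *
        beta E va (Pi.single k a) (Pi.single k b) = 1 := by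
      intro a' b'
      have h := beta_conj E D η hη (T k i 1) (Pi.single i a') (Pi.single i b')
      rw [Subgroup.mem_center_iff.1 (E.central (hker i a' b')), mul_inv_cancel_right,
        T_mulVec_single hki, T_mulVec_single hki] at h
      simp only [if_true, one_mul] at h
      rw [beta_add_left E D hodd, beta_add_right E D hodd, beta_add_right E D hodd, mul_assoc] at h
      rw [mul_assoc]
      exact (left_eq_mul.1 h)
    have h' : ∀ a b : F, (beta E va (Pi.single i a) (Pi.single k b))⁻¹ *
        (beta E va (Pi.single k a) (Pi.single i b))⁻¹ *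
        beta E va (Pi.single k a) (Pi.single k b) = 1 := by
      intro a' b'
      have h := beta_conj E D η hη (T k i (-1)) (Pi.single i a') (Pi.single i b')
      rw [Subgroup.mem_center_iff.1 (E.central (hker i a' b')), mul_inv_cancel_right,
        T_mulVec_single hki, T_mulVec_single hki] at h
      simp only [if_true, neg_one_mul, Pi.single_neg] at h
      rw [beta_add_left E D hodd, beta_add_right E D hodd, beta_add_right E D hodd, mul_assoc] at h
      have h2 := left_eq_mul.1 h
      rw [beta_neg_right E D hodd (Pi.single i a'), beta_neg_left E D hodd,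
        beta_neg_left E D hodd, beta_neg_right E D hodd, inv_inv] at h2
      rw [mul_assoc]
      exact h2
    have h1 := h x y
    have h2 := h' x y
    set P := beta E va (Pi.single i x) (Pi.single k y)
    set P' := beta E va (Pi.single k x) (Pi.single i y)
    set S := beta E va (Pi.single k x) (Pi.single k y)
    have c1 : P * P' = S⁻¹ := eq_inv_of_mul_eq_one_left h1
    have c2 : P⁻¹ * P'⁻¹ = S⁻¹ := eq_inv_of_mul_eq_one_left h2
    rw [← _root_.mul_inv_rev, _root_.inv_inj, (beta_comm E D hodd _ _ _ _).eq] at c2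
    rw [c2] at c1
    conv_lhs => arg 1; rw [c1]
    exact inv_mul_cancel S
  have h := key t
  rw [hS, mul_one] at h
  exact ⟨h, hS a b⟩

include D hodd hη in
theorem beta_self (i : ι) (a b : F) : beta E va (Pi.single i a) (Pi.single i b) = 1 := by
  obtain ⟨j, hj, -⟩ := D.off i i
  exact (beta_self_aux E D hodd η hη hj.symm a b 0).2

include D hodd hη in
/-- The commutator is balanced. -/
theorem beta_balance (i k : ι) (a b : F) :
    beta E va (Pi.single i a) (Pi.single k b) = beta E va (Pi.single i 1) (Pi.single k (a * b)) := by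
  rcases eq_or_ne k i with rfl | hki
  · rw [beta_self E D hodd η hη, beta_self E D hodd η hη]
  have h2 := (beta_self_aux E D hodd η hη hki 1 a b).1
  rw [mul_one] at h2
  rw [← beta_inv E (Pi.single k b), mul_comm a b]
  exact (eq_inv_of_mul_eq_one_left h2).symm

end Cfsg.Agent.ClassMult
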