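import Cfsg.Agent.ClassMult.QBase

/-!
The kernel avoids the commutators of the preimage of `(F^m · Alt_m) ⋊ SL_m` (helper74).
-/

set_option autoImplicit false

namespace Cfsg.Agent.ClassMult

open Matrix Cfsg.Agent.CharB.PSLMult
open scoped commutatorElement

universe u v v' w

variable {ι : Type w} [Fintype ι] [DecidableEq ι] {F : Type v} [Field F] {G : Type v'} [Group G]
  {lev : SpecialLinearGroup ι F →* G} {va : (ι → F) → G} {sg : altM ι F → G}
  {Γ : Type u} [Group Γ] {σ : Γ →* G} (E : CEx σ) (D : QDatum lev va sg)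
  (hodd : ∀ z ∈ σ.ker, z * z = 1 → z = 1)
  (η : SpecialLinearGroup ι F →* Γ) (hη : ∀ A, σ (η A) = lev A)

/-- The preimage of the alternating part. -/
def altPre (σ : Γ →* G) (D : QDatum lev va sg) : Subgroup Γ where
  carrier := {g | ∃ X, σ g = sg X}
  one_mem' := ⟨0, by rw [map_one, D.sg_zero]⟩
  mul_mem' := by
    rintro a b ⟨X, hX⟩ ⟨Y, hY⟩
    exact ⟨X + Y, by rw [map_mul, hX, hY, D.add]⟩
  inv_mem' := by
    rintro a ⟨X, hX⟩
    exact ⟨-X, by rw [map_inv, hX, D.sg_neg]⟩

/-- The copy of `(F^m · Alt) ⋊ SL_m`. -/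
def qhSub (D : QDatum lev va sg) : Subgroup G where
  carrier := {g | ∃ X v A, g = sg X * va v * lev A}
  one_mem' := ⟨0, 0, 1, by rw [D.sg_zero, D.va_zero, map_one, one_mul, one_mul]⟩
  mul_mem' := by
    rintro _ _ ⟨X, v, A, rfl⟩ ⟨Y, w, B, rfl⟩
    refine ⟨X + cg A Y + oe (A.1 *ᵥ w) v, v + A.1 *ᵥ w, A * B, ?_⟩
    rw [D.add, D.add, mul_assoc (sg X * sg (cg A Y)), ← D.mulv, ← D.rel, ← D.relv, map_mul]
    have hc := D.commv (cg A Y) v
    rw [← D.rel] at hc
    calc sg X * va v * lev A * (sg Y * va w * lev B)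
        = sg X * (va v * (lev A * sg Y * (lev A)⁻¹)) *
            (lev A * va w * (lev A)⁻¹) * (lev A * lev B) := by group
      _ = _ := by rw [← hc.eq]; group
  inv_mem' := by
    rintro _ ⟨X, v, A, rfl⟩
    refine ⟨cg A⁻¹ (-X), (A⁻¹).1 *ᵥ (-v), A⁻¹, ?_⟩
    rw [← D.rel, ← D.relv, D.sg_neg, D.va_neg, map_inv]
    have hc := ((D.commv X v).inv_inv).eq
    calc (sg X * va v * lev A)⁻¹ = (lev A)⁻¹ * ((va v)⁻¹ * (sg X)⁻¹) := by group
      _ = _ := by rw [← hc]; group

include E D hodd hη in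
/-- The equivariant section on the alternating part. -/
theorem exists_psi : ∃ ψ : altM ι F → Γ,
    (∀ X Y, ψ (X + Y) = ψ X * ψ Y) ∧ (∀ X, σ (ψ X) = sg X) ∧
      (∀ A X, η A * ψ X * (η A)⁻¹ = ψ (cg A X)) ∧
      ∀ v w, ψ (oe w v + oe w v) = beta E va v w := by
  classical
  letI : LinearOrder ι := LinearOrder.lift' (Fintype.equivFin ι) (Fintype.equivFin ι).injective
  letI : CommGroup (altPre σ D) :=
    { (inferInstance : Group (altPre σ D)) with
      mul_comm := fun a b => Subtype.ext (by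
        obtain ⟨X, hX⟩ := a.2
        obtain ⟨Y, hY⟩ := b.2
        exact (alt_central E D hodd hX (show σ b.1 ∈ qSub D by
          rw [hY]; exact sg_mem_qSub D _)).eq) }
  have hbal := beta_balance E D hodd η hη
  let Y : ι → ι → F →+ Additive (altPre σ D) := fun i k =>
    AddMonoidHom.mk' (fun c => Additive.ofMul
      (⟨beta E va (Pi.single i (-(c / 4))) (Pi.single k 1), ⟨_, map_beta E D _ _⟩⟩ : altPre σ D))
      fun c c' => congrArg Additive.ofMul (Subtype.ext (by
        show beta E va _ _ = beta E va _ _ * beta E va _ _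
        rw [show -((c + c') / 4) = -(c / 4) + -(c' / 4) by ring, Pi.single_add,
          beta_add_left E D hodd]))
  let co : ι × ι → altM ι F →+ F := fun p =>
    AddMonoidHom.mk' (fun X => X.1 p.1 p.2) fun X X' => rfl
  let Ψ : altM ι F →+ Additive (altPre σ D) := ∑ p : ι × ι, (Y p.1 p.2).comp (co p)
  let ψ : altM ι F → Γ := fun X => (Additive.toMul (Ψ X) : altPre σ D).1
  have hadd : ∀ X X', ψ (X + X') = ψ X * ψ X' := fun X X' => by simp [ψ, map_add]
  have h0 : ψ 0 = 1 := by simp [ψ]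
  have hbasis : ∀ i k : ι, i ≠ k → ∀ c : F,
      ψ (xA i k c) = beta E va (Pi.single i (-(c / 2))) (Pi.single k 1) := by
    intro i k hik c
    show (Additive.toMul (Ψ (xA i k c)) : altPre σ D).1 = _
    rw [show Ψ (xA i k c) = Y i k c + Y k i (-c) from ?_]
    · show beta E va (Pi.single i (-(c / 4))) (Pi.single k 1) *
        beta E va (Pi.single k (-(-c / 4))) (Pi.single i 1) = _
      rw [hbal k i (-(-c / 4)) 1, mul_one, ← beta_inv E (Pi.single i (-(-c / 4))),
        show (Pi.single i (-(-c / 4)) : ι → F) = -Pi.single i (-(c / 4)) by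
          rw [← Pi.single_neg]; congr 1; ring,
        beta_neg_left E D hodd, inv_inv, ← beta_add_left E D hodd, ← Pi.single_add]
      congr 2
      have := D.two
      have h4 : (4 : F) ≠ 0 := by
        intro h; exact this (mul_self_eq_zero.1 (by linear_combination h))
      field_simp; ring
    · rw [show Ψ (xA i k c) = ∑ p : ι × ι, Y p.1 p.2 ((xA i k c).1 p.1 p.2) by
        show (∑ p, (Y p.1 p.2).comp (co p)) (xA i k c) = _
        rw [AddMonoidHom.finset_sum_apply]; rfl]
      rw [← Finset.sum_subset (Finset.subset_univ ({(i, k), (k, i)} : Finset (ι × ι))) ?_,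
        Finset.sum_pair (fun e => hik (congrArg Prod.fst e))]
      · simp [xA, xm, hik, hik.symm]
      · rintro ⟨x, y⟩ - hxy
        simp only [Finset.mem_insert, Finset.mem_singleton, Prod.mk.injEq, not_or] at hxy
        have e0 : (xA i k c : altM ι F).1 x y = 0 := by
          simp only [xA, xm, Matrix.sub_apply, Matrix.single_apply]
          rw [if_neg (fun e : i = x ∧ k = y => hxy.1 ⟨e.1.symm, e.2.symm⟩),
            if_neg (fun e : k = x ∧ i = y => hxy.2 ⟨e.1.symm, e.2.symm⟩), sub_zero]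
        show Y x y ((xA i k c : altM ι F).1 x y) = 0
        rw [e0, map_zero]
  have hbeta : ∀ v w, ψ (oe w v + oe w v) = beta E va v w := by
    intro v
    induction v using single_induction with
    | h0 =>
      intro w
      rw [show oe w (0 : ι → F) = 0 by rw [oe_swap, oe_zero_left, neg_zero], add_zero, h0,
        beta_zero_left E D hodd]
    | hadd x y hx hy =>
      intro w
      rw [oe_add_right, beta_add_left E D hodd, ← hx, ← hy, ← hadd]
      congr 1; abel
    | hs i a =>
      intro w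
      induction w using single_induction with
      | h0 => rw [oe_zero_left, add_zero, h0, ← beta_inv, beta_zero_left E D hodd, inv_one]
      | hadd x y hx hy =>
        rw [oe_add_left, beta_add_right E D hodd, ← hx, ← hy, ← hadd]
        congr 1; abel
      | hs j b =>
        rw [oe_single, ← xA_add]
        rcases eq_or_ne j i with rfl | hji
        · rw [show xA j j (b * a + b * a) = 0 from Subtype.ext (by simp [xA, xm]), h0,
            beta_self E D hodd η hη]
        · have e : -((b * a + b * a) / 2) = -(a * b) := by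
            have := D.two
            field_simp; ring
          rw [hbasis j i hji, e, Pi.single_neg, beta_neg_left E D hodd, beta_inv, hbal i j a b]
  have hx : ∀ i j : ι, ∀ c : F, xA i j c = oe (Pi.single i (c / 2)) (Pi.single j 1) +
      oe (Pi.single i (c / 2)) (Pi.single j 1) := fun i j c => by
    rw [oe_single, ← xA_add]
    congr 1
    have := D.two
    field_simp; ring
  have hmap : ∀ X, σ (ψ X) = sg X := by
    intro X
    let H : AddSubgroup (altM ι F) :=
      { carrier := {X | σ (ψ X) = sg X}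
        zero_mem' := by
          show σ (ψ 0) = sg 0
          rw [h0, map_one, D.sg_zero]
        add_mem' := fun {A B} hA hB => by
          show σ (ψ (A + B)) = sg (A + B)
          rw [hadd, map_mul, hA, hB, D.add]
        neg_mem' := fun {A} hA => by
          show σ (ψ (-A)) = sg (-A)
          have e1 : σ (ψ (-A)) * σ (ψ A) = sg (-A) * sg A := by
            rw [← map_mul, ← hadd, ← D.add, neg_add_cancel, h0, map_one, D.sg_zero]
          rw [hA] at e1
          exact mul_right_cancel e1 }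
    exact mem_of_xA_mem (H := H) (fun i j _ c => show σ (ψ (xA i j c)) = sg (xA i j c) by
      rw [hx, hbeta, map_beta E D]) X
  refine ⟨ψ, hadd, hmap, fun A X => ?_, hbeta⟩
  let H : AddSubgroup (altM ι F) :=
    { carrier := {X | η A * ψ X * (η A)⁻¹ = ψ (cg A X)}
      zero_mem' := by simp [h0]
      add_mem' := fun {U W} hU hW => by
        show η A * ψ (U + W) * (η A)⁻¹ = ψ (cg A (U + W))
        rw [hadd, map_add, hadd, ← hU, ← hW]; group
      neg_mem' := fun {U} hU => by
        show η A * ψ (-U) * (η A)⁻¹ = ψ (cg A (-U))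
        have hn : ∀ V, ψ (-V) = (ψ V)⁻¹ := fun V => eq_inv_of_mul_eq_one_left (by
          rw [← hadd, neg_add_cancel, h0])
        rw [map_neg, hn, hn, ← hU]; group }
  refine mem_of_xA_mem (H := H) (fun i j _ c => ?_) X
  show η A * ψ (xA i j c) * (η A)⁻¹ = ψ (cg A (xA i j c))
  rw [hx, map_add, cg_oe, hbeta, hbeta, beta_conj E D η hη]

include D hodd in
/-- Two lifts inverted by the same element are equal. -/
theorem inverted_unique (hE : CEx σ) {g a b : Γ} (h : σ a = σ b) (ha : g * a * g⁻¹ = a⁻¹)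
    (hb : g * b * g⁻¹ = b⁻¹) : a = b := by
  obtain ⟨z, hzc, rfl⟩ : ∃ z ∈ σ.ker, a = b * z :=
    ⟨b⁻¹ * a, by rw [MonoidHom.mem_ker, map_mul, map_inv, h, inv_mul_cancel], by group⟩
  have hc := Subgroup.mem_center_iff.1 (hE.central hzc)
  have e : g * (b * z) * g⁻¹ = g * b * g⁻¹ * z := by
    calc g * (b * z) * g⁻¹ = g * b * (z * g⁻¹) := by group
      _ = g * b * g⁻¹ * z := by rw [← hc g⁻¹]; group
  rw [ha, hb, _root_.mul_inv_rev, hc b⁻¹] at e
  have h2 : z * z = 1 := by
    have e' := (mul_right_cancel e).symm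
    nth_rw 1 [e']
    exact inv_mul_cancel z
  rw [hodd z hzc h2, mul_one]

theorem dg_comp (i k l : ι) {a : F} (ha : a ≠ 0) :
    dg i k ha * dg k l ha = (dg i l ha : SpecialLinearGroup ι F) := Subtype.ext (by
  show Matrix.diagonal (dvec i k a) * Matrix.diagonal (dvec k l a) = Matrix.diagonal (dvec i l a)
  rw [diagonal_mul_diagonal]
  congr 1
  funext m
  simp only [dvec]
  split_ifs <;> field_simp)

theorem dg_neg_one_sq (i k : ι) (h : (-1 : F) ≠ 0) :
    dg i k h * dg i k h = (1 : SpecialLinearGroup ι F) := Subtype.ext (by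
  show Matrix.diagonal (dvec i k (-1 : F)) * Matrix.diagonal (dvec i k (-1 : F)) = 1
  rw [diagonal_mul_diagonal, ← diagonal_one]
  congr 1
  funext m
  simp only [dvec]
  split_ifs <;> simp)

theorem dg_neg_one_swap (i k : ι) (h : (-1 : F) ≠ 0) :
    dg k i h = (dg i k h : SpecialLinearGroup ι F) := Subtype.ext (by
  show Matrix.diagonal (dvec k i (-1 : F)) = Matrix.diagonal (dvec i k (-1 : F))
  congr 1
  funext m
  simp only [dvec, inv_neg, inv_one]
  exact mul_comm _ _)

include D in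
theorem map_conj_single (A : SpecialLinearGroup ι F) {a : Γ} {v : ι → F} (ha : σ a = va v)
    (hη : ∀ A, σ (η A) = lev A) : σ (η A * a * (η A)⁻¹) = va (A.1 *ᵥ v) := by
  rw [map_mul, map_mul, map_inv, hη, ha, D.relv]

include E D hη in
/-- Commutators of elements fixing a vector fix its lifts. -/
theorem fix_commutator {A B : SpecialLinearGroup ι F} {v : ι → F} {a : Γ} (ha : σ a = va v)
    (hA : A.1 *ᵥ v = v) (hB : B.1 *ᵥ v = v) : Commute (η ⁅A, B⁆) a := by
  have key : ∀ A : SpecialLinearGroup ι F, A.1 *ᵥ v = v →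
      ∃ z ∈ Subgroup.center Γ, η A * a = a * η A * z := fun A hA => by
    obtain ⟨z, hz, e⟩ := E.exists_central (a := η A * a) (a' := a * η A) (by
      have h := map_conj_single D η A ha hη
      rw [hA, map_mul, map_mul, map_inv, hη, ha, mul_inv_eq_iff_eq_mul] at h
      rw [map_mul, map_mul, hη, ha, h])
    exact ⟨z, hz, e⟩
  obtain ⟨z, hz, e⟩ := key A hA
  obtain ⟨y, hy, e'⟩ := key B hB
  rw [map_commutatorElement]
  show ⁅η A, η B⁆ * a = a * ⁅η A, η B⁆
  have c1 := Subgroup.mem_center_iff.1 hz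
  have c2 := Subgroup.mem_center_iff.1 hy
  have i1 : (η A)⁻¹ * a = a * (η A)⁻¹ * z⁻¹ := by
    rw [inv_mul_eq_iff_eq_mul, eq_comm]
    calc η A * (a * (η A)⁻¹ * z⁻¹) = (η A * a) * (η A)⁻¹ * z⁻¹ := by group
      _ = a * η A * ((η A)⁻¹ * z) * z⁻¹ := by rw [e, c1 (η A)⁻¹]; group
      _ = a := by group
  have i2 : (η B)⁻¹ * a = a * (η B)⁻¹ * y⁻¹ := by
    rw [inv_mul_eq_iff_eq_mul, eq_comm]
    calc η B * (a * (η B)⁻¹ * y⁻¹) = (η B * a) * (η B)⁻¹ * y⁻¹ := by group
      _ = a * η B * ((η B)⁻¹ * y) * y⁻¹ := by rw [e', c2 (η B)⁻¹]; group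
      _ = a := by group
  have cz := fun g : Γ => (c1 g).symm
  calc ⁅η A, η B⁆ * a = η A * η B * (η A)⁻¹ * ((η B)⁻¹ * a) := by
        rw [commutatorElement_def]; group
    _ = η A * η B * ((η A)⁻¹ * a) * (η B)⁻¹ * y⁻¹ := by rw [i2]; group
    _ = η A * (η B * a) * (η A)⁻¹ * (z⁻¹ * ((η B)⁻¹ * y⁻¹)) := by rw [i1]; group
    _ = (η A * a) * η B * (y * (η A)⁻¹) * (z⁻¹ * ((η B)⁻¹ * y⁻¹)) := by rw [e']; group
    _ = a * η A * (z * η B) * ((η A)⁻¹ * y) * (z⁻¹ * ((η B)⁻¹ * y⁻¹)) := by
        rw [e, ← c2 (η A)⁻¹]; group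
    _ = a * η A * η B * (η A)⁻¹ * (z * (y * (z⁻¹ * ((η B)⁻¹ * y⁻¹)))) := by
        rw [cz (η B)]
        simp only [mul_assoc]
        rw [← mul_assoc z, ← mul_assoc z, cz (η A)⁻¹]
        simp only [mul_assoc]
    _ = a * ⁅η A, η B⁆ := by
        rw [← mul_assoc y, (c2 z⁻¹).symm, mul_assoc z⁻¹, mul_inv_cancel_left,
          ← mul_assoc y, (c2 (η B)⁻¹).symm, mul_assoc (η B)⁻¹, mul_inv_cancel, mul_one,
          commutatorElement_def]
        group

include E D hodd hη in
/-- Involutions fixing a vector fix its lifts. -/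
theorem fix_involution {A : SpecialLinearGroup ι F} (hA2 : A * A = 1) {v : ι → F} {a : Γ}
    (ha : σ a = va v) (hA : A.1 *ᵥ v = v) : Commute (η A) a := by
  have hk : a⁻¹ * (η A * a * (η A)⁻¹) ∈ σ.ker := by
    rw [MonoidHom.mem_ker, map_mul, map_inv, map_conj_single D η A ha hη, hA, ha, inv_mul_cancel]
  have hz := Subgroup.mem_center_iff.1 (E.central hk)
  set z := a⁻¹ * (η A * a * (η A)⁻¹) with hzd
  have e : η A * a * (η A)⁻¹ = a * z := by rw [hzd]; group
  have h2 : z * z = 1 := by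
    have h1 : η A * η A = 1 := by rw [← map_mul, hA2, map_one]
    have h3 : a * z * z = a := by
      calc a * z * z = η A * a * (η A)⁻¹ * z := by rw [e]
        _ = η A * (a * z) * (η A)⁻¹ := by rw [mul_assoc _ (η A)⁻¹ z, hz (η A)⁻¹]; group
        _ = η A * η A * a * ((η A)⁻¹ * (η A)⁻¹) := by rw [← e]; group
        _ = a := by rw [h1, one_mul, ← _root_.mul_inv_rev, h1, inv_one, mul_one]
    rw [mul_assoc] at h3
    exact mul_eq_left.1 h3
  rw [hodd z hk h2, mul_one, mul_inv_eq_iff_eq_mul] at e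
  exact e

include D in
/-- A transvection fixing `e_i` is a commutator of elements fixing it. -/
theorem T_eq_commutator {a b i : ι} (hab : a ≠ b) (hbi : b ≠ i) (t : F) :
    ∃ A B : SpecialLinearGroup ι F, T a b t = ⁅A, B⁆ ∧
      (∀ c, A.1 *ᵥ Pi.single i c = Pi.single i c) ∧ ∀ c, B.1 *ᵥ Pi.single i c = Pi.single i c := by
  rcases eq_or_ne a i with rfl | hai
  · obtain ⟨c, hca, hcb⟩ := D.off a b
    refine ⟨T a c t, T c b 1, by rw [T_comm hca.symm hcb hab, mul_one], fun x => ?_, fun x => ?_⟩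
    · rw [T_mulVec_single hca.symm, if_neg hca.symm, add_zero]
    · rw [T_mulVec_single hcb, if_neg hab, add_zero]
  by_cases h4 : 4 ≤ Fintype.card ι
  · obtain ⟨c, hca, hcb, hci⟩ := exists_off3' h4 a b i
    refine ⟨T a c t, T c b 1, by rw [T_comm hca.symm hcb hab, mul_one], fun x => ?_, fun x => ?_⟩
    · rw [T_mulVec_single hca.symm, if_neg hci.symm, add_zero]
    · rw [T_mulVec_single hcb, if_neg hbi.symm, add_zero]
  obtain ⟨μ, hμ0, hμ⟩ := D.big (by have := D.three; omega)
  refine ⟨dg a b hμ0, T a b ((μ ^ 2 - 1)⁻¹ * t), ?_, fun x => ?_, fun x => ?_⟩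
  · rw [commutatorElement_def, dg_conj, ← T_neg, ← T_add]
    congr 1
    simp [dvec, hab, hab.symm]
    have := sub_ne_zero.2 hμ
    field_simp
    ring
  · rw [dg_mulVec_single]; simp [dvec, hai.symm, hbi.symm]
  · rw [T_mulVec_single hab, if_neg hbi.symm, add_zero]

include E D hodd hη in
/-- The lifts of the coordinate vectors inverted by the sign elements. -/
theorem exists_al : ∃ al : ι → F → Γ, (∀ i c, σ (al i c) = va (Pi.single i c)) ∧
    (∀ i c d, al i (c + d) = al i c * al i d) ∧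
    ∀ i k, k ≠ i → ∀ (h : (-1 : F) ≠ 0) c,
      η (dg i k h) * al i c * (η (dg i k h))⁻¹ = (al i c)⁻¹ := by
  classical
  have hm1 : (-1 : F) ≠ 0 := by simp
  let k0 : ι → ι := fun i => (D.off i i).choose
  have hk0 : ∀ i, k0 i ≠ i := fun i => (D.off i i).choose_spec.1
  let al : ι → F → Γ := fun i c => E.cm (lev (dg i (k0 i) hm1)) (va (Pi.single i (-(c / 2))))
  have hmap : ∀ i c, σ (al i c) = va (Pi.single i c) := fun i c => by
    rw [E.map_cm, commutatorElement_def, D.relv, dg_mulVec_single, ← D.va_neg, ← Pi.single_neg,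
      D.va_single_add]
    congr 2
    have := D.two
    simp [dvec, (hk0 i).symm]
    field_simp; ring
  have hinv0 : ∀ i c, η (dg i (k0 i) hm1) * al i c * (η (dg i (k0 i) hm1))⁻¹ = (al i c)⁻¹ := by
    intro i c
    have e : al i c = ⁅η (dg i (k0 i) hm1), E.s (va (Pi.single i (-(c / 2))))⁆ := by
      rw [E.cm_eq, hη, E.map_s]
    have h1 : η (dg i (k0 i) hm1) * η (dg i (k0 i) hm1) = 1 := by
      rw [← map_mul, dg_neg_one_sq, map_one]
    have hr := inv_eq_of_mul_eq_one_left h1
    rw [e, commutatorElement_inv, commutatorElement_def, commutatorElement_def, hr]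
    calc _ = (η (dg i (k0 i) hm1) * η (dg i (k0 i) hm1)) * E.s (va (Pi.single i (-(c / 2)))) *
          η (dg i (k0 i) hm1) * (E.s (va (Pi.single i (-(c / 2)))))⁻¹ * η (dg i (k0 i) hm1) := by
          group
      _ = _ := by rw [h1, one_mul]
  have hinv : ∀ i k, k ≠ i → ∀ (h : (-1 : F) ≠ 0) c,
      η (dg i k h) * al i c * (η (dg i k h))⁻¹ = (al i c)⁻¹ := by
    intro i k hk h c
    rcases eq_or_ne k (k0 i) with rfl | hk'
    · exact hinv0 i c
    rw [← dg_comp i (k0 i) k h, map_mul]
    have hc := fix_involution E D hodd η hη (dg_neg_one_sq (k0 i) k h) (hmap i c)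
      (by rw [dg_mulVec_single]; simp [dvec, (hk0 i).symm, hk.symm])
    calc η (dg i (k0 i) h) * η (dg (k0 i) k h) * al i c *
          (η (dg i (k0 i) h) * η (dg (k0 i) k h))⁻¹
        = η (dg i (k0 i) h) * (η (dg (k0 i) k h) * al i c * (η (dg (k0 i) k h))⁻¹) *
          (η (dg i (k0 i) h))⁻¹ := by group
      _ = (al i c)⁻¹ := by rw [hc.eq, mul_inv_cancel_right]; exact hinv0 i c
  refine ⟨al, hmap, fun i c d => ?_, hinv⟩
  have hcomm : Commute (al i c) (al i d) := E.commute_of_cm (by
    rw [hmap, hmap]; exact beta_self E D hodd η hη i c d)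
  refine inverted_unique D hodd E (by rw [map_mul, hmap, hmap, hmap, D.va_single_add])
    (hinv0 i (c + d)) ?_
  rw [← conj_mul, hinv0, hinv0, _root_.mul_inv_rev, hcomm.inv_inv.eq]

include D hη in
theorem commutator_pre {g h : Γ} {X Y : altM ι F} {v w : ι → F}
    (hodd : ∀ z ∈ σ.ker, z * z = 1 → z = 1) (hg : σ g = sg X * va v) (hh : σ h = sg Y * va w) :
    ⁅g, h⁆ = beta E va v w := by
  have _ := hη
  set x := E.s (sg X)
  set y := E.s (sg Y)
  set a := E.s (va v)
  set b := E.s (va w)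
  have key : ∀ {x a c : Γ} {X : altM ι F}, σ x = sg X → σ a ∈ qSub D → σ c ∈ qSub D →
      ⁅x * a, c⁆ = ⁅a, c⁆ := by
    intro x a c X hx ha hc
    have h1 : Commute x a := alt_central E D hodd hx ha
    have h2 : Commute x c := alt_central E D hodd hx hc
    calc ⁅x * a, c⁆ = a * (x * c * x⁻¹) * a⁻¹ * c⁻¹ := by
          rw [h1.eq, commutatorElement_def]; group
      _ = ⁅a, c⁆ := by rw [h2.eq, mul_inv_cancel_right, commutatorElement_def]
  have ha : σ a ∈ qSub D := by rw [E.map_s]; exact va_mem_qSub D _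
  have hb : σ b ∈ qSub D := by rw [E.map_s]; exact va_mem_qSub D _
  have hyb : σ (y * b) ∈ qSub D := by rw [map_mul, E.map_s, E.map_s]; exact ⟨Y, w, rfl⟩
  rw [E.cm_eq g h, hg, hh, show sg X * va v = σ (x * a) by rw [map_mul, E.map_s, E.map_s],
    show sg Y * va w = σ (y * b) by rw [map_mul, E.map_s, E.map_s], ← E.cm_eq,
    key (E.map_s _) ha hyb, ← commutatorElement_inv, key (E.map_s _) hb ha, commutatorElement_inv]
  rfl

include E D in
/-- **The kernel avoids the commutators.** -/
theorem ker_inf_commutator_q (hodd : ∀ z ∈ σ.ker, z * z = 1 → z = 1)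
    (h1 : Cfsg.HasCyclicSchurMultiplier (SpecialLinearGroup ι F) 1) {H : Subgroup G}
    (hH : ∀ g ∈ H, ∃ X v A, g = sg X * va v * lev A) :
    σ.ker ⊓ ⁅H.comap σ, H.comap σ⁆ = ⊥ := by
  classical
  let ξ : (lev.range.comap σ : Subgroup Γ) →* lev.range :=
    (σ.comp (lev.range.comap σ).subtype).codRestrict lev.range fun g => g.2
  have hξ : Function.Surjective ξ := fun ⟨g, hg⟩ => by
    obtain ⟨x, rfl⟩ := E.surj g
    exact ⟨⟨x, hg⟩, rfl⟩
  have hξc : ξ.ker ≤ Subgroup.center _ := fun x hx => by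
    have hx' : x.1 ∈ σ.ker := congrArg Subtype.val hx
    exact Subgroup.mem_center_iff.2 fun y =>
      Subtype.ext (Subgroup.mem_center_iff.1 (E.central hx') y.1)
  have hperf : Group.IsPerfect (SpecialLinearGroup ι F) :=
    ⟨LinearGroup.commutator_SL_eq_top D.three⟩
  obtain ⟨η₀, hη₀⟩ := Cfsg.Agent.Schur.exists_lift_of_trivial hperf h1 lev.rangeRestrict ξ hξ hξc
  let η : SpecialLinearGroup ι F →* Γ := (lev.range.comap σ).subtype.comp η₀
  have hη : ∀ A, σ (η A) = lev A := fun A => congrArg Subtype.val (DFunLike.congr_fun hη₀ A)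
  obtain ⟨ψ, hadd, hmap, heq, hbeta⟩ := exists_psi E D hodd η hη
  obtain ⟨al, halmap, haladd, halinv⟩ := exists_al E D hodd η hη
  have hψ0 : ψ 0 = 1 := by
    have h := hadd 0 0
    rw [add_zero] at h
    exact left_eq_mul.1 h
  have hψn : ∀ X, ψ (-X) = (ψ X)⁻¹ := fun X => eq_inv_of_mul_eq_one_left (by
    rw [← hadd, neg_add_cancel, hψ0])
  let N : Subgroup Γ := Subgroup.closure (Set.range ψ ∪ Set.range fun p : ι × F => al p.1 p.2)
  have hψN : ∀ X, ψ X ∈ N := fun X => Subgroup.subset_closure (Or.inl ⟨X, rfl⟩)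
  have halN : ∀ i c, al i c ∈ N := fun i c => Subgroup.subset_closure (Or.inr ⟨(i, c), rfl⟩)
  have hNQ : ∀ g ∈ N, σ g ∈ qSub D := by
    intro g hg
    refine (Subgroup.closure_le ((qSub D).comap σ)).2 ?_ hg
    rintro x (⟨X, rfl⟩ | ⟨p, rfl⟩)
    · show σ (ψ X) ∈ qSub D
      rw [hmap]; exact sg_mem_qSub D X
    · show σ (al p.1 p.2) ∈ qSub D
      rw [halmap]; exact va_mem_qSub D _
  have hT : ∀ a b : ι, a ≠ b → ∀ t : F, ∀ n ∈ N, η (T a b t) * n * (η (T a b t))⁻¹ ∈ N := by
    intro a b hab t n hn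
    induction hn using Subgroup.closure_induction with
    | one => simp [one_mem]
    | mul x y _ _ hx hy =>
        have := N.mul_mem hx hy
        rwa [conj_mul] at this
    | inv x _ hx => have := N.inv_mem hx; rwa [← conj_inv]
    | mem x hx =>
      rcases hx with ⟨X, rfl⟩ | ⟨⟨i, c⟩, rfl⟩
      · rw [heq]; exact hψN _
      show η (T a b t) * al i c * (η (T a b t))⁻¹ ∈ N
      by_cases hbi : b = i
      · subst hbi
        have hm1 : (-1 : F) ≠ 0 := by simp
        set v : ι → F := Pi.single b c with hv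
        set w : ι → F := Pi.single a (t * c) with hw
        set r : SpecialLinearGroup ι F := dg b a hm1 with hr
        suffices h : η (T a b t) * al b c * (η (T a b t))⁻¹ =
            ψ (oe v w) * (al b c * al a (t * c)) by
          rw [h]; exact N.mul_mem (hψN _) (N.mul_mem (halN _ _) (halN _ _))
        refine inverted_unique D hodd E ?_ (g := η r) ?_ ?_
        · rw [map_conj_single D η _ (halmap b c) hη, map_mul, map_mul, hmap, halmap, halmap,
            T_mulVec_single hab, if_pos rfl, ← D.va_add]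
        · have hcm : r * T a b t = T a b t * r := by
            have h := dg_conj b a hm1 a b t
            rw [mul_inv_eq_iff_eq_mul] at h
            rw [hr, h]
            congr 2
            simp [dvec, hab, hab.symm]
          have hcm' : η r * η (T a b t) = η (T a b t) * η r := by rw [← map_mul, hcm, map_mul]
          calc η r * (η (T a b t) * al b c * (η (T a b t))⁻¹) * (η r)⁻¹
              = η r * η (T a b t) * al b c * (η r * η (T a b t))⁻¹ := by group
            _ = η (T a b t) * (η r * al b c * (η r)⁻¹) * (η (T a b t))⁻¹ := by rw [hcm']; group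
            _ = (η (T a b t) * al b c * (η (T a b t))⁻¹)⁻¹ := by
                rw [halinv b a hab hm1 c]; group
        · have e1 : cg r (oe v w) = oe v w := by
            rw [cg_oe, hr, hv, hw, dg_mulVec_single, dg_mulVec_single, oe_single, oe_single]
            congr 1
            simp [dvec, hab, hab.symm]
          have ha' : η r * al a (t * c) * (η r)⁻¹ = (al a (t * c))⁻¹ := by
            rw [hr, ← dg_neg_one_swap b a hm1]; exact halinv a b hab.symm hm1 _
          have hbr : ⁅(al b c)⁻¹, (al a (t * c))⁻¹⁆ = ψ (-oe v w + -oe v w) := by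
            rw [E.cm_eq, map_inv, map_inv, halmap, halmap, ← D.va_neg, ← D.va_neg, ← oe_swap, hbeta]
            show beta E va (-v) (-w) = _
            rw [beta_neg_left E D hodd, beta_neg_right E D hodd, inv_inv]
          have hcen : ∀ n, σ n ∈ qSub D → ∀ X, Commute (ψ X) n := fun n hn X =>
            alt_central E D hodd (hmap X) hn
          have hbq : σ ((al b c)⁻¹ * (al a (t * c))⁻¹) ∈ qSub D :=
            hNQ _ (N.mul_mem (N.inv_mem (halN _ _)) (N.inv_mem (halN _ _)))
          calc η r * (ψ (oe v w) * (al b c * al a (t * c))) * (η r)⁻¹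
              = η r * ψ (oe v w) * (η r)⁻¹ * ((η r * al b c * (η r)⁻¹) *
                  (η r * al a (t * c) * (η r)⁻¹)) := by group
            _ = ψ (oe v w) * (⁅(al b c)⁻¹, (al a (t * c))⁻¹⁆ *
                  ((al a (t * c))⁻¹ * (al b c)⁻¹)) := by
                rw [heq, e1, halinv b a hab hm1 c, ha', commutatorElement_def]; group
            _ = (ψ (oe v w) * (al b c * al a (t * c)))⁻¹ := by
                rw [hbr, ← mul_assoc, ← hadd, _root_.mul_inv_rev, _root_.mul_inv_rev, ← hψn]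
                rw [show oe v w + (-oe v w + -oe v w) = -oe v w by abel]
                exact (hcen _ (hNQ _ (N.mul_mem (N.inv_mem (halN _ _)) (N.inv_mem (halN _ _)))) _).eq
      · obtain ⟨A, B, e, hA, hB⟩ := T_eq_commutator D hab hbi t
        rw [e, (fix_commutator E D η hη (halmap i c) (hA c) (hB c)).eq, mul_inv_cancel_right]
        exact halN i c
  have hnorm : ∀ A, η A ∈ Subgroup.normalizer (N : Set Γ) := by
    intro A
    suffices h : (⊤ : Subgroup (SpecialLinearGroup ι F)) ≤
        (Subgroup.normalizer (N : Set Γ)).comap η from h (Subgroup.mem_top A)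
    refine le_of_eq (LinearGroup.eq_top_of_transvection_mem fun a b hab t => ?_).symm
    rw [← T_of_ne hab]
    refine Subgroup.mem_normalizer_iff.2 fun n => ⟨fun hn => hT a b hab t n hn, fun hn => ?_⟩
    have h := hT a b hab (-t) _ hn
    rw [T_neg, map_inv, inv_inv] at h
    have e : (η (T a b t))⁻¹ * (η (T a b t) * n * (η (T a b t))⁻¹) * η (T a b t) = n := by group
    rwa [e] at h
  -- the vector part of an element of the preimage of the radical
  let Qt : Subgroup Γ := (qSub D).comap σ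
  have huniq : ∀ {X Y : altM ι F} {v w : ι → F}, sg X * va v = sg Y * va w → v = w := by
    intro X Y v w e
    have hX : sg (-Y + X) * va v = va w := by
      rw [D.add, mul_assoc, e, ← mul_assoc, ← D.add, neg_add_cancel, D.sg_zero, one_mul]
    have e2 : sg (-Y + X + oe (-w) v) * va (v + -w) = 1 := by
      rw [D.add, mul_assoc, ← D.mulv, ← mul_assoc, hX, D.va_neg, mul_inv_cancel]
    exact sub_eq_zero.1 (by
      rw [sub_eq_add_neg]
      exact (D.inj _ _ 1 (by rw [map_one, mul_one]; exact e2)).2.1)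
  let wv : Qt →* Multiplicative (ι → F) :=
    MonoidHom.mk' (fun g => Multiplicative.ofAdd g.2.choose_spec.choose) fun g h => by
      obtain ⟨X, hX⟩ : ∃ X, σ g.1 = sg X * va g.2.choose_spec.choose :=
        ⟨_, g.2.choose_spec.choose_spec⟩
      obtain ⟨Y, hY⟩ : ∃ Y, σ h.1 = sg Y * va h.2.choose_spec.choose :=
        ⟨_, h.2.choose_spec.choose_spec⟩
      obtain ⟨Z, hZ⟩ : ∃ Z, σ (g * h).1 = sg Z * va (g * h).2.choose_spec.choose :=
        ⟨_, (g * h).2.choose_spec.choose_spec⟩
      rw [← ofAdd_add]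
      congr 1
      generalize g.2.choose_spec.choose = v at hX ⊢
      generalize h.2.choose_spec.choose = w at hY ⊢
      refine huniq (X := Z) (Y := X + Y + oe w v) ?_
      rw [← hZ, Subgroup.coe_mul, map_mul, hX, hY, D.add, D.add, mul_assoc (sg X * sg Y),
        ← D.mulv, mul_assoc (sg X), ← mul_assoc (va v), ← (D.commv Y v).eq]
      simp only [mul_assoc]
  have hwv : ∀ (g : Qt) X v, σ g.1 = sg X * va v → (wv g).toAdd = v := fun g X v e =>
    huniq (X := g.2.choose) (Y := X) (g.2.choose_spec.choose_spec.symm.trans e)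
  let R : Subgroup Qt :=
    { carrier := {g | ∃ X, g.1 = ψ X}
      one_mem' := ⟨0, hψ0.symm⟩
      mul_mem' := by
        rintro g h ⟨X, hX⟩ ⟨Y, hY⟩
        exact ⟨X + Y, by rw [Subgroup.coe_mul, hX, hY, hadd]⟩
      inv_mem' := by
        rintro g ⟨X, hX⟩
        exact ⟨-X, by rw [Subgroup.coe_inv, hX, hψn]⟩ }
  haveI : R.Normal := ⟨by
    rintro n ⟨X, hX⟩ g
    refine ⟨X, ?_⟩
    rw [Subgroup.coe_mul, Subgroup.coe_mul, Subgroup.coe_inv, hX,
      ← (alt_central E D hodd (hmap X) g.2).eq, mul_inv_cancel_right]⟩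
  letI : CommGroup (Qt ⧸ R) :=
    { (inferInstance : Group (Qt ⧸ R)) with
      mul_comm := fun a b => by
        obtain ⟨g, rfl⟩ := QuotientGroup.mk_surjective a
        obtain ⟨h, rfl⟩ := QuotientGroup.mk_surjective b
        obtain ⟨X, v, hg⟩ := g.2
        obtain ⟨Y, w, hh⟩ := h.2
        rw [← QuotientGroup.mk_mul, ← QuotientGroup.mk_mul, QuotientGroup.eq]
        refine ⟨oe (-v) (-w) + oe (-v) (-w), ?_⟩
        rw [hbeta, ← commutator_pre E D η hη hodd (g := (h.1)⁻¹) (h := (g.1)⁻¹) (X := -Y) (Y := -X)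
          (v := -w) (w := -v)]
        · simp only [Subgroup.coe_mul, Subgroup.coe_inv, commutatorElement_def]; group
        · rw [map_inv, hh, _root_.mul_inv_rev, ← D.va_neg, ← D.sg_neg, ← (D.commv (-Y) (-w)).eq]
        · rw [map_inv, hg, _root_.mul_inv_rev, ← D.va_neg, ← D.sg_neg, ← (D.commv (-X) (-v)).eq] }
  have halQ : ∀ i c, al i c ∈ Qt := fun i c => hNQ _ (halN i c)
  let P : ι → F →+ Additive (Qt ⧸ R) := fun i =>
    AddMonoidHom.mk' (fun c => Additive.ofMul (QuotientGroup.mk (s := R) ⟨al i c, halQ i c⟩))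
      fun c d => by
        rw [← ofMul_mul, ← QuotientGroup.mk_mul]
        exact congrArg (fun x : Qt => Additive.ofMul (QuotientGroup.mk (s := R) x))
          (Subtype.ext (haladd i c d))
  let Φ : (ι → F) →+ Additive (Qt ⧸ R) :=
    ∑ i, (P i).comp (Pi.evalAddMonoidHom (fun _ : ι => F) i)
  have hR : R ≤ wv.ker := by
    rintro g ⟨X, hX⟩
    refine Multiplicative.toAdd.injective (hwv g X 0 ?_)
    rw [hX, hmap, D.va_zero, mul_one]
  let wb : Qt ⧸ R →* Multiplicative (ι → F) := QuotientGroup.lift R wv hR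
  have hwΦ : ∀ v, (wb (Additive.toMul (Φ v))).toAdd = v := by
    intro v
    induction v using single_induction with
    | h0 => simp
    | hadd x y hx hy => rw [map_add, toMul_add, map_mul, toAdd_mul, hx, hy]
    | hs i c =>
      have : Φ (Pi.single i c) = P i c := by
        simp only [Φ, AddMonoidHom.finset_sum_apply, AddMonoidHom.comp_apply]
        rw [Finset.sum_eq_single i (fun j _ hj => by simp [hj]) (by simp)]
        simp
      rw [this]
      exact hwv ⟨al i c, halQ i c⟩ 0 (Pi.single i c) (by rw [halmap, D.sg_zero, one_mul])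
  let N' : Subgroup Qt := (AddMonoidHom.range Φ).toSubgroup'.comap (QuotientGroup.mk' R)
  have hNK : ∀ g ∈ N, σ g = 1 → g = 1 := by
    have hN' : ∀ g ∈ N, ∃ h : Qt, h.1 = g ∧ h ∈ N' := by
      intro g hg
      induction hg using Subgroup.closure_induction with
      | one => exact ⟨1, rfl, one_mem _⟩
      | mul x y _ _ hx hy =>
          obtain ⟨a, rfl, ha⟩ := hx
          obtain ⟨b, rfl, hb⟩ := hy
          exact ⟨a * b, rfl, mul_mem ha hb⟩
      | inv x _ hx =>
          obtain ⟨a, rfl, ha⟩ := hx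
          exact ⟨a⁻¹, rfl, inv_mem ha⟩
      | mem x hx =>
          rcases hx with ⟨X, rfl⟩ | ⟨⟨i, c⟩, rfl⟩
          · refine ⟨⟨ψ X, hNQ _ (hψN X)⟩, rfl, ?_⟩
            show Additive.ofMul (QuotientGroup.mk' R (⟨ψ X, hNQ _ (hψN X)⟩ : Qt)) ∈ Φ.range
            refine ⟨0, ?_⟩
            rw [map_zero]
            exact (congrArg Additive.ofMul ((QuotientGroup.eq_one_iff (N := R)
              (⟨ψ X, hNQ _ (hψN X)⟩ : Qt)).2 ⟨X, rfl⟩)).symm
          · refine ⟨⟨al i c, halQ i c⟩, rfl, Pi.single i c, ?_⟩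
            simp only [Φ, AddMonoidHom.finset_sum_apply, AddMonoidHom.comp_apply]
            rw [Finset.sum_eq_single i (fun j _ hj => by simp [hj]) (by simp)]
            simp [P]
            rfl
    intro g hg hg1
    obtain ⟨h, rfl, v, hv⟩ := hN' g hg
    have h0 := hwΦ v
    rw [hv] at h0
    have h1 : (wv h).toAdd = 0 := hwv h 0 0 (by rw [hg1, D.sg_zero, D.va_zero, one_mul])
    have hv0 : v = 0 := h0.symm.trans h1
    subst hv0
    rw [map_zero] at hv
    obtain ⟨X, hX⟩ := (QuotientGroup.eq_one_iff h).1 (congrArg Additive.toMul hv).symm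
    have hX0 : X = 0 := (D.inj X 0 1 (by
      rw [map_one, mul_one, D.va_zero, mul_one, ← hmap, ← hX, hg1])).1
    rw [hX, hX0, hψ0]
  let C : Subgroup Γ :=
    { carrier := {g | ∃ n ∈ N, ∃ A, g = n * η A}
      one_mem' := ⟨1, one_mem _, 1, by rw [map_one, mul_one]⟩
      mul_mem' := by
        rintro _ _ ⟨n, hn, A, rfl⟩ ⟨m, hm, B, rfl⟩
        refine ⟨n * (η A * m * (η A)⁻¹),
          N.mul_mem hn ((Subgroup.mem_normalizer_iff.1 (hnorm A) m).1 hm), A * B, ?_⟩
        rw [map_mul]; group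
      inv_mem' := by
        rintro _ ⟨n, hn, A, rfl⟩
        refine ⟨η A⁻¹ * n⁻¹ * (η A⁻¹)⁻¹,
          (Subgroup.mem_normalizer_iff.1 (hnorm A⁻¹) n⁻¹).1 (N.inv_mem hn), A⁻¹, ?_⟩
        rw [map_inv]; group }
  have hlift : ∀ z ∈ H.comap σ, ∃ c ∈ C, ∃ k ∈ Subgroup.center Γ, z = c * k := by
    intro z hz
    obtain ⟨X, v, A, e⟩ := hH _ hz
    obtain ⟨n, hn, Y, hY⟩ : ∃ n ∈ N, ∃ Y, σ n = sg Y * va v := by
      clear e
      induction v using single_induction with
      | h0 => exact ⟨1, one_mem _, 0, by rw [map_one, D.sg_zero, D.va_zero, one_mul]⟩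
      | hadd x y hx hy =>
          obtain ⟨n, hn, Y, hY⟩ := hx
          obtain ⟨m, hm, Z, hZ⟩ := hy
          refine ⟨n * m, N.mul_mem hn hm, Y + Z + oe y x, ?_⟩
          rw [map_mul, hY, hZ, D.add, D.add, mul_assoc (sg Y * sg Z), ← D.mulv, mul_assoc (sg Y),
            ← mul_assoc (va x), ← (D.commv Z x).eq]
          simp only [mul_assoc]
      | hs i c => exact ⟨al i c, halN i c, 0, by rw [halmap, D.sg_zero, one_mul]⟩
    refine ⟨ψ (X - Y) * n * η A, ⟨_, N.mul_mem (hψN _) hn, A, rfl⟩,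
      (ψ (X - Y) * n * η A)⁻¹ * z, E.central ?_, by group⟩
    rw [MonoidHom.mem_ker, map_mul, map_inv, map_mul, map_mul, hmap, hη, hY, e, ← mul_assoc (sg _),
      ← D.add, sub_add_cancel, inv_mul_cancel]
  have hle : ⁅H.comap σ, H.comap σ⁆ ≤ C := by
    rw [Subgroup.commutator_le]
    intro x hx y hy
    obtain ⟨c, hc, k, hk, rfl⟩ := hlift x hx
    obtain ⟨c', hc', k', hk', rfl⟩ := hlift y hy
    rw [Cfsg.Agent.Schur.commutatorElement_mul_central hk hk', commutatorElement_def]
    exact C.mul_mem (C.mul_mem (C.mul_mem hc hc') (C.inv_mem hc)) (C.inv_mem hc')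
  rw [eq_bot_iff]
  rintro g ⟨hg, hg'⟩
  obtain ⟨n, hn, A, rfl⟩ := hle hg'
  obtain ⟨X, v, e⟩ := hNQ n hn
  obtain ⟨rfl, rfl, rfl⟩ := D.inj X v A (by
    rw [← e, ← hη, ← map_mul]; exact hg)
  rw [map_one, mul_one, Subgroup.mem_bot]
  exact hNK n hn (by rw [e, D.sg_zero, D.va_zero, one_mul])

end Cfsg.Agent.ClassMult
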