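import Cfsg.Agent.ClassMult.RootLift

/-!
Central extensions of orthogonal groups with frames: canonical lifts of the long root elements and their
equivariance (helper74).
-/

set_option autoImplicit false

namespace Cfsg.Agent.ClassMult

open Cfsg.Agent.UnitaryOrthogonal QuadraticMap Cfsg.Agent.CharB.PSLMult
open scoped commutatorElement

universe v w x y

variable {F : Type v} [Field F] {V : Type w} [AddCommGroup V] [Module F V] {Q : QuadraticForm F V}
  {U : Type x} [AddCommGroup U] [Module F U] {M : QuadraticForm F U}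

/-- Independent orthogonal singular vectors. -/
structure Pair (Q : QuadraticForm F V) (u w : V) : Prop where
  hu : Q u = 0
  hw : Q w = 0
  huw : polar Q u w = 0
  hu0 : u ≠ 0
  ind : ∀ c : F, w ≠ c • u

/-- Every pair lies in a frame. -/
structure Sys (Q : QuadraticForm F V) (M : QuadraticForm F U) : Prop where
  nd : PolarND M
  hB : ∀ c : F, ∃ v v', polar M v v' = c
  frames : ∀ u w : V, Pair Q u w → ∃ c : F, Nonempty (Frame Q M u (w + c • u))

variable {u w : V}

theorem Pair.symm (hp : Pair Q u w) : Pair Q w u where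
  hu := hp.hw
  hw := hp.hu
  huw := by rw [polar_comm, hp.huw]
  hu0 h := hp.ind 0 (by rw [h, zero_smul])
  ind c h := by
    by_cases hc : c = 0
    · exact hp.hu0 (by rw [h, hc, zero_smul])
    · exact hp.ind c⁻¹ (by rw [h, inv_smul_smul₀ hc])

theorem Pair.smul (hp : Pair Q u w) {c : F} (hc : c ≠ 0) : Pair Q u (c • w) where
  hu := hp.hu
  hw := by rw [form_smul, hp.hw, mul_zero]
  huw := by simp [hp.huw]
  hu0 := hp.hu0
  ind d h := hp.ind (c⁻¹ * d) (by rw [mul_smul, ← h, inv_smul_smul₀ hc])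

theorem Pair.map (hp : Pair Q u w) (g : orth Q) : Pair Q (g.1 u) (g.1 w) where
  hu := by rw [map_form, hp.hu]
  hw := by rw [map_form, hp.hw]
  huw := by rw [map_polar, hp.huw]
  hu0 h := hp.hu0 (g.1.map_eq_zero_iff.1 h)
  ind c h := hp.ind c (g.1.injective (by rw [h, map_smul]))

theorem Frame.pair {a : V} (f : Frame Q M u a) : Pair Q u a where
  hu := f.hu
  hw := f.ha
  huw := f.hua
  hu0 h := by simpa [h] using f.huu
  ind c h := by simpa [h, f.hua'] using f.haa

theorem Frame.decomp_perp {a : V} (f : Frame Q M u a) {z : V} (hz : polar Q u z = 0) :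
    ∃ p, z = polar Q f.u' z • u + f.ju ((polar Q f.a' z, polar Q a z), p) := by
  obtain ⟨p, hp⟩ := f.span z
  refine ⟨p, ?_⟩
  conv_lhs => rw [hp, hz, zero_smul, add_zero]
  rw [f.ju_apply]
  abel

variable {Γ : Type y} [Group Γ] {σ : Γ →* eichGroup Q} (E : CEx σ) (S : Sys Q M)

include S in
theorem bl_frame {a : V} (f : Frame Q M u a) {z z' : V} (hz : polar Q u z = 0)
    (hz' : polar Q u z' = 0) : bl E u z z' = 1 := by
  obtain ⟨p, ep⟩ := f.decomp_perp hz
  obtain ⟨q, eq⟩ := f.decomp_perp hz'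
  rw [ep, eq, bl, add_comm (_ • u), add_comm (_ • u), ee_add_smul f.hu (f.polar_ju _),
    ee_add_smul f.hu (f.polar_ju _)]
  set P := (((polar Q f.a' z, polar Q a z), p) : (F × F) × ((F × F) × U))
  set P' := (((polar Q f.a' z', polar Q a z'), q) : (F × F) × ((F × F) × U))
  show bl E u (f.ju P) (f.ju P') = 1
  obtain ⟨v, v', e⟩ := exists_polar_hyp (M := M) (polar (hyp (hyp M)) P P')
  rw [bl_balanced E f.ju f.form_ju f.hu f.polar_ju exists_polar_hyp
    (r := ((0, 0), v)) (r' := ((0, 0), v')) (by rw [← e]; simp [polar_hyp]),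
    show f.ju ((0, 0), v) = f.j v by simp [f.ju_apply],
    show f.ju ((0, 0), v') = f.j v' by simp [f.ju_apply]]
  exact bl_kill E f.swap S.hB v v'

include S in
/-- **Lifts at one point commute.** -/
theorem bl_eq_one (hp : Pair Q u w) {z z' : V} (hz : polar Q u z = 0) (hz' : polar Q u z' = 0) :
    bl E u z z' = 1 := by
  obtain ⟨c, ⟨f⟩⟩ := S.frames u w hp
  exact bl_frame E S f hz hz'

include E S in
theorem commute_point (hp : Pair Q u w) {x y : Γ} {z z' : V} (hz : polar Q u z = 0)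
    (hz' : polar Q u z' = 0) (hx : σ x = ee Q u z) (hy : σ y = ee Q u z') : Commute x y :=
  E.commute_of_cm (by rw [hx, hy]; exact bl_eq_one E S hp hz hz')

include S in
theorem pp_shift (hp : Pair Q u w) (c : F) {z t : V} (huz : polar Q u z = 0)
    (hwz : polar Q w z = 0) (hut : polar Q u t = 0) (hwt : polar Q w t = 0) :
    pp E u (w + c • u) z t = pp E u w z t := by
  have _ := hwz
  have hcu : Q (c • u) = 0 := by rw [form_smul, hp.hu, mul_zero]
  have e1 : eich Q (w + c • u) t = eich Q w t * eich Q u (c • t + c • Q t • w) := by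
    rw [eich_add_left hcu hp.hw (by simp [hp.huw]) (by simp [hut]) hwt, mul_assoc,
      eich_smul_left hp.hu hut, eich_smul_left hp.hu (by simp [hp.huw]),
      eich_mul hp.hu (by simp [hut]) (by simp [hp.huw])]
  have h := E.cm_eq (E.s (ee Q u z)) (E.s (ee Q w t) * E.s (ee Q u (c • t + c • Q t • w)))
  rw [map_mul, E.map_s, E.map_s, E.map_s,
    show ee Q w t * ee Q u (c • t + c • Q t • w) = ee Q (w + c • u) t from Subtype.ext e1.symm] at h
  show E.cm _ _ = _
  rw [← h]
  have hd : Commute (E.s (ee Q u z)) (E.s (ee Q u (c • t + c • Q t • w))) :=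
    commute_point E S hp huz (by simp [polar_add_right, hut, hp.huw]) (E.map_s _) (E.map_s _)
  calc _ = ⁅E.s (ee Q u z), E.s (ee Q w t)⁆ * (E.s (ee Q w t) *
        ⁅E.s (ee Q u z), E.s (ee Q u (c • t + c • Q t • w))⁆ * (E.s (ee Q w t))⁻¹) := by
          simp only [commutatorElement_def]; group
    _ = pp E u w z t := by
          rw [commutatorElement_eq_one_iff_mul_comm.2 hd.eq, mul_one, mul_inv_cancel, mul_one]
          rfl

include S in
theorem pp_frame {a : V} (f : Frame Q M u a) {z t : V} (huz : polar Q u z = 0)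
    (haz : polar Q a z = 0) (hut : polar Q u t = 0) (hat : polar Q a t = 0) :
    ∃ p q, pp E u a z t = pp E u a (f.j p) (f.j q) ∧ polar (hyp M) p q = polar Q z t := by
  obtain ⟨p, ep⟩ := f.span z
  obtain ⟨q, eq⟩ := f.span t
  rw [huz, haz, zero_smul, zero_smul, add_zero, add_zero] at ep
  rw [hut, hat, zero_smul, zero_smul, add_zero, add_zero] at eq
  have hau : polar Q a u = 0 := by rw [polar_comm, f.hua]
  refine ⟨p, q, ?_, ?_⟩
  · have e1 : ee Q u z = ee Q u (polar Q f.a' z • a) * ee Q u (f.j p) := by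
      rw [ee_mul f.hu (by simp [f.hua]) (f.hju p),
        ← ee_add_smul f.hu (z := polar Q f.a' z • a + f.j p)
          (by simp [polar_add_right, f.hua, f.hju]) (polar Q f.u' z)]
      congr 1
      conv_lhs => rw [ep]
      abel
    have e2 : ee Q a t = ee Q a (polar Q f.u' t • u) * ee Q a (f.j q) := by
      rw [ee_mul f.ha (by simp [hau]) (f.hja q),
        ← ee_add_smul f.ha (z := polar Q f.u' t • u + f.j q)
          (by simp [polar_add_right, hau, f.hja]) (polar Q f.a' t)]
      congr 1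
      conv_lhs => rw [eq]
      abel
    set X := E.s (ee Q u (polar Q f.a' z • a)) with hX
    set A := E.s (ee Q u (f.j p)) with hA
    set Y := E.s (ee Q a (polar Q f.u' t • u)) with hY
    set B := E.s (ee Q a (f.j q)) with hB
    have hsX : σ X = ee Q u (polar Q f.a' z • a) := E.map_s _
    have hsY : σ Y = ee Q a (polar Q f.u' t • u) := E.map_s _
    have hY' : σ Y = ee Q u ((-polar Q f.u' t) • a) := by
      rw [hsY, ee_swap_smul f.hu f.ha f.hua]
    have hXY : Commute X Y := rho_comm E f hsX (Or.inr ⟨_, hY'⟩)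
    have hXB : Commute X B := rho_comm E f hsX (Or.inl ⟨q, Or.inr (E.map_s _)⟩)
    have hAY : Commute A Y := (rho_comm E f hY' (Or.inl ⟨p, Or.inl (E.map_s _)⟩)).symm
    have hP : Commute Y ⁅A, B⁆ :=
      rho_comm E f hY' (Or.inr ⟨_, by rw [hA, hB]; exact map_pp_j E f p q⟩)
    have hP' : Commute X ⁅A, B⁆ :=
      rho_comm E f hsX (Or.inr ⟨_, by rw [hA, hB]; exact map_pp_j E f p q⟩)
    have h := E.cm_eq (X * A) (Y * B)
    rw [map_mul, map_mul, hsX, hsY, hA, hB, E.map_s, E.map_s, ← e1, ← e2] at h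
    show E.cm (ee Q u z) (ee Q a t) = ⁅A, B⁆
    rw [← h]
    calc ⁅X * A, Y * B⁆ = X * ⁅A, Y * B⁆ * X⁻¹ * ⁅X, Y * B⁆ := by
          simp only [commutatorElement_def]; group
      _ = ⁅A, B⁆ := by
          rw [commutatorElement_eq_one_iff_mul_comm.2 (hXY.mul_right hXB).eq, mul_one,
            show ⁅A, Y * B⁆ = ⁅A, Y⁆ * (Y * ⁅A, B⁆ * Y⁻¹) by
              simp only [commutatorElement_def]; group,
            commutatorElement_eq_one_iff_mul_comm.2 hAY.eq, one_mul, hP.eq, mul_inv_cancel_right,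
            hP'.eq, mul_inv_cancel_right]
  · rw [← f.polar_j]
    conv_rhs => rw [ep, eq]
    simp [polar_add_left, polar_add_right, polar_smul_left, polar_smul_right, polar_self_eq, f.hu,
      f.ha, f.hua, hau, f.hju, f.hja, polar_comm Q (f.j p) u, polar_comm Q (f.j p) a]

include S in
/-- **The commutators at a pair depend only on the product.** -/
theorem pp_pair (hp : Pair Q u w) {z t z' t' : V} (huz : polar Q u z = 0) (hwz : polar Q w z = 0)
    (hut : polar Q u t = 0) (hwt : polar Q w t = 0) (huz' : polar Q u z' = 0)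
    (hwz' : polar Q w z' = 0) (hut' : polar Q u t' = 0) (hwt' : polar Q w t' = 0)
    (heq : polar Q z t = polar Q z' t') : pp E u w z t = pp E u w z' t' := by
  obtain ⟨c, ⟨f⟩⟩ := S.frames u w hp
  have h0 : ∀ s, polar Q u s = 0 → polar Q w s = 0 → polar Q (w + c • u) s = 0 := fun s h1 h2 => by
    simp [polar_add_left, polar_smul_left, h1, h2]
  rw [← pp_shift E S hp c huz hwz hut hwt, ← pp_shift E S hp c huz' hwz' hut' hwt']
  obtain ⟨p, q, e1, e2⟩ := pp_frame E S f huz (h0 z huz hwz) hut (h0 t hut hwt)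
  obtain ⟨p', q', e1', e2'⟩ := pp_frame E S f huz' (h0 z' huz' hwz') hut' (h0 t' hut' hwt')
  rw [e1, e1']
  exact pp_balanced E f S.hB (by rw [e2, e2', heq])

/-- Auxiliary vectors for a pair. -/
def Aux (Q : QuadraticForm F V) (u w z t : V) : Prop :=
  polar Q u z = 0 ∧ polar Q w z = 0 ∧ polar Q u t = 0 ∧ polar Q w t = 0 ∧ polar Q z t = 1

theorem Aux.map {z t : V} (h : Aux Q u w z t) (g : orth Q) :
    Aux Q (g.1 u) (g.1 w) (g.1 z) (g.1 t) := by
  simpa [Aux] using h

include S in
theorem exists_aux (hp : Pair Q u w) : ∃ z t, Aux Q u w z t := by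
  obtain ⟨c, ⟨f⟩⟩ := S.frames u w hp
  have h0 : ∀ s, polar Q w (f.j s) = 0 := fun s => by
    have := f.hja s
    simpa [polar_add_left, polar_smul_left, f.hju] using this
  exact ⟨f.j ((1, 0), 0), f.j ((0, 1), 0), f.hju _, h0 _, f.hju _, h0 _,
    by simp [f.polar_j, polar_hyp]⟩

open scoped Classical in
/-- The canonical lift of a long root element. -/
noncomputable def rl (u w : V) : Γ :=
  if h : ∃ z t, Aux Q u w z t then pp E u w h.choose h.choose_spec.choose else 1

include S in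
theorem rl_eq (hp : Pair Q u w) {z t : V} (h : Aux Q u w z t) : rl E u w = pp E u w z t := by
  have he : ∃ z t, Aux Q u w z t := ⟨z, t, h⟩
  rw [rl, dif_pos he]
  obtain ⟨a1, a2, a3, a4, a5⟩ := he.choose_spec.choose_spec
  obtain ⟨b1, b2, b3, b4, b5⟩ := h
  exact pp_pair E S hp a1 a2 a3 a4 b1 b2 b3 b4 (a5.trans b5.symm)

include S in
theorem map_rl (hp : Pair Q u w) : σ (rl E u w) = ee Q u w := by
  obtain ⟨z, t, h⟩ := exists_aux S hp
  rw [rl_eq E S hp h, pp, E.map_cm]
  refine Subtype.ext ((comm_eich hp.hu hp.hw hp.huw h.1 h.2.1 h.2.2.1 h.2.2.2.1).trans ?_)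
  rw [h.2.2.2.2, one_smul]
  rfl

include S in
/-- **Equivariance.** -/
theorem rl_conj (hp : Pair Q u w) (g : Γ) :
    g * rl E u w * g⁻¹ = rl E ((σ g).1.1 u) ((σ g).1.1 w) := by
  obtain ⟨z, t, h⟩ := exists_aux S hp
  rw [rl_eq E S hp h, rl_eq E S (hp.map (σ g).1) (h.map (σ g).1), pp, E.conj_cm, ee_conj, ee_conj]
  rfl

include S in
theorem rl_shift (hp : Pair Q u w) (c : F) (hp' : Pair Q u (w + c • u)) :
    rl E u (w + c • u) = rl E u w := by
  obtain ⟨z, t, h⟩ := exists_aux S hp
  have h' : Aux Q u (w + c • u) z t := by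
    obtain ⟨h1, h2, h3, h4, h5⟩ := h
    exact ⟨h1, by simp [polar_add_left, polar_smul_left, h1, h2], h3,
      by simp [polar_add_left, polar_smul_left, h3, h4], h5⟩
  rw [rl_eq E S hp h, rl_eq E S hp' h']
  exact pp_shift E S hp c h.1 h.2.1 h.2.2.1 h.2.2.2.1

include S in
theorem rl_smul (hp : Pair Q u w) {c : F} (hc : c ≠ 0) {z t : V} (huz : polar Q u z = 0)
    (hwz : polar Q w z = 0) (hut : polar Q u t = 0) (hwt : polar Q w t = 0)
    (hzt : polar Q z t = c) : rl E u (c • w) = pp E u w z t := by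
  have h : Aux Q u (c • w) z (c⁻¹ • t) := ⟨huz, by simp [hwz], by simp [hut], by simp [hwt],
    by rw [polar_smul_right, hzt, smul_eq_mul, inv_mul_cancel₀ hc]⟩
  rw [rl_eq E S (hp.smul hc) h, pp, pp]
  congr 1
  refine Subtype.ext ?_
  show eich Q (c • w) (c⁻¹ • t) = eich Q w t
  rw [eich_smul_left hp.hw (by simp [hwt]), smul_inv_smul₀ hc]

include S in
/-- Additivity at orthogonal vectors. -/
theorem rl_add {a b z t : V} (ha : Pair Q u a) (hb : Pair Q u b) (hab : Pair Q a b)
    (hs : Pair Q u (b + a)) (huz : polar Q u z = 0) (haz : polar Q a z = 0)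
    (hbz : polar Q b z = 0) (hut : polar Q u t = 0) (hat : polar Q a t = 0)
    (hbt : polar Q b t = 0) (hzt : polar Q z t = 1) :
    rl E u (b + a) = rl E u b * rl E u a := by
  rw [rl_eq E S hs (z := z) (t := t) ⟨huz, by simp [polar_add_left, hbz, haz], hut,
      by simp [polar_add_left, hbt, hat], hzt⟩,
    rl_eq E S ha ⟨huz, haz, hut, hat, hzt⟩, rl_eq E S hb ⟨huz, hbz, hut, hbt, hzt⟩]
  set A := E.s (ee Q u z) with hA
  set B := E.s (ee Q b t) with hB
  set C := E.s (ee Q a t) with hC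
  set D := E.s (ee Q a (Q t • b)) with hD
  have h := E.cm_eq A (B * C * D)
  rw [map_mul, map_mul, hA, hB, hC, hD, E.map_s, E.map_s, E.map_s, E.map_s,
    show ee Q b t * ee Q a t * ee Q a (Q t • b) = ee Q (b + a) t from
      Subtype.ext (eich_add_left ha.hw hb.hw hab.huw hat hbt).symm] at h
  show E.cm (ee Q u z) (ee Q (b + a) t) = ⁅A, B⁆ * ⁅A, C⁆
  rw [← h]
  have hR : rl E u a = ⁅A, C⁆ := rl_eq E S ha ⟨huz, haz, hut, hat, hzt⟩
  have hBR : Commute B ⁅A, C⁆ := by
    show B * ⁅A, C⁆ = ⁅A, C⁆ * B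
    rw [← mul_inv_eq_iff_eq_mul, ← hR, rl_conj E S ha, hB, E.map_s]
    congr 1
    · exact eich_fix hb.hw hbt (by rw [polar_comm, hb.huw]) (by rw [polar_comm, hut])
    · exact eich_fix hb.hw hbt (by rw [polar_comm, hab.huw]) (by rw [polar_comm, hat])
  have hAD : Commute A D := by
    by_cases hq : Q t = 0
    · obtain ⟨k, hk, ek⟩ := E.exists_central (a := D) (a' := 1) (by
        rw [hD, E.map_s, hq, zero_smul, ee_zero, map_one])
      rw [ek, one_mul]
      exact Subgroup.mem_center_iff.1 hk A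
    have hp' : Pair Q a (Q t • b) := hab.smul hq
    obtain ⟨k, hk, ek⟩ := E.exists_central (a := D) (a' := rl E a (Q t • b)) (by
      rw [hD, E.map_s, map_rl E S hp'])
    rw [ek]
    refine Commute.mul_right ?_ (Subgroup.mem_center_iff.1 hk A)
    show A * rl E a (Q t • b) = rl E a (Q t • b) * A
    rw [← mul_inv_eq_iff_eq_mul, rl_conj E S hp', hA, E.map_s]
    congr 1
    · exact eich_fix ha.hu huz ha.huw (by rw [polar_comm, haz])
    · exact eich_fix ha.hu huz (by simp [hb.huw]) (by simp [polar_comm Q z b, hbz])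
  calc ⁅A, B * C * D⁆ = ⁅A, B⁆ * (B * ⁅A, C⁆ * B⁻¹) * (B * C * ⁅A, D⁆ * C⁻¹ * B⁻¹) := by
        simp only [commutatorElement_def]; group
    _ = ⁅A, B⁆ * ⁅A, C⁆ := by
        rw [commutatorElement_eq_one_iff_mul_comm.2 hAD.eq, hBR.eq, mul_inv_cancel_right]
        group

end Cfsg.Agent.ClassMult
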