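import Cfsg.Agent.Lib.UnitaryOrthogonal.Eichler

/-!
Identities between Eichler transformations at orthogonal singular vectors, and biadditive maps on
`H ⊥ M` invariant under the transformations at the plane (helper74).
-/

set_option autoImplicit false

namespace Cfsg.Agent.ClassMult

open Cfsg.Agent.UnitaryOrthogonal QuadraticMap
open scoped commutatorElement

universe v w x

variable {F : Type v} [Field F] {V : Type w} [AddCommGroup V] [Module F V] {Q : QuadraticForm F V}

theorem eich_swap {u a : V} (hu : Q u = 0) (ha : Q a = 0) (h : polar Q u a = 0) :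
    eich Q a u = eich Q u (-a) := by
  refine orth_ext fun x => ?_
  rw [eich_apply ha (by rw [polar_comm, h]), eich_apply hu (by simp [h])]
  simp [hu, ha]
  abel

theorem eich_swap_smul {u a : V} (hu : Q u = 0) (ha : Q a = 0) (h : polar Q u a = 0) (c : F) :
    eich Q a (c • u) = eich Q u (-c • a) := by
  rw [← eich_smul_left ha (by rw [polar_comm, h]), eich_swap hu (by simp [form_smul, ha])
    (by simp [h]), neg_smul]

theorem eich_fix {u z x : V} (hu : Q u = 0) (hz : polar Q u z = 0) (h1 : polar Q u x = 0)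
    (h2 : polar Q z x = 0) : (eich Q u z).1 x = x := by
  rw [eich_apply hu hz, h1, h2]
  simp

/-- The transformation at a sum of orthogonal singular vectors. -/
theorem eich_add_left {u a x : V} (hu : Q u = 0) (ha : Q a = 0) (h : polar Q u a = 0)
    (hux : polar Q u x = 0) (hax : polar Q a x = 0) :
    eich Q (a + u) x = eich Q a x * eich Q u x * eich Q u (Q x • a) := by
  have hau : polar Q a u = 0 := by rw [polar_comm, h]
  refine orth_ext fun y => ?_
  rw [coe_mul_apply, coe_mul_apply, eich_apply hu (z := Q x • a) (by simp [h]), eich_apply hu hux,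
    eich_apply ha hax, eich_apply (by simp [form_add, hu, ha, hau])
      (by simp [polar_add_left, hux, hax])]
  simp only [map_add, map_sub, polar_add_left, polar_add_right, polar_sub_right, polar_smul_left,
    polar_smul_right, polar_self_eq, form_smul, hu, ha, h, hau, hux, hax, polar_comm Q x u,
    polar_comm Q x a, smul_eq_mul]
  module

/-- The commutator of transformations at orthogonal singular vectors. -/
theorem comm_eich {u a z x : V} (hu : Q u = 0) (ha : Q a = 0) (h : polar Q u a = 0)
    (huz : polar Q u z = 0) (haz : polar Q a z = 0) (hux : polar Q u x = 0)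
    (hax : polar Q a x = 0) :
    ⁅eich Q u z, eich Q a x⁆ = eich Q u (polar Q z x • a) := by
  have e1 : (eich Q u z).1 a = a := eich_fix hu huz h (by rw [polar_comm, haz])
  have e2 : (eich Q u z).1 x = x + -polar Q z x • u := by
    rw [eich_apply hu huz, hux]; simp [sub_eq_add_neg]
  have hau : polar Q a u = 0 := by rw [polar_comm, h]
  rw [commutatorElement_def, conj_eich, e1, e2, eich_inv ha hax,
    eich_mul ha (by simp [polar_add_right, hax, hau]) (by simp [hax])]
  rw [show x + -polar Q z x • u + -x = (-polar Q z x) • u by abel, eich_swap_smul hu ha h, neg_neg]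

/-! ### Biadditive maps on `H ⊥ M` -/

variable {U : Type x} [AddCommGroup U] [Module F U] (M : QuadraticForm F U)

/-- The transformation at `e` in coordinates. -/
def tE (v : U) (p : (F × F) × U) : (F × F) × U :=
  ((p.1.1 - polar M v p.2 - M v * p.1.2, p.1.2), p.2 + p.1.2 • v)

/-- The transformation at `f` in coordinates. -/
def tF (v : U) (p : (F × F) × U) : (F × F) × U :=
  ((p.1.1, p.1.2 - polar M v p.2 - M v * p.1.1), p.2 + p.1.1 • v)

variable {M} {Γ : Type*} [Group Γ]

/-- Multiplicativity in both variables. -/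
structure BiMul {X : Type*} [AddCommGroup X] (P : X → X → Γ) : Prop where
  left : ∀ x y z, P (x + y) z = P x z * P y z
  right : ∀ x y z, P x (y + z) = P x y * P x z

variable {X : Type*} [AddCommGroup X] {P : X → X → Γ}

theorem BiMul.zero_left (h : BiMul P) (z : X) : P 0 z = 1 := by
  have e := h.left 0 0 z
  rw [add_zero] at e
  exact left_eq_mul.1 e

theorem BiMul.zero_right (h : BiMul P) (z : X) : P z 0 = 1 := by
  have e := h.right z 0 0
  rw [add_zero] at e
  exact left_eq_mul.1 e

theorem BiMul.neg_left (h : BiMul P) (x z : X) : P (-x) z = (P x z)⁻¹ :=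
  eq_inv_of_mul_eq_one_left (by rw [← h.left, neg_add_cancel, h.zero_left])

theorem BiMul.neg_right (h : BiMul P) (x z : X) : P x (-z) = (P x z)⁻¹ :=
  eq_inv_of_mul_eq_one_left (by rw [← h.right, neg_add_cancel, h.zero_right])

theorem BiMul.flip {P : X → X → Γ} (h : BiMul P) {Y : Type*} [AddCommGroup Y] (f : Y →+ X) :
    BiMul fun x y => P (f x) (f y) :=
  ⟨fun x y z => by simp [h.left], fun x y z => by simp [h.right]⟩

/-- **Balanced maps.** A biadditive map invariant under the transformations at `e` and `f` depends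
only on the product. -/
theorem balanced {P : (F × F) × U → (F × F) × U → Γ} (h : BiMul P)
    (hB : ∀ c : F, ∃ v v', polar M v v' = c)
    (hE : ∀ v p p', P (tE M v p) (tE M v p') = P p p')
    (hF : ∀ v p p', P (tF M v p) (tF M v p') = P p p') {p p' r r' : (F × F) × U}
    (heq : polar (hyp M) p p' = polar (hyp M) r r') : P p p' = P r r' := by
  let Ec : F → (F × F) × U := fun c => ((c, 0), 0)
  let Fc : F → (F × F) × U := fun c => ((0, c), 0)
  let Uc : U → (F × F) × U := fun v => ((0, 0), v)
  have hee : ∀ c d, P (Ec c) (Ec d) = 1 := by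
    intro c d
    obtain ⟨v, v', e⟩ := hB d
    have e1 := hE v (Ec c) (Uc v')
    rw [show tE M v (Ec c) = Ec c by simp [tE, Ec],
      show tE M v (Uc v') = Uc v' + Ec (-d) by simp [tE, Ec, Uc, e],
      h.right, mul_eq_left, show Ec (-d) = -Ec d by simp [Ec], h.neg_right, inv_eq_one] at e1
    exact e1
  have hff : ∀ c d, P (Fc c) (Fc d) = 1 := by
    intro c d
    obtain ⟨v, v', e⟩ := hB d
    have e1 := hF v (Fc c) (Uc v')
    rw [show tF M v (Fc c) = Fc c by simp [tF, Fc],
      show tF M v (Uc v') = Uc v' + Fc (-d) by simp [tF, Fc, Uc, e],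
      h.right, mul_eq_left, show Fc (-d) = -Fc d by simp [Fc], h.neg_right, inv_eq_one] at e1
    exact e1
  have hEsh : ∀ v, tE M v (Fc 1) = Fc 1 + Uc v + Ec (-M v) := fun v => by
    simp [tE, Ec, Fc, Uc]
  have hFsh : ∀ v, tF M v (Ec 1) = Ec 1 + Uc v + Fc (-M v) := fun v => by
    simp [tF, Ec, Fc, Uc]
  have heu : ∀ c v, P (Ec c) (Uc v) = 1 := by
    intro c v
    have e1 := hE v (Ec c) (Fc 1)
    rw [show tE M v (Ec c) = Ec c by simp [tE, Ec], hEsh, h.right, h.right, hee, mul_one,
      mul_eq_left] at e1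
    exact e1
  have hue : ∀ c v, P (Uc v) (Ec c) = 1 := by
    intro c v
    have e1 := hE v (Fc 1) (Ec c)
    rw [show tE M v (Ec c) = Ec c by simp [tE, Ec], hEsh, h.left, h.left, hee, mul_one,
      mul_eq_left] at e1
    exact e1
  have hfu : ∀ c v, P (Fc c) (Uc v) = 1 := by
    intro c v
    have e1 := hF v (Fc c) (Ec 1)
    rw [show tF M v (Fc c) = Fc c by simp [tF, Fc], hFsh, h.right, h.right, hff, mul_one,
      mul_eq_left] at e1
    exact e1
  have huf : ∀ c v, P (Uc v) (Fc c) = 1 := by
    intro c v
    have e1 := hF v (Ec 1) (Fc c)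
    rw [show tF M v (Fc c) = Fc c by simp [tF, Fc], hFsh, h.left, h.left, hff, mul_one,
      mul_eq_left] at e1
    exact e1
  -- the two mixed relations
  have hmix : ∀ (v' v : U) (n : F),
      P (Uc v') (Uc (n • v)) = P (Ec (polar M v v')) (Fc n) := by
    intro v' v n
    have e1 := hE v (Uc v') (Fc n)
    rw [show tE M v (Uc v') = Uc v' + -Ec (polar M v v') by simp [tE, Ec, Uc],
      show tE M v (Fc n) = Fc n + Uc (n • v) + Ec (-(M v * n)) by simp [tE, Ec, Fc, Uc],
      h.left, h.right, h.right, h.right, h.right, hue, mul_one, h.neg_left, h.neg_left, h.neg_left,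
      heu, hee, inv_one, mul_one, mul_one, mul_assoc, mul_eq_left, mul_inv_eq_one] at e1
    exact e1
  have hmix' : ∀ (v' v : U) (n : F),
      P (Uc (n • v)) (Uc v') = P (Fc n) (Ec (polar M v v')) := by
    intro v' v n
    have e1 := hE v (Fc n) (Uc v')
    rw [show tE M v (Uc v') = Uc v' + -Ec (polar M v v') by simp [tE, Ec, Uc],
      show tE M v (Fc n) = Fc n + Uc (n • v) + Ec (-(M v * n)) by simp [tE, Ec, Fc, Uc],
      h.right, h.left, h.left, h.left, h.left, heu, mul_one, h.neg_right, h.neg_right,
      h.neg_right, hue, hee, inv_one, mul_one, mul_one, mul_assoc, mul_eq_left,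
      mul_inv_eq_one] at e1
    exact e1
  let ψ : F → Γ := fun c => P (Ec c) (Fc 1)
  have hψU : ∀ v v', P (Uc v) (Uc v') = ψ (polar M v v') := fun v v' => by
    rw [show v' = (1 : F) • v' from (one_smul F v').symm, hmix, one_smul, polar_comm]
  have hEF : ∀ c n, P (Ec c) (Fc n) = ψ (c * n) := fun c n => by
    obtain ⟨v, v', e⟩ := hB c
    rw [← e, ← hmix, hψU, polar_smul_right, smul_eq_mul, polar_comm, mul_comm]
  have hFE : ∀ c n, P (Fc n) (Ec c) = ψ (c * n) := fun c n => by
    obtain ⟨v, v', e⟩ := hB c
    rw [← e, ← hmix', hψU, polar_smul_left, smul_eq_mul, mul_comm]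
  have hψadd : ∀ c d, ψ (c + d) = ψ c * ψ d := fun c d => by
    show P (Ec (c + d)) (Fc 1) = _
    rw [show Ec (c + d) = Ec c + Ec d by simp [Ec], h.left]
  have hdec : ∀ p : (F × F) × U, p = Ec p.1.1 + Fc p.1.2 + Uc p.2 := fun p => by
    simp [Ec, Fc, Uc, Prod.ext_iff]
  have key : ∀ p p', P p p' = ψ (polar (hyp M) p p') := by
    intro p p'
    conv_lhs => rw [hdec p, hdec p']
    simp only [h.left, h.right, hee, hff, heu, hue, hfu, huf, hEF, hFE, hψU, one_mul, mul_one]
    rw [← hψadd, ← hψadd, polar_hyp, mul_comm p'.1.1 p.1.2]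
  rw [key, key, heq]

end Cfsg.Agent.ClassMult
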