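import Cfsg.Agent.ClassMult.RootId
import Cfsg.Agent.CharB.PSLMult.Lifts

/-!
Central extensions of `Ω(H ⊥ H ⊥ H ⊥ M)`: lifts of the transformations at one singular point commute,
and commutators give canonical lifts of the long root elements (helper74).
-/

set_option autoImplicit false

namespace Cfsg.Agent.ClassMult

open Cfsg.Agent.UnitaryOrthogonal QuadraticMap Cfsg.Agent.CharB.PSLMult
open scoped commutatorElement

universe v w x y

variable {F : Type v} [Field F] {V : Type w} [AddCommGroup V] [Module F V] {Q : QuadraticForm F V}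

/-- `E(u, z)` in `eichGroup`. -/
noncomputable def ee (Q : QuadraticForm F V) (u z : V) : eichGroup Q :=
  ⟨eich Q u z, eich_mem_eichGroup u z⟩

theorem ee_mul {u z z' : V} (hu : Q u = 0) (hz : polar Q u z = 0) (hz' : polar Q u z' = 0) :
    ee Q u z * ee Q u z' = ee Q u (z + z') := Subtype.ext (eich_mul hu hz hz')

theorem ee_zero (u : V) : ee Q u 0 = 1 := Subtype.ext (eich_zero u)

theorem ee_inv {u z : V} (hu : Q u = 0) (hz : polar Q u z = 0) :
    (ee Q u z)⁻¹ = ee Q u (-z) := Subtype.ext (eich_inv hu hz)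

theorem ee_conj (g : eichGroup Q) (u z : V) :
    g * ee Q u z * g⁻¹ = ee Q (g.1.1 u) (g.1.1 z) := Subtype.ext (conj_eich g.1 u z)

theorem ee_commute {u z z' : V} (hu : Q u = 0) (hz : polar Q u z = 0) (hz' : polar Q u z' = 0) :
    Commute (ee Q u z) (ee Q u z') := by
  show ee Q u z * ee Q u z' = ee Q u z' * ee Q u z
  rw [ee_mul hu hz hz', ee_mul hu hz' hz, add_comm]

theorem ee_add_smul {u z : V} (hu : Q u = 0) (hz : polar Q u z = 0) (c : F) :
    ee Q u (z + c • u) = ee Q u z := Subtype.ext (eich_add_smul hu hz c)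

theorem ee_swap_smul {u a : V} (hu : Q u = 0) (ha : Q a = 0) (h : polar Q u a = 0) (c : F) :
    ee Q a (c • u) = ee Q u (-c • a) := Subtype.ext (eich_swap_smul hu ha h c)

theorem ee_neg_left {u z : V} (hu : Q u = 0) (hz : polar Q u z = 0) :
    ee Q (-u) z = ee Q u (-z) := Subtype.ext (by
  show eich Q (-u) z = eich Q u (-z)
  rw [← neg_one_smul F u, eich_smul_left hu hz, neg_one_smul])

theorem ee_apply {u z : V} (hu : Q u = 0) (hz : polar Q u z = 0) (t : V) :
    (ee Q u z).1.1 t = t + polar Q u t • z - polar Q z t • u - (Q z * polar Q u t) • u :=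
  eich_apply hu hz t

variable {U : Type x} [AddCommGroup U] [Module F U]

/-- Two orthogonal hyperbolic pairs and a complement `H ⊥ M`, with enough elements fixing the three
planes. -/
structure Frame (Q : QuadraticForm F V) (M : QuadraticForm F U) (u a : V) where
  /-- The partner of `u`. -/
  u' : V
  /-- The partner of `a`. -/
  a' : V
  /-- The complement. -/
  j : (F × F) × U →ₗ[F] V
  hu : Q u = 0
  hu' : Q u' = 0
  ha : Q a = 0
  ha' : Q a' = 0
  huu : polar Q u u' = 1
  haa : polar Q a a' = 1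
  hua : polar Q u a = 0
  hua' : polar Q u a' = 0
  hu'a : polar Q u' a = 0
  hu'a' : polar Q u' a' = 0
  hj : ∀ p, Q (j p) = hyp M p
  hju : ∀ p, polar Q u (j p) = 0
  hju' : ∀ p, polar Q u' (j p) = 0
  hja : ∀ p, polar Q a (j p) = 0
  hja' : ∀ p, polar Q a' (j p) = 0
  span : ∀ z, ∃ p, z = polar Q u' z • u + polar Q u z • u' + polar Q a' z • a + polar Q a z • a' + j p
  gen : AddSubgroup.closure {v : U | (∃ (k : eichGroup Q) (v' : U), k.1.1 u = u ∧ k.1.1 u' = u' ∧
      k.1.1 a = a ∧ k.1.1 a' = a' ∧ k.1.1 (j ((1, 0), 0)) = j ((1, 0), 0) ∧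
      k.1.1 (j ((0, 1), 0)) = j ((0, 1), 0) ∧
      k.1.1 (j ((0, 0), v')) = j ((0, 0), v') + j ((0, 0), v)) ∨
    (M v = 0 ∧ ∃ z t, polar M v z = 0 ∧ polar M v t = 0 ∧ polar M z t = 1)} = ⊤

variable {M : QuadraticForm F U} {u a : V}

/-- The other order of the two pairs. -/
def Frame.swap (f : Frame Q M u a) : Frame Q M a u where
  u' := f.a'
  a' := f.u'
  j := f.j
  hu := f.ha
  hu' := f.ha'
  ha := f.hu
  ha' := f.hu'
  huu := f.haa
  haa := f.huu
  hua := by rw [polar_comm, f.hua]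
  hua' := by rw [polar_comm, f.hu'a]
  hu'a := by rw [polar_comm, f.hua']
  hu'a' := by rw [polar_comm, f.hu'a']
  hj := f.hj
  hju := f.hja
  hju' := f.hja'
  hja := f.hju
  hja' := f.hju'
  span z := by
    obtain ⟨p, hp⟩ := f.span z
    exact ⟨p, by conv_lhs => rw [hp]
                 abel⟩
  gen := by
    rw [eq_top_iff, ← f.gen]
    refine AddSubgroup.closure_mono fun v hv => ?_
    rcases hv with ⟨k, v', h1, h2, h3, h4, h5, h6, h7⟩ | h
    · exact Or.inl ⟨k, v', h3, h4, h1, h2, h5, h6, h7⟩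
    · exact Or.inr h

/-- The two members of the second pair exchanged. -/
def Frame.flip (f : Frame Q M u a) : Frame Q M u f.a' where
  u' := f.u'
  a' := a
  j := f.j
  hu := f.hu
  hu' := f.hu'
  ha := f.ha'
  ha' := f.ha
  huu := f.huu
  haa := by rw [polar_comm, f.haa]
  hua := f.hua'
  hua' := f.hua
  hu'a := f.hu'a'
  hu'a' := f.hu'a
  hj := f.hj
  hju := f.hju
  hju' := f.hju'
  hja := f.hja'
  hja' := f.hja
  span z := by
    obtain ⟨p, hp⟩ := f.span z
    exact ⟨p, by conv_lhs => rw [hp]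
                 abel⟩
  gen := by
    rw [eq_top_iff, ← f.gen]
    refine AddSubgroup.closure_mono fun v hv => ?_
    rcases hv with ⟨k, v', h1, h2, h3, h4, h5, h6, h7⟩ | h
    · exact Or.inl ⟨k, v', h1, h2, h4, h3, h5, h6, h7⟩
    · exact Or.inr h

/-- The image of a frame under an isometry. -/
def Frame.map (f : Frame Q M u a) (g : orth Q) : Frame Q M (g.1 u) (g.1 a) where
  u' := g.1 f.u'
  a' := g.1 f.a'
  j := g.1.toLinearMap.comp f.j
  hu := by rw [map_form, f.hu]
  hu' := by rw [map_form, f.hu']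
  ha := by rw [map_form, f.ha]
  ha' := by rw [map_form, f.ha']
  huu := by rw [map_polar, f.huu]
  haa := by rw [map_polar, f.haa]
  hua := by rw [map_polar, f.hua]
  hua' := by rw [map_polar, f.hua']
  hu'a := by rw [map_polar, f.hu'a]
  hu'a' := by rw [map_polar, f.hu'a']
  hj p := by simp [f.hj]
  hju p := by simp [f.hju]
  hju' p := by simp [f.hju']
  hja p := by simp [f.hja]
  hja' p := by simp [f.hja']
  span z := by
    obtain ⟨p, hp⟩ := f.span (g⁻¹.1 z)
    refine ⟨p, ?_⟩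
    have e : ∀ t : V, polar Q t (g⁻¹.1 z) = polar Q (g.1 t) z := fun t => by
      conv_rhs => rw [← coe_apply_inv_apply g z, map_polar]
    conv_lhs => rw [← coe_apply_inv_apply g z, hp]
    simp only [e, map_add, map_smul, LinearMap.comp_apply]
    rfl
  gen := by
    rw [eq_top_iff, ← f.gen]
    refine AddSubgroup.closure_mono fun v hv => ?_
    rcases hv with ⟨k, v', h1, h2, h3, h4, h5, h6, h7⟩ | h
    · have key : ∀ t s : V, k.1.1 t = s →
          (g * k.1 * g⁻¹).1 (g.1 t) = g.1 s := fun t s h => by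
        rw [coe_mul_apply, coe_mul_apply, coe_inv_apply_apply, h]
      refine Or.inl ⟨⟨g * k.1 * g⁻¹, eichGroup_normal.conj_mem k.1 k.2 g⟩, v', key _ _ h1, key _ _ h2,
        key _ _ h3, key _ _ h4, key _ _ h5, key _ _ h6, ?_⟩
      exact (key _ _ h7).trans (map_add _ _ _)
    · exact Or.inr h

theorem Frame.polar_j (f : Frame Q M u a) (p q : (F × F) × U) :
    polar Q (f.j p) (f.j q) = polar (hyp M) p q := by
  simp only [polar, ← map_add, f.hj]

theorem eich_embed {U₀ : Type y} [AddCommGroup U₀] [Module F U₀] {M₀ : QuadraticForm F U₀}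
    (i : (F × F) × U₀ →ₗ[F] V) (hi : ∀ p, Q (i p) = hyp M₀ p) (v : U₀) (p : (F × F) × U₀) :
    (eich Q (i ((1, 0), 0)) (i ((0, 0), v))).1 (i p) = i (tE M₀ v p) ∧
      (eich Q (i ((0, 1), 0)) (i ((0, 0), v))).1 (i p) = i (tF M₀ v p) := by
  have hp : ∀ p q, polar Q (i p) (i q) = polar (hyp M₀) p q := fun p q => by
    simp only [polar, ← map_add, hi]
  constructor
  · rw [eich_apply (by simp [hi]) (by simp [hp, polar_hyp]), hp, hp, hi, ← map_smul, ← map_smul,
      ← map_smul, ← map_add, ← map_sub, ← map_sub]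
    congr 1
    simp [tE, polar_hyp, Prod.ext_iff]
  · rw [eich_apply (by simp [hi]) (by simp [hp, polar_hyp]), hp, hp, hi, ← map_smul, ← map_smul,
      ← map_smul, ← map_add, ← map_sub, ← map_sub]
    congr 1
    simp [tF, polar_hyp, Prod.ext_iff]

variable {Γ : Type y} [Group Γ] {σ : Γ →* eichGroup Q} (E : CEx σ)

/-- The commutator of lifts at one point. -/
noncomputable def bl (u z z' : V) : Γ := E.cm (ee Q u z) (ee Q u z')

theorem bl_conj {u z z' : V} (hu : Q u = 0) (hz : polar Q u z = 0) (hz' : polar Q u z' = 0)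
    (g : eichGroup Q) : bl E (g.1.1 u) (g.1.1 z) (g.1.1 z') = bl E u z z' := by
  rw [bl, ← ee_conj, ← ee_conj, E.cm_conj (ee_commute hu hz hz')]
  rfl

theorem bl_center {u z z' : V} (hu : Q u = 0) (hz : polar Q u z = 0) (hz' : polar Q u z' = 0) :
    bl E u z z' ∈ Subgroup.center Γ := E.cm_mem_center (ee_commute hu hz hz')

theorem biMul_bl {X : Type*} [AddCommGroup X] (i : X →+ V) {u : V} (hu : Q u = 0)
    (hiu : ∀ p, polar Q u (i p) = 0) : BiMul fun p q => bl E u (i p) (i q) := by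
  have hl : ∀ p q r, bl E u (i (p + q)) (i r) = bl E u (i p) (i r) * bl E u (i q) (i r) := by
    intro p q r
    rw [bl, map_add, ← ee_mul hu (hiu p) (hiu q), E.cm_mul_left' (ee_commute hu (hiu q) (hiu r)),
      Subgroup.mem_center_iff.1 (E.cm_mem_center (ee_commute hu (hiu p) (hiu r)))]
    rfl
  refine ⟨hl, fun p q r => ?_⟩
  show E.cm _ _ = _
  rw [← E.cm_inv, show E.cm (ee Q u (i (q + r))) (ee Q u (i p)) =
      bl E u (i q) (i p) * bl E u (i r) (i p) from hl q r p, _root_.mul_inv_rev,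
    show (bl E u (i r) (i p))⁻¹ = bl E u (i p) (i r) from E.cm_inv _ _,
    show (bl E u (i q) (i p))⁻¹ = bl E u (i p) (i q) from E.cm_inv _ _,
    Subgroup.mem_center_iff.1 (bl_center E hu (hiu p) (hiu q))]

/-- Commutators at one point depend only on the product, on `H ⊥ M₀` orthogonal to it. -/
theorem bl_balanced {U₀ : Type x} [AddCommGroup U₀] [Module F U₀] {M₀ : QuadraticForm F U₀}
    (i : (F × F) × U₀ →ₗ[F] V) (hi : ∀ p, Q (i p) = hyp M₀ p) {u : V} (hu : Q u = 0)
    (hiu : ∀ p, polar Q u (i p) = 0) (hB : ∀ c : F, ∃ v v', polar M₀ v v' = c)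
    {p p' r r' : (F × F) × U₀} (heq : polar (hyp M₀) p p' = polar (hyp M₀) r r') :
    bl E u (i p) (i p') = bl E u (i r) (i r') := by
  refine balanced (P := fun p q => bl E u (i p) (i q)) (biMul_bl E i.toAddMonoidHom hu hiu) hB
    (fun v p p' => ?_) (fun v p p' => ?_) heq
  · have hfix : (ee Q (i ((1, 0), 0)) (i ((0, 0), v))).1.1 u = u :=
      eich_fix (by simp [hi]) (by simp [polar, ← map_add, hi, hyp_apply]) (by rw [polar_comm, hiu])
        (by rw [polar_comm, hiu])
    show bl E u (i _) (i _) = bl E u (i p) (i p')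
    rw [← bl_conj E hu (hiu p) (hiu p') (ee Q (i ((1, 0), 0)) (i ((0, 0), v))), hfix]
    show _ = bl E u ((eich Q _ _).1 _) ((eich Q _ _).1 _)
    rw [(eich_embed i hi v p).1, (eich_embed i hi v p').1]
  · have hfix : (ee Q (i ((0, 1), 0)) (i ((0, 0), v))).1.1 u = u :=
      eich_fix (by simp [hi]) (by simp [polar, ← map_add, hi, hyp_apply]) (by rw [polar_comm, hiu])
        (by rw [polar_comm, hiu])
    show bl E u (i _) (i _) = bl E u (i p) (i p')
    rw [← bl_conj E hu (hiu p) (hiu p') (ee Q (i ((0, 1), 0)) (i ((0, 0), v))), hfix]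
    show _ = bl E u ((eich Q _ _).1 _) ((eich Q _ _).1 _)
    rw [(eich_embed i hi v p).2, (eich_embed i hi v p').2]

/-- The space orthogonal to `u` and `u'`. -/
def Frame.ju (f : Frame Q M u a) : (F × F) × ((F × F) × U) →ₗ[F] V :=
  LinearMap.coprod ((LinearMap.fst F F F).smulRight a + (LinearMap.snd F F F).smulRight f.a') f.j

theorem Frame.ju_apply (f : Frame Q M u a) (c d : F) (p : (F × F) × U) :
    f.ju ((c, d), p) = c • a + d • f.a' + f.j p := rfl

theorem Frame.form_ju (f : Frame Q M u a) (p : (F × F) × ((F × F) × U)) :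
    Q (f.ju p) = hyp (hyp M) p := by
  obtain ⟨⟨c, d⟩, p⟩ := p
  simp [f.ju_apply, form_add, form_smul, f.ha, f.ha', f.haa, f.hj, polar_add_left, polar_smul_left,
    polar_smul_right, f.hja, f.hja']
  ring

theorem Frame.polar_ju (f : Frame Q M u a) (p : (F × F) × ((F × F) × U)) :
    polar Q u (f.ju p) = 0 := by
  obtain ⟨⟨c, d⟩, p⟩ := p
  simp [f.ju_apply, polar_add_right, polar_smul_right, f.hua, f.hua', f.hju]

theorem exists_polar_hyp (c : F) : ∃ v v' : (F × F) × U, polar (hyp M) v v' = c :=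
  ⟨((c, 0), 0), ((0, 1), 0), by simp [polar_hyp]⟩

theorem bl_rho_left (f : Frame Q M u a) (c : F) (p : (F × F) × U) :
    bl E u (c • a) (f.j p) = 1 := by
  have h := bl_balanced E f.ju f.form_ju f.hu f.polar_ju exists_polar_hyp
    (p := ((c, 0), 0)) (p' := ((0, 0), p)) (r := 0) (r' := 0) (by simp [polar_hyp])
  rw [map_zero, show f.ju ((c, 0), 0) = c • a by simp [f.ju_apply],
    show f.ju ((0, 0), p) = f.j p by simp [f.ju_apply]] at h
  rw [h, bl, E.cm_self]

theorem bl_rho_rho (f : Frame Q M u a) (c d : F) : bl E u (c • a) (d • a) = 1 := by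
  have h := bl_balanced E f.ju f.form_ju f.hu f.polar_ju exists_polar_hyp
    (p := ((c, 0), 0)) (p' := ((d, 0), 0)) (r := 0) (r' := 0) (by simp [polar_hyp])
  rw [map_zero, show f.ju ((c, 0), 0) = c • a by simp [f.ju_apply],
    show f.ju ((d, 0), 0) = d • a by simp [f.ju_apply]] at h
  rw [h, bl, E.cm_self]

/-- The commutator of lifts at two points. -/
noncomputable def pp (u a z t : V) : Γ := E.cm (ee Q u z) (ee Q a t)

theorem map_pp (f : Frame Q M u a) {z t : V} (huz : polar Q u z = 0) (haz : polar Q a z = 0)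
    (hut : polar Q u t = 0) (hat : polar Q a t = 0) :
    σ (pp E u a z t) = ee Q u (polar Q z t • a) := by
  rw [pp, E.map_cm]
  exact Subtype.ext (comm_eich f.hu f.ha f.hua huz haz hut hat)

include E in
/-- Lifts of the long root element commute with lifts at the two points. -/
theorem rho_comm (f : Frame Q M u a) {x y : Γ} {c : F} (hx : σ x = ee Q u (c • a))
    (hy : (∃ p, σ y = ee Q u (f.j p) ∨ σ y = ee Q a (f.j p)) ∨ ∃ d : F, σ y = ee Q u (d • a)) :
    Commute x y := by
  refine E.commute_of_cm ?_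
  rw [hx]
  rcases hy with ⟨p, hy | hy⟩ | ⟨d, hy⟩
  · rw [hy]; exact bl_rho_left E f c p
  · rw [hy, show c • a = -(-c) • a by rw [neg_neg], ← ee_swap_smul f.hu f.ha f.hua]
    exact bl_rho_left E f.swap (-c) p
  · rw [hy]; exact bl_rho_rho E f c d

theorem map_pp_j (f : Frame Q M u a) (p q : (F × F) × U) :
    σ (pp E u a (f.j p) (f.j q)) = ee Q u (polar (hyp M) p q • a) := by
  rw [map_pp E f (f.hju p) (f.hja p) (f.hju q) (f.hja q), f.polar_j]

theorem biMul_pp (f : Frame Q M u a) :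
    BiMul fun p q => pp E u a (f.j p) (f.j q) := by
  have hc : ∀ p q p' q', Commute (pp E u a (f.j p) (f.j q)) (pp E u a (f.j p') (f.j q')) :=
    fun p q p' q' => rho_comm E f (map_pp_j E f p q) (Or.inr ⟨_, map_pp_j E f p' q'⟩)
  constructor
  · intro p q r
    show E.cm _ _ = _
    rw [map_add, ← ee_mul f.hu (f.hju p) (f.hju q), E.cm_mul_left]
    have h := rho_comm E f (map_pp_j E f q r) (Or.inl ⟨p, Or.inl (E.map_s _)⟩)
    rw [show E.s (ee Q u (f.j p)) * E.cm (ee Q u (f.j q)) (ee Q a (f.j r)) =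
        E.cm (ee Q u (f.j q)) (ee Q a (f.j r)) * E.s (ee Q u (f.j p)) from h.eq.symm,
      mul_inv_cancel_right]
    exact (hc q r p r).eq
  · intro p q r
    show E.cm _ _ = _
    rw [map_add, ← ee_mul f.ha (f.hja q) (f.hja r), ← E.cm_inv, E.cm_mul_left, _root_.mul_inv_rev,
      E.cm_inv, _root_.mul_inv_rev, inv_inv, _root_.mul_inv_rev, E.cm_inv]
    have h := rho_comm E f (map_pp_j E f p r) (Or.inl ⟨q, Or.inr (E.map_s _)⟩)
    rw [← mul_assoc (E.cm (ee Q u (f.j p)) (ee Q a (f.j q))), ← mul_assoc]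
    rw [mul_assoc, mul_assoc]
    show pp E u a (f.j p) (f.j q) * (E.s (ee Q a (f.j q)) * (pp E u a (f.j p) (f.j r) *
      (E.s (ee Q a (f.j q)))⁻¹)) = _
    rw [← mul_assoc (E.s _), h.eq.symm, mul_inv_cancel_right]

/-- Elements fixing both points of a pair. -/
theorem commute_rho (f : Frame Q M u a) {g : eichGroup Q} (h1 : g.1.1 u = u) (h2 : g.1.1 a = a)
    (c : F) : Commute g (ee Q u (c • a)) := by
  show g * ee Q u (c • a) = ee Q u (c • a) * g
  have := f.hu
  rw [← mul_inv_eq_iff_eq_mul, ee_conj, map_smul, h1, h2]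

theorem cm_comm_eq_one {x y r : eichGroup Q} (hx : Commute x r) (hy : Commute y r) :
    E.cm ⁅x, y⁆ r = 1 := by
  rw [commutatorElement_def, E.cm_mul_left' hy.inv_left, E.cm_mul_left' hx.inv_left,
    E.cm_mul_left' hy, E.cm_inv_left hy, E.cm_inv_left hx]
  have h1 := Subgroup.mem_center_iff.1 (E.cm_mem_center hy)
  rw [← mul_assoc (E.cm x r)⁻¹, h1 ((E.cm x r)⁻¹), inv_mul_cancel_right, inv_mul_cancel]

/-- Transformations at the third plane commute with the long root element, also in the cover. -/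
theorem cm_third_rho (f : Frame Q M u a) {s t : F} (hst : s * t = 0) (v : U) (c : F) :
    E.cm (ee Q (f.j ((s, t), 0)) (f.j ((0, 0), v))) (ee Q u (c • a)) = 1 := by
  set b := f.j ((s, t), 0) with hb
  let jv : U → V := fun v => f.j ((0, 0), v)
  have hbQ : Q b = 0 := by simp [hb, f.hj, hst]
  have hbv : ∀ v, polar Q b (jv v) = 0 := fun v => by simp [hb, jv, f.polar_j, polar_hyp]
  have hfix : ∀ (z w : V), Q z = 0 → polar Q z w = 0 → polar Q u z = 0 → polar Q u w = 0 →
      polar Q a z = 0 → polar Q a w = 0 → Commute (ee Q z w) (ee Q u (c • a)) :=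
    fun z w hz hzw h1 h2 h3 h4 => commute_rho f
      (eich_fix hz hzw (by rw [polar_comm, h1]) (by rw [polar_comm, h2]))
      (eich_fix hz hzw (by rw [polar_comm, h3]) (by rw [polar_comm, h4])) c
  have hcb : ∀ v, Commute (ee Q b (jv v)) (ee Q u (c • a)) := fun v =>
    hfix _ _ hbQ (hbv v) (f.hju _) (f.hju _) (f.hja _) (f.hja _)
  have jadd : ∀ v v', jv (v + v') = jv v + jv v' := fun v v' => by simp [jv, ← map_add]
  let S : AddSubgroup U :=
    { carrier := {v | E.cm (ee Q b (jv v)) (ee Q u (c • a)) = 1}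
      zero_mem' := by
        show E.cm (ee Q b (jv 0)) (ee Q u (c • a)) = 1
        rw [show jv 0 = 0 from map_zero (f.j.comp (LinearMap.inr F (F × F) U)), ee_zero, E.cm_one_left]
      add_mem' := fun {v v'} hv hv' => by
        show E.cm (ee Q b (jv (v + v'))) (ee Q u (c • a)) = 1
        rw [jadd, ← ee_mul hbQ (hbv v) (hbv v'), E.cm_mul_left' (hcb v'), hv, hv', one_mul]
      neg_mem' := fun {v} hv => by
        show E.cm (ee Q b (jv (-v))) (ee Q u (c • a)) = 1
        rw [show jv (-v) = -jv v by simp [jv, ← map_neg], ← ee_inv hbQ (hbv v),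
          E.cm_inv_left (hcb v), hv, inv_one] }
  suffices h : (⊤ : AddSubgroup U) ≤ S from h (AddSubgroup.mem_top v)
  rw [← f.gen, AddSubgroup.closure_le]
  rintro v (⟨k, v', h1, h2, h3, h4, h5, h6, h7⟩ | ⟨hv, z, t', hvz, hvt, hzt⟩)
  · show E.cm (ee Q b (jv v)) (ee Q u (c • a)) = 1
    have hkb : k.1.1 b = b := by
      rw [hb, show (((s, t), 0) : (F × F) × U) = s • ((1, 0), 0) + t • ((0, 1), 0) by
        simp [Prod.ext_iff], map_add, map_smul, map_smul, map_add, map_smul, map_smul, h5, h6]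
    have h := E.cm_conj (hcb v') k
    rw [ee_conj, ee_conj, hkb, map_smul, h1, h3,
      show k.1.1 (jv v') = jv v' + jv v from h7, ← ee_mul hbQ (hbv v') (hbv v),
      E.cm_mul_left' (hcb v)] at h
    exact mul_eq_right.1 h
  · suffices h : -v ∈ S by simpa using S.neg_mem h
    show E.cm (ee Q b (jv (-v))) (ee Q u (c • a)) = 1
    have hvQ : Q (jv v) = 0 := by simp [jv, f.hj, hv]
    have e : ee Q b (jv (-v)) = ⁅ee Q (jv v) (jv z), ee Q b (jv t')⁆ := Subtype.ext (by
      show eich Q b (jv (-v)) = ⁅eich Q (jv v) (jv z), eich Q b (jv t')⁆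
      rw [comm_eich hvQ hbQ (by rw [polar_comm, hbv]) (by simp [jv, f.polar_j, polar_hyp, hvz])
          (hbv z) (by simp [jv, f.polar_j, polar_hyp, hvt]) (hbv t'),
        show polar Q (jv z) (jv t') = 1 by simp [jv, f.polar_j, polar_hyp, hzt],
        one_smul, show jv (-v) = -jv v by simp [jv, ← map_neg]]
      exact (eich_swap hbQ hvQ (hbv v)).symm)
    rw [e]
    exact cm_comm_eq_one E
      (hfix _ _ hvQ (by simp [jv, f.polar_j, polar_hyp, hvz]) (f.hju _) (f.hju _) (f.hja _) (f.hja _))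
      (hcb t')

/-- The commutators at two points depend only on the product. -/
theorem pp_balanced (f : Frame Q M u a) (hB : ∀ c : F, ∃ v v', polar M v v' = c)
    {p p' r r' : (F × F) × U} (heq : polar (hyp M) p p' = polar (hyp M) r r') :
    pp E u a (f.j p) (f.j p') = pp E u a (f.j r) (f.j r') := by
  have key : ∀ (s t : F), s * t = 0 → ∀ (v : U) (p p' : (F × F) × U),
      pp E u a ((eich Q (f.j ((s, t), 0)) (f.j ((0, 0), v))).1 (f.j p))
          ((eich Q (f.j ((s, t), 0)) (f.j ((0, 0), v))).1 (f.j p')) =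
        pp E u a (f.j p) (f.j p') := by
    intro s t hst v p p'
    set g := ee Q (f.j ((s, t), 0)) (f.j ((0, 0), v)) with hg
    have hq : Q (f.j ((s, t), 0)) = 0 := by simp [f.hj, hst]
    have hqv : polar Q (f.j ((s, t), 0)) (f.j ((0, 0), v)) = 0 := by simp [f.polar_j, polar_hyp]
    have hfu : g.1.1 u = u := eich_fix hq hqv (by rw [polar_comm, f.hju]) (by rw [polar_comm, f.hju])
    have hfa : g.1.1 a = a := eich_fix hq hqv (by rw [polar_comm, f.hja]) (by rw [polar_comm, f.hja])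
    have hcomm : Commute (E.s g) (pp E u a (f.j p) (f.j p')) := E.commute_of_cm (by
      rw [E.map_s, map_pp_j E f]
      exact cm_third_rho E f hst v _)
    have h := E.conj_cm (E.s g) (ee Q u (f.j p)) (ee Q a (f.j p'))
    rw [show E.s g * E.cm (ee Q u (f.j p)) (ee Q a (f.j p')) =
      E.cm (ee Q u (f.j p)) (ee Q a (f.j p')) * E.s g from hcomm.eq, mul_inv_cancel_right, E.map_s,
      ee_conj, ee_conj, hfu, hfa] at h
    exact h.symm
  refine balanced (P := fun p q => pp E u a (f.j p) (f.j q)) (biMul_pp E f) hB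
    (fun v p p' => ?_) (fun v p p' => ?_) heq
  · have h := key 1 0 (mul_zero 1) v p p'
    rwa [(eich_embed f.j f.hj v p).1, (eich_embed f.j f.hj v p').1] at h
  · have h := key 0 1 (zero_mul 1) v p p'
    rwa [(eich_embed f.j f.hj v p).2, (eich_embed f.j f.hj v p').2] at h

theorem bl_sq (f : Frame Q M u a) (hB : ∀ c : F, ∃ v v', polar M v v' = c) (p q : (F × F) × U) :
    bl E u (f.j p) (f.j q) * bl E u (f.j p) (f.j q) = 1 := by
  have h := bl_balanced E f.j f.hj f.hu f.hju hB (p := p) (p' := q) (r := q) (r' := p)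
    (polar_comm _ _ _)
  nth_rw 2 [h]
  rw [show bl E u (f.j q) (f.j p) = (bl E u (f.j p) (f.j q))⁻¹ from (E.cm_inv _ _).symm,
    mul_inv_cancel]

/-- The two shears and their product determine the commutator at one point. -/
theorem bl_kill (f : Frame Q M u a) (hB : ∀ c : F, ∃ v v', polar M v v' = c) (p q : (F × F) × U) :
    bl E a (f.j p) (f.j q) = 1 := by
  set z := f.j p with hz
  set t := f.j q with ht
  have huz : polar Q u z = 0 := f.hju p
  have haz : polar Q a z = 0 := f.hja p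
  have hut : polar Q u t = 0 := f.hju q
  have hat : polar Q a t = 0 := f.hja q
  set β₁ := bl E u z t
  set β₂ := bl E a z t
  have c1 : β₁ ∈ Subgroup.center Γ := bl_center E f.hu huz hut
  have c2 : β₂ ∈ Subgroup.center Γ := bl_center E f.ha haz hat
  set P := pp E u a z t with hP
  set g₁ := ee Q u (-f.a')
  set g₃ := ee Q a f.u'
  have hau : polar Q a u = 0 := by rw [polar_comm, f.hua]
  have hau' : polar Q a f.u' = 0 := by rw [polar_comm, f.hu'a]
  have ha'u : polar Q f.a' u = 0 := by rw [polar_comm, f.hua']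
  have hu'u : polar Q f.u' u = 1 := by rw [polar_comm, f.huu]
  have ha'a : polar Q f.a' a = 1 := by rw [polar_comm, f.haa]
  have h1n : polar Q u (-f.a') = 0 := by simp [f.hua']
  have g1u : g₁.1.1 u = u := eich_fix f.hu h1n (by simp [polar_self_eq, f.hu]) (by simp [ha'u])
  have g1z : g₁.1.1 z = z := eich_fix f.hu h1n huz (by simp [hz, f.hja'])
  have g1t : g₁.1.1 t = t := eich_fix f.hu h1n hut (by simp [ht, f.hja'])
  have g1a : g₁.1.1 a = a + u := by
    rw [ee_apply f.hu h1n]; simp [f.hua, ha'a]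
  have g3a : g₃.1.1 a = a := eich_fix f.ha hau' (by simp [polar_self_eq, f.ha]) f.hu'a
  have g3z : g₃.1.1 z = z := eich_fix f.ha hau' haz (f.hju' p)
  have g3t : g₃.1.1 t = t := eich_fix f.ha hau' hat (f.hju' q)
  have g3u : g₃.1.1 u = u + -a := by
    rw [ee_apply f.ha hau']; simp [hau, hu'u, sub_eq_add_neg]
  -- the first shear
  have s1 : E.s g₁ * P * (E.s g₁)⁻¹ = P * β₁ := by
    rw [hP, pp, E.conj_cm, E.map_s, ee_conj, ee_conj, g1u, g1z, g1t, g1a,
      show ee Q (a + u) t = ee Q a t * ee Q u t * ee Q u (Q t • a) from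
        Subtype.ext (eich_add_left f.hu f.ha f.hua hut hat)]
    have h := E.cm_eq (E.s (ee Q u z)) (E.s (ee Q a t) * E.s (ee Q u t) * E.s (ee Q u (Q t • a)))
    simp only [map_mul, E.map_s] at h
    rw [← h]
    have hd : Commute (E.s (ee Q u z)) (E.s (ee Q u (Q t • a))) :=
      (rho_comm E f (E.map_s _) (Or.inl ⟨p, Or.inl (E.map_s _)⟩)).symm
    have hbc : ⁅E.s (ee Q u z), E.s (ee Q u t)⁆ = β₁ := rfl
    have hab : ⁅E.s (ee Q u z), E.s (ee Q a t)⁆ = pp E u a z t := rfl
    generalize E.s (ee Q u z) = A at hd hbc hab ⊢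
    generalize E.s (ee Q a t) = B at hab ⊢
    generalize E.s (ee Q u t) = C at hbc ⊢
    generalize E.s (ee Q u (Q t • a)) = D at hd ⊢
    calc ⁅A, B * C * D⁆ = ⁅A, B⁆ * (B * ⁅A, C⁆ * B⁻¹) * (B * C * ⁅A, D⁆ * C⁻¹ * B⁻¹) := by
          simp only [commutatorElement_def]; group
      _ = pp E u a z t * β₁ := by
          rw [commutatorElement_eq_one_iff_mul_comm.2 hd.eq, hab, hbc,
            Subgroup.mem_center_iff.1 c1 B, mul_inv_cancel_right]
          group
  -- the second shear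
  have s3 : E.s g₃ * P * (E.s g₃)⁻¹ = P * β₂⁻¹ := by
    have e : ee Q (u + -a) z = ee Q u z * ee Q (-a) z * ee Q (-a) (Q z • u) := Subtype.ext
      (eich_add_left (by simp [f.ha]) f.hu (by simp [hau]) (by simp [haz]) huz)
    rw [ee_neg_left f.ha haz, ee_neg_left f.ha (by simp [hau])] at e
    rw [hP, pp, E.conj_cm, E.map_s, ee_conj, ee_conj, g3u, g3z, g3t, g3a, e]
    have h := E.cm_eq (E.s (ee Q u z) * E.s (ee Q a (-z)) * E.s (ee Q a (-(Q z • u))))
      (E.s (ee Q a t))
    simp only [map_mul, E.map_s] at h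
    rw [← h]
    have hd : Commute (E.s (ee Q a (-(Q z • u)))) (E.s (ee Q a t)) :=
      rho_comm E f.swap (c := -Q z) (by rw [E.map_s, neg_smul]) (Or.inl ⟨q, Or.inl (E.map_s _)⟩)
    have hbc : ⁅E.s (ee Q a (-z)), E.s (ee Q a t)⁆ = β₂⁻¹ := by
      show E.cm _ _ = (E.cm _ _)⁻¹
      rw [← ee_inv f.ha haz, E.cm_inv_left (ee_commute f.ha haz hat)]
    have hab : ⁅E.s (ee Q u z), E.s (ee Q a t)⁆ = pp E u a z t := rfl
    generalize E.s (ee Q u z) = A at hab ⊢
    generalize E.s (ee Q a (-z)) = C at hbc ⊢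
    generalize E.s (ee Q a (-(Q z • u))) = D at hd ⊢
    generalize E.s (ee Q a t) = B at hd hbc hab ⊢
    calc ⁅A * C * D, B⁆ = A * (C * ⁅D, B⁆ * C⁻¹) * A⁻¹ * (A * ⁅C, B⁆ * A⁻¹) * ⁅A, B⁆ := by
          simp only [commutatorElement_def]; group
      _ = pp E u a z t * β₂⁻¹ := by
          rw [commutatorElement_eq_one_iff_mul_comm.2 hd.eq, hab, hbc,
            Subgroup.mem_center_iff.1 (inv_mem c2) A, mul_inv_cancel_right,
            Subgroup.mem_center_iff.1 (inv_mem c2) (pp E u a z t)]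
          group
  -- their product
  have hfix : ∀ {g : eichGroup Q}, g.1.1 u = -a → g.1.1 a = u → g.1.1 z = z → g.1.1 t = t →
      E.s g * P * (E.s g)⁻¹ = P := by
    intro g hgu hga hgz hgt
    rw [hP, pp, E.conj_cm, E.map_s, ee_conj, ee_conj, hgu, hga, hgz, hgt, ee_neg_left f.ha haz,
      ← E.cm_inv]
    show (pp E u a t (-z))⁻¹ = pp E u a z t
    rw [hz, ht, ← map_neg,
      show pp E u a (f.j q) (f.j (-p)) = (pp E u a (f.j q) (f.j p))⁻¹ from
        (biMul_pp E f).neg_right q p, inv_inv]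
    exact pp_balanced E f hB (polar_comm _ _ _)
  have hw : E.s (g₁ * g₃ * g₁) * P * (E.s (g₁ * g₃ * g₁))⁻¹ = P := by
    refine hfix ?_ ?_ ?_ ?_ <;> simp only [Subgroup.coe_mul, LinearEquiv.mul_apply]
    · rw [g1u, g3u, map_add, map_neg, g1u, g1a]; abel
    · rw [g1a, map_add, g3a, g3u, show a + (u + -a) = u by abel, g1u]
    · rw [g1z, g3z, g1z]
    · rw [g1t, g3t, g1t]
  obtain ⟨k, hk, e⟩ := E.exists_central (a := E.s (g₁ * g₃ * g₁)) (a' := E.s g₁ * E.s g₃ * E.s g₁)
    (by simp [E.map_s])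
  have hkc := Subgroup.mem_center_iff.1 hk
  rw [e, mul_assoc _ k P, ← hkc P, ← mul_assoc, _root_.mul_inv_rev, ← mul_assoc,
    mul_inv_cancel_right] at hw
  have m1 := Subgroup.mem_center_iff.1 c1
  have m2 := Subgroup.mem_center_iff.1 (inv_mem c2)
  have hval : E.s g₁ * E.s g₃ * E.s g₁ * P * (E.s g₁ * E.s g₃ * E.s g₁)⁻¹ =
      P * (β₁ * β₁) * β₂⁻¹ := by
    have conjc : ∀ (g x c : Γ), c ∈ Subgroup.center Γ → g * (x * c) * g⁻¹ = g * x * g⁻¹ * c :=
      fun g x c hc => by
        rw [mul_assoc g, mul_assoc x, ← Subgroup.mem_center_iff.1 hc g⁻¹]; group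
    calc _ = E.s g₁ * (E.s g₃ * (E.s g₁ * P * (E.s g₁)⁻¹) * (E.s g₃)⁻¹) * (E.s g₁)⁻¹ := by group
      _ = P * β₁ * β₂⁻¹ * β₁ := by
          rw [s1, conjc _ _ _ c1, s3, conjc _ _ _ c1, conjc _ _ _ (inv_mem c2), s1]
      _ = P * (β₁ * β₁) * β₂⁻¹ := by
          rw [mul_assoc (P * β₁), ← m2 β₁, ← mul_assoc, mul_assoc P]
  rw [hval, bl_sq E f hB, mul_one] at hw
  exact inv_eq_one.1 (mul_eq_left.1 hw)

end Cfsg.Agent.ClassMult
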