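import Cfsg.Agent.ClassMult.RootCanon

/-!
The canonical lifts of long root elements at a singular point generate a complement to the kernel over the
transformations at that point (helper74).
-/

set_option autoImplicit false

namespace Cfsg.Agent.ClassMult

open Cfsg.Agent.UnitaryOrthogonal QuadraticMap Cfsg.Agent.CharB.PSLMult
open scoped commutatorElement

universe v w x y

variable {F : Type v} [Field F] {V : Type w} [AddCommGroup V] [Module F V] {Q : QuadraticForm F V}
  {U : Type x} [AddCommGroup U] [Module F U] {M : QuadraticForm F U} {u a : V}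

/-- A nonzero singular vector of `H ⊥ M` has orthogonal auxiliary vectors. -/
theorem exists_perp_polar_one (hM : PolarND M) (hB : ∀ c : F, ∃ v v', polar M v v' = c) {p : (F × F) × U}
    (hp : hyp M p = 0) (hp0 : p ≠ 0) :
    ∃ z t, polar (hyp M) p z = 0 ∧ polar (hyp M) p t = 0 ∧ polar (hyp M) z t = 1 := by
  obtain ⟨v, v', e⟩ := hB 1
  obtain ⟨g, -, hg⟩ := exists_refl_map_singular hM.hyp.nonsing (hyp_eVec (Q := M)) eVec_ne_zero hp hp0
  exact ⟨g.1 (inW v), g.1 (inW v'), by rw [← hg, map_polar, polar_eVec_inW],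
    by rw [← hg, map_polar, polar_eVec_inW], by rw [map_polar, polar_hyp_inW, e]⟩

theorem Frame.ju_pair (f : Frame Q M u a) {P : (F × F) × ((F × F) × U)} (hM : PolarND M)
    (hP : hyp (hyp M) P = 0) (hP0 : P ≠ 0) : Pair Q u (f.ju P) where
  hu := f.hu
  hw := by rw [f.form_ju, hP]
  huw := f.polar_ju P
  hu0 := f.pair.hu0
  ind c h := hP0 (hM.hyp.hyp P fun R => by
    have e : polar Q (f.ju P) (f.ju R) = polar (hyp (hyp M)) P R := by
      simp only [polar, ← map_add, f.form_ju]
    rw [← e, h, polar_smul_left, f.polar_ju, smul_zero])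

variable {Γ : Type y} [Group Γ] {σ : Γ →* eichGroup Q} (E : CEx σ) (S : Sys Q M)

/-- The lifts of the line through `a`. -/
noncomputable def rh (f : Frame Q M u a) (c : F) : Γ :=
  pp E u a (f.j ((c, 0), 0)) (f.j ((0, 1), 0))

theorem map_rh (f : Frame Q M u a) (c : F) : σ (rh E f c) = ee Q u (c • a) := by
  rw [rh, map_pp_j E f]; simp [polar_hyp]

theorem rh_add (f : Frame Q M u a) (c d : F) : rh E f (c + d) = rh E f c * rh E f d := by
  rw [rh, rh, rh, show (((c + d, 0), 0) : (F × F) × U) = ((c, 0), 0) + ((d, 0), 0) by simp]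
  exact (biMul_pp E f).left _ _ _

theorem rh_zero (f : Frame Q M u a) : rh E f 0 = 1 := by
  have h := rh_add E f 0 0
  rw [add_zero] at h
  exact left_eq_mul.1 h

include S in
theorem rl_smul_a (f : Frame Q M u a) {c : F} (hc : c ≠ 0) : rl E u (c • a) = rh E f c :=
  rl_smul E S f.pair hc (f.hju _) (f.hja _) (f.hju _) (f.hja _) (by simp [f.polar_j, polar_hyp])

/-- The commutator moving the multiples of `a'`. -/
noncomputable def hv (f : Frame Q M u a) (c : F) (p : (F × F) × U) : Γ :=
  E.cm (ee Q a (f.j p)) (ee Q u (c • f.a')) * rh E f (c * hyp M p)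

theorem shift_a' (f : Frame Q M u a) (c : F) (p : (F × F) × U) :
    (ee Q a (f.j p)).1.1 u = u ∧
      (ee Q a (f.j p)).1.1 (c • f.a') = c • f.a' + (f.j (c • p) + (-(c * hyp M p)) • a) := by
  constructor
  · exact eich_fix f.ha (f.hja p) (by rw [polar_comm, f.hua]) (by rw [polar_comm, f.hju])
  · rw [map_smul, ee_apply f.ha (f.hja p), f.haa, polar_comm Q (f.j p), f.hja', f.hj, map_smul]
    module

theorem map_cm_hv (f : Frame Q M u a) (c : F) (p : (F × F) × U) :
    σ (E.cm (ee Q a (f.j p)) (ee Q u (c • f.a'))) =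
      ee Q u (f.j (c • p) + (-(c * hyp M p)) • a) := by
  have hua' : polar Q u (c • f.a') = 0 := by simp [f.hua']
  have h2 : polar Q u (c • f.a' + (f.j (c • p) + (-(c * hyp M p)) • a)) = 0 := by
    simp only [polar_add_right, polar_smul_right, f.hua', f.hju, f.hua, smul_zero, add_zero]
  rw [E.map_cm, commutatorElement_def, ee_conj, (shift_a' f c p).1, (shift_a' f c p).2,
    ee_inv f.hu hua', ee_mul f.hu h2 (by rw [polar_neg_right, hua', neg_zero])]
  congr 1
  abel

theorem map_hv (f : Frame Q M u a) (c : F) (p : (F × F) × U) :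
    σ (hv E f c p) = ee Q u (f.j (c • p)) := by
  rw [hv, map_mul, map_cm_hv, map_rh,
    ee_mul f.hu (by simp only [polar_add_right, polar_smul_right, f.hju, f.hua, smul_zero, add_zero])
      (by simp [f.hua])]
  congr 1
  module

include E S in
theorem commute_pt (f : Frame Q M u a) {x x' : Γ} {z z' : V} (hx : σ x = ee Q u z)
    (hx' : σ x' = ee Q u z') (hz : polar Q u z = 0) (hz' : polar Q u z' = 0) : Commute x x' :=
  commute_point E S f.pair hz hz' hx hx'

include S in
theorem hv_add (f : Frame Q M u a) (c : F) (p p' : (F × F) × U) :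
    hv E f c (p + p') = hv E f c p * hv E f c p' := by
  have pa : ∀ (r : (F × F) × U) (d : F), polar Q u (f.j r + d • a) = 0 := fun r d => by
    simp only [polar_add_right, polar_smul_right, f.hju, f.hua, smul_zero, add_zero]
  set C := E.cm (ee Q a (f.j p)) (ee Q u (c • f.a')) with hC
  set C' := E.cm (ee Q a (f.j p')) (ee Q u (c • f.a')) with hC'
  set g := E.s (ee Q a (f.j p)) with hg
  set r := rh E f (-(c * polar (hyp M) p p')) with hr
  have hmid : g * C' * g⁻¹ = r * C' := by
    have hC'σ : σ C' = ee Q u (f.j (c • p')) * ee Q u ((-(c * hyp M p')) • a) := by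
      rw [hC', map_cm_hv, ee_mul f.hu (f.hju _) (by simp [f.hua])]
    have hd : Commute g (E.s (ee Q u ((-(c * hyp M p')) • a))) :=
      (rho_comm E f (E.map_s _) (Or.inl ⟨p, Or.inr (E.map_s _)⟩)).symm
    obtain ⟨k, hk, ek⟩ := E.exists_central (a := C')
      (a' := E.s (ee Q u (f.j (c • p'))) * E.s (ee Q u ((-(c * hyp M p')) • a))) (by
        rw [hC'σ, map_mul, E.map_s, E.map_s])
    have hr' : ⁅g, E.s (ee Q u (f.j (c • p')))⁆ = r := by
      show E.cm (ee Q a (f.j p)) (ee Q u (f.j (c • p'))) = r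
      rw [← E.cm_inv]
      show (pp E u a (f.j (c • p')) (f.j p))⁻¹ = r
      rw [← (biMul_pp E f).neg_left, hr, rh]
      refine pp_balanced E f S.hB ?_
      simp [polar_comm (hyp M) p' p, polar_hyp]
    rw [ek]
    generalize E.s (ee Q u (f.j (c • p'))) = A at hr' ⊢
    generalize E.s (ee Q u ((-(c * hyp M p')) • a)) = B at hd ⊢
    calc g * (A * B * k) * g⁻¹ = ⁅g, A⁆ * A * (g * B * k * g⁻¹) := by
          rw [commutatorElement_def]; group
      _ = r * (A * B * k) := by
          rw [hr', mul_assoc _ k, ← Subgroup.mem_center_iff.1 hk g⁻¹, hd.eq]; group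
  have hadd : E.cm (ee Q a (f.j (p + p'))) (ee Q u (c • f.a')) = r * C' * C := by
    rw [map_add, ← ee_mul f.ha (f.hja p) (f.hja p'), E.cm_mul_left]
    exact congrArg (· * C) hmid
  have m1 : σ r = ee Q u ((-(c * polar (hyp M) p p')) • a) := map_rh E f _
  have m2 : σ C' = ee Q u (f.j (c • p') + (-(c * hyp M p')) • a) := map_cm_hv E f c p'
  have m3 : σ C = ee Q u (f.j (c • p) + (-(c * hyp M p)) • a) := map_cm_hv E f c p
  show E.cm _ _ * rh E f (c * hyp M (p + p')) = C * rh E f _ * (C' * rh E f _)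
  rw [hadd, form_add,
    show c * (hyp M p + hyp M p' + polar (hyp M) p p') =
      c * polar (hyp M) p p' + (c * hyp M p + c * hyp M p') by ring, rh_add, rh_add]
  have hua : ∀ d : F, polar Q u (d • a) = 0 := fun d => by simp [f.hua]
  have hrs : rh E f (c * polar (hyp M) p p') = r⁻¹ := eq_inv_of_mul_eq_one_left (by
    rw [hr, ← rh_add, add_neg_cancel, rh_zero])
  have c1 : Commute C' C := commute_pt E S f m2 m3 (pa _ _) (pa _ _)
  have c2 : Commute r (C * C') :=
    (commute_pt E S f m1 m3 (hua _) (pa _ _)).mul_right (commute_pt E S f m1 m2 (hua _) (pa _ _))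
  have c3 : Commute C' (rh E f (c * hyp M p)) :=
    commute_pt E S f m2 (map_rh E f _) (pa _ _) (hua _)
  rw [hrs, mul_assoc r, c1.eq, ← mul_assoc (r * (C * C')), c2.eq, mul_inv_cancel_right,
    mul_assoc C, ← mul_assoc C', c3.eq, mul_assoc C, mul_assoc]

include S in
/-- On singular vectors the commutator is the canonical lift. -/
theorem hv_singular (f : Frame Q M u a) {c : F} (hc : c ≠ 0) {p : (F × F) × U} (hp : hyp M p = 0)
    (hp0 : p ≠ 0) : hv E f c p = rl E u (f.j (c • p)) := by
  obtain ⟨z, t, hz, ht, hzt⟩ := exists_perp_polar_one S.nd S.hB hp hp0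
  have hju : ∀ x : (F × F) × U, f.ju ((0, 0), x) = f.j x := fun x => by simp [f.ju_apply]
  have hju' : f.ju ((0, c), 0) = c • f.a' := by simp [f.ju_apply]
  have hju'' : f.ju ((0, c), c • p) = f.j (c • p) + c • f.a' := by simp [f.ju_apply, add_comm]
  have hpa : Pair Q u (c • f.a') := hju' ▸ f.ju_pair S.nd (by simp) (by simp [hc])
  have hpp : Pair Q u (f.j (c • p)) :=
    hju _ ▸ f.ju_pair S.nd (by simp [form_smul, hp]) (by simp [hc, hp0])
  have hs : Pair Q u (f.j (c • p) + c • f.a') :=
    hju'' ▸ f.ju_pair S.nd (by simp [form_smul, hp]) (by simp [hc])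
  have hpair : Pair Q (c • f.a') (f.j (c • p)) :=
    { hu := hpa.hw
      hw := hpp.hw
      huw := by simp [f.hja']
      hu0 := fun h => by
        have := congrArg (polar Q a) h
        simp [f.haa, hc] at this
      ind := fun d h => by
        have h' := congrArg (polar Q a) h
        simp [f.haa, f.hja] at h'
        rcases h' with h' | h'
        · rw [h', zero_smul, map_eq_zero_iff] at h
          · exact hp0 (by simpa [hc] using h)
          · exact fun x y e => sub_eq_zero.1 (S.nd.hyp (x - y) fun R => by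
              rw [← f.polar_j, map_sub, e, sub_self, polar_zero_left])
        · exact hc h' }
  have h := rl_add E S hpa hpp hpair hs (z := f.j z) (t := f.j t) (f.hju z) (by simp [f.hja'])
    (by simp [f.polar_j, hz]) (f.hju t) (by simp [f.hja']) (by simp [f.polar_j, ht])
    (by simp [f.polar_j, hzt])
  set g := E.s (ee Q a (f.j p)) with hg
  have hconj : g * rl E u (c • f.a') * g⁻¹ = rl E u (f.j (c • p) + c • f.a') := by
    rw [rl_conj E S hpa, hg, E.map_s, (shift_a' f c p).1, (shift_a' f c p).2, hp]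
    congr 1
    simp [add_comm]
  have hcm : E.cm (ee Q a (f.j p)) (ee Q u (c • f.a')) = ⁅g, rl E u (c • f.a')⁆ := by
    rw [E.cm_eq, hg, E.map_s, map_rl E S hpa]
  rw [hv, hp, mul_zero, rh_zero, mul_one, hcm, commutatorElement_def, hconj, h,
    mul_inv_cancel_right]

include S in
theorem hv_eq (f : Frame Q M u a) {c : F} (hc : c ≠ 0) (p : (F × F) × U) :
    hv E f c p = hv E f 1 (c • p) := by
  have h0 : ∀ d, hv E f d 0 = 1 := fun d => by
    have h := hv_add E S f d 0 0
    rw [add_zero] at h
    exact left_eq_mul.1 h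
  have hn : ∀ d x, hv E f d (-x) = (hv E f d x)⁻¹ := fun d x => eq_inv_of_mul_eq_one_left (by
    rw [← hv_add E S f, neg_add_cancel, h0])
  have hp : p ∈ AddSubgroup.closure {v : (F × F) × U | hyp M v = 0} :=
    closure_singular_eq_top (P := M) ▸ AddSubgroup.mem_top p
  induction hp using AddSubgroup.closure_induction with
  | mem x hx =>
    by_cases hx0 : x = 0
    · rw [hx0, smul_zero, h0, h0]
    rw [hv_singular E S f hc hx hx0,
      hv_singular E S f one_ne_zero (by rw [form_smul, hx, mul_zero]) (smul_ne_zero hc hx0), one_smul]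
  | zero => rw [smul_zero, h0, h0]
  | add x x' _ _ e e' => rw [smul_add, hv_add E S f, hv_add E S f, e, e']
  | neg x _ e => rw [smul_neg, hn, hn, e]

/-- The equivariant section over the transformations at `u`. -/
noncomputable def sect (f : Frame Q M u a) (P : (F × F) × ((F × F) × U)) : Γ :=
  rh E f P.1.1 * rh E f.flip P.1.2 * hv E f 1 P.2

theorem map_sect (f : Frame Q M u a) (P : (F × F) × ((F × F) × U)) :
    σ (sect E f P) = ee Q u (f.ju P) := by
  rw [sect, map_mul, map_mul, map_rh, map_rh, map_hv, one_smul,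
    ee_mul f.hu (by simp [f.hua]) (by simp [f.hua']),
    ee_mul f.hu (by simp [f.hua, f.hua', polar_add_right]) (f.hju _)]
  obtain ⟨⟨c, d⟩, p⟩ := P
  rw [f.ju_apply]

include S in
theorem sect_add (f : Frame Q M u a) (P R : (F × F) × ((F × F) × U)) :
    sect E f (P + R) = sect E f P * sect E f R := by
  have hx : ∀ c, σ (rh E f c) = ee Q u (c • a) := map_rh E f
  have hy : ∀ c, σ (rh E f.flip c) = ee Q u (c • f.a') := map_rh E f.flip
  have hz : ∀ p, σ (hv E f 1 p) = ee Q u (f.j p) := fun p => by rw [map_hv, one_smul]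
  have p1 : ∀ c : F, polar Q u (c • a) = 0 := fun c => by simp [f.hua]
  have p2 : ∀ c : F, polar Q u (c • f.a') = 0 := fun c => by simp [f.hua']
  show rh E f (P.1.1 + R.1.1) * rh E f.flip (P.1.2 + R.1.2) * hv E f 1 (P.2 + R.2) = _
  rw [rh_add, rh_add, hv_add E S f]
  set a₁ := rh E f P.1.1
  set a₂ := rh E f R.1.1
  set b₁ := rh E f.flip P.1.2
  set b₂ := rh E f.flip R.1.2
  set c₁ := hv E f 1 P.2
  set c₂ := hv E f 1 R.2
  have k1 : Commute a₂ b₁ := commute_pt E S f (hx _) (hy _) (p1 _) (p2 _)
  have k2 : Commute a₂ c₁ := commute_pt E S f (hx _) (hz _) (p1 _) (f.hju _)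
  have k3 : Commute b₂ c₁ := commute_pt E S f (hy _) (hz _) (p2 _) (f.hju _)
  rw [k1.mul_mul_mul_comm, (k2.mul_left k3).mul_mul_mul_comm]
  rfl

include S in
theorem sect_singular (f : Frame Q M u a) {P : (F × F) × ((F × F) × U)}
    (hP : hyp (hyp M) P = 0) (hP0 : P ≠ 0) : sect E f P = rl E u (f.ju P) := by
  obtain ⟨⟨x, c⟩, p⟩ := P
  have hv0 : ∀ d, hv E f d 0 = 1 := fun d => by
    have h := hv_add E S f d 0 0
    rw [add_zero] at h
    exact left_eq_mul.1 h
  by_cases hc : c = 0
  · subst hc
    simp at hP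
    show rh E f x * rh E f.flip 0 * hv E f 1 p = _
    rw [rh_zero, mul_one]
    by_cases hp0 : p = 0
    · subst hp0
      have hx : x ≠ 0 := fun h => hP0 (by simp [h])
      rw [hv0, mul_one, f.ju_apply, map_zero, zero_smul, add_zero, add_zero, rl_smul_a E S f hx]
    have hjp : f.ju ((0, 0), p) = f.j p := by simp [f.ju_apply]
    rw [hv_singular E S f one_ne_zero (by simpa using hP) hp0, one_smul]
    by_cases hx : x = 0
    · subst hx; rw [rh_zero, one_mul, hjp]
    have hp' : hyp M p = 0 := by simpa using hP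
    obtain ⟨z, t, hz, ht, hzt⟩ := exists_perp_polar_one S.nd S.hB hp' hp0
    have hj1 : f.ju ((x, 0), p) = x • a + f.j p := by simp [f.ju_apply]
    have hpa : Pair Q u (f.j p) := hjp ▸ f.ju_pair S.nd (by simp [hp']) (by simp [hp0])
    have hb : Pair Q u (x • a) := f.pair.smul hx
    have hs : Pair Q u (x • a + f.j p) := hj1 ▸ f.ju_pair S.nd (by simp [hp']) (by simp [hp0])
    have hpair : Pair Q (f.j p) (x • a) :=
      { hu := hpa.hw
        hw := hb.hw
        huw := by simp [polar_comm Q (f.j p), f.hja]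
        hu0 := fun h => hpa.ind 0 (by rw [h, zero_smul])
        ind := fun d h => by
          have := congrArg (polar Q f.a') h
          simp [f.hja', polar_comm Q f.a' a, f.haa, hx] at this }
    rw [hj1, rl_add E S hpa hb hpair hs (z := f.j z) (t := f.j t) (f.hju z) (by simp [f.polar_j, hz])
      (by simp [f.hja]) (f.hju t) (by simp [f.polar_j, ht]) (by simp [f.hja])
      (by simp [f.polar_j, hzt]), rl_smul_a E S f hx]
  set p₀ := c⁻¹ • p with hp₀
  have hp : p = c • p₀ := by rw [hp₀, smul_inv_smul₀ hc]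
  have hx : x = -(c * hyp M p₀) := by
    have h : x * c + hyp M p = 0 := by simpa using hP
    rw [hp, form_smul] at h
    exact mul_right_cancel₀ hc (by linear_combination h)
  have hpa : Pair Q u (c • f.a') := f.flip.pair.smul hc
  have hju : f.ju ((x, c), p) = (ee Q a (f.j p₀)).1.1 (c • f.a') := by
    rw [f.ju_apply, (shift_a' f c p₀).2, hp, hx]; abel
  have hconj := rl_conj E S hpa (E.s (ee Q a (f.j p₀)))
  rw [E.map_s, (shift_a' f c p₀).1, ← hju] at hconj
  have hcm : E.cm (ee Q a (f.j p₀)) (ee Q u (c • f.a')) =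
      ⁅E.s (ee Q a (f.j p₀)), rl E u (c • f.a')⁆ := by
    rw [E.cm_eq, E.map_s, map_rl E S hpa]
  have e : hv E f c p₀ * rh E f x = E.cm (ee Q a (f.j p₀)) (ee Q u (c • f.a')) := by
    rw [hv, mul_assoc, ← rh_add, hx, add_neg_cancel, rh_zero, mul_one]
  rw [hcm, commutatorElement_def, hconj, hv_eq E S f hc, ← hp] at e
  show rh E f x * rh E f.flip c * hv E f 1 p = _
  rw [← rl_smul_a E S f.flip hc]
  have k1 : Commute (rh E f x) (rl E u (c • f.a')) :=
    commute_pt E S f (map_rh E f x) (map_rl E S hpa) (by simp [f.hua]) hpa.huw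
  have k2 : Commute (rl E u (c • f.a')) (hv E f 1 p) :=
    commute_pt E S f (map_rl E S hpa) (by rw [map_hv, one_smul]) hpa.huw (f.hju p)
  have k3 : Commute (rh E f x) (hv E f 1 p) :=
    commute_pt E S f (map_rh E f x) (by rw [map_hv, one_smul]) (by simp [f.hua]) (f.hju p)
  rw [mul_assoc, k2.eq, ← mul_assoc, k3.eq, e, inv_mul_cancel_right]

/-- The subgroup generated by the canonical lifts at `u`. -/
noncomputable def rootGrp (u : V) : Subgroup Γ :=
  Subgroup.closure {g | ∃ w, Pair Q u w ∧ g = rl E u w}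

include S in
theorem rootGrp_conj (g : Γ) {u : V} {x : Γ} (hx : x ∈ rootGrp E u) :
    g * x * g⁻¹ ∈ rootGrp E ((σ g).1.1 u) := by
  have hle : rootGrp E u ≤
      Subgroup.comap (MulAut.conj g).toMonoidHom (rootGrp E ((σ g).1.1 u)) := by
    refine (Subgroup.closure_le _).2 ?_
    rintro _ ⟨w, hp, rfl⟩
    show g * rl E u w * g⁻¹ ∈ rootGrp E ((σ g).1.1 u)
    rw [rl_conj E S hp]
    exact Subgroup.subset_closure ⟨_, hp.map (σ g).1, rfl⟩
  exact hle hx

include S in
/-- **The complement at a point.** -/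
theorem rootGrp_spec (hu : ∃ w, Pair Q u w) :
    (∀ g ∈ rootGrp E u, σ g = 1 → g = 1) ∧
      (∀ z, polar Q u z = 0 → ∃ g ∈ rootGrp E u, σ g = ee Q u z) ∧
      ∀ g ∈ rootGrp E u, ∃ z, polar Q u z = 0 ∧ σ g = ee Q u z := by
  obtain ⟨w, hp⟩ := hu
  obtain ⟨c, ⟨f⟩⟩ := S.frames u w hp
  let L : Multiplicative ((F × F) × ((F × F) × U)) →* Γ :=
    MonoidHom.mk' (fun P => sect E f P.toAdd) fun P R => sect_add E S f _ _
  have hL : rootGrp E u = L.range := by
    refine le_antisymm ((Subgroup.closure_le _).2 ?_) ?_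
    · rintro _ ⟨b, hb, rfl⟩
      obtain ⟨p, e⟩ := f.decomp_perp hb.huw
      set P := (((polar Q f.a' b, polar Q (w + c • u) b), p) : (F × F) × ((F × F) × U))
      have eP : f.ju P = b + (-polar Q f.u' b) • u := by
        conv_rhs => arg 1; rw [e]
        module
      have hP : hyp (hyp M) P = 0 := by
        rw [← f.form_ju, eP]
        simp [form_add, form_smul, hb.hu, hb.hw, polar_comm Q b u, hb.huw]
      have hP0 : P ≠ 0 := fun h => hb.ind (polar Q f.u' b) (by
        rw [h, map_zero] at eP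
        exact eq_of_sub_eq_zero (by rw [eP, neg_smul, ← sub_eq_add_neg]))
      refine ⟨Multiplicative.ofAdd P, ?_⟩
      show sect E f P = rl E u b
      rw [sect_singular E S f hP hP0, eP]
      exact rl_shift E S hb _ (eP ▸ f.ju_pair S.nd hP hP0)
    · rintro _ ⟨P, rfl⟩
      have hP : P.toAdd ∈ AddSubgroup.closure
          {v : (F × F) × ((F × F) × U) | hyp (hyp M) v = 0} :=
        closure_singular_eq_top (P := hyp M) ▸ AddSubgroup.mem_top _
      show sect E f P.toAdd ∈ rootGrp E u
      generalize P.toAdd = R at hP ⊢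
      induction hP using AddSubgroup.closure_induction with
      | mem x hx =>
        by_cases hx0 : x = 0
        · rw [hx0]
          have : sect E f (0 : (F × F) × ((F × F) × U)) = 1 := map_one L
          rw [this]; exact one_mem _
        rw [sect_singular E S f hx hx0]
        exact Subgroup.subset_closure ⟨_, f.ju_pair S.nd hx hx0, rfl⟩
      | zero =>
        have : sect E f (0 : (F × F) × ((F × F) × U)) = 1 := map_one L
        rw [this]; exact one_mem _
      | add x x' _ _ e e' => rw [sect_add E S f]; exact mul_mem e e'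
      | neg x _ e =>
        have : sect E f (-x) = (sect E f x)⁻¹ := map_inv L (Multiplicative.ofAdd x)
        rw [this]; exact inv_mem e
  rw [hL]
  refine ⟨?_, fun z hz => ?_, ?_⟩
  · rintro _ ⟨P, rfl⟩ h
    have h1 : σ (sect E f P.toAdd) = 1 := h
    rw [map_sect] at h1
    have h2 : (ee Q u (f.ju P.toAdd)).1.1 f.u' = f.u' := by rw [h1]; rfl
    rw [ee_apply f.hu (f.polar_ju _), f.huu, one_smul, mul_one] at h2
    suffices h0 : P.toAdd = 0 by
      show sect E f P.toAdd = 1
      rw [h0]; exact map_one L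
    refine S.nd.hyp.hyp _ fun R => ?_
    have e : polar Q (f.ju P.toAdd) (f.ju R) = polar (hyp (hyp M)) P.toAdd R := by
      simp only [polar, ← map_add, f.form_ju]
    have h3 := congrArg (fun s => polar Q s (f.ju R)) h2
    simp only [polar_add_left, polar_sub_left, polar_smul_left, f.polar_ju, smul_zero, sub_zero]
      at h3
    rw [← e]
    linear_combination h3
  · obtain ⟨p, e⟩ := f.decomp_perp hz
    refine ⟨_, ⟨Multiplicative.ofAdd ((polar Q f.a' z, polar Q (w + c • u) z), p), rfl⟩, ?_⟩
    show σ (sect E f _) = _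
    conv_rhs => rw [e, add_comm, ee_add_smul f.hu (f.polar_ju _)]
    exact map_sect E f _
  · rintro _ ⟨P, rfl⟩
    exact ⟨f.ju P.toAdd, f.polar_ju _, map_sect E f _⟩

end Cfsg.Agent.ClassMult
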