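import Cfsg.Agent.ClassMult.QPart
import Cfsg.Agent.ClassMult.OmegaFacts
import Cfsg.Agent.ClassMult.Reduce
import Cfsg.Agent.CharB.PSLMult.SLn
import Cfsg.Agent.Lib.LinearGroup.Card

/-!
The Siegel parabolic of `O_{2l+1}` and the `p`-part of the multiplier of `Ω_{2l+1}` (helper74).
-/

set_option autoImplicit false

namespace Cfsg.Agent.ClassMult

open Matrix Cfsg.Agent.UnitaryOrthogonal Cfsg.Agent.CharB.PSLMult
open scoped commutatorElement

universe u v

/-- Reduction to kernels of exponent `p`. -/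
theorem pFree_of_exponent {G : Type v} [Group G] [Finite G] {p : ℕ} (hp : p.Prime) (H : Subgroup G)
    (hidx : ¬ p ∣ H.index)
    (h : ∀ (Γ : Type u) [Group Γ] (σ : Γ →* G), CEx σ → (∀ z ∈ σ.ker, z ^ p = 1) →
      σ.ker ⊓ ⁅H.comap σ, H.comap σ⁆ = ⊥) : PFree.{u} p G := by
  intro Γ _ _ σ hσ hd
  haveI := Fact.mk hp
  have hcom : ∀ a ∈ σ.ker, ∀ b : Γ, Commute a b := fun a ha b =>
    (Subgroup.mem_center_iff.1 (hσ.2.1 ha) b).symm
  let L : Subgroup Γ :=
    { carrier := {x | ∃ k ∈ σ.ker, k ^ p = x}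
      one_mem' := ⟨1, one_mem _, one_pow p⟩
      mul_mem' := by
        rintro a b ⟨k, hk, rfl⟩ ⟨m, hm, rfl⟩
        exact ⟨k * m, mul_mem hk hm, (hcom k hk m).mul_pow p⟩
      inv_mem' := by
        rintro a ⟨k, hk, rfl⟩
        exact ⟨k⁻¹, inv_mem hk, inv_pow k p⟩ }
  have hLK : L ≤ σ.ker := by
    rintro x ⟨k, hk, rfl⟩
    exact pow_mem hk p
  haveI : L.Normal := ⟨fun n hn g => by
    rw [← (hcom n (hLK hn) g).eq, mul_inv_cancel_right]
    exact hn⟩
  let τ : Γ ⧸ L →* G := QuotientGroup.lift L σ hLK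
  have hsurj : Function.Surjective τ := fun x => by
    obtain ⟨g, rfl⟩ := hσ.1 x
    exact ⟨g, QuotientGroup.lift_mk L _ g⟩
  have hker : ∀ x ∈ τ.ker, ∃ k ∈ σ.ker, QuotientGroup.mk k = x := fun x hx => by
    obtain ⟨g, rfl⟩ := QuotientGroup.mk_surjective x
    exact ⟨g, hx, rfl⟩
  have hc : τ.ker ≤ Subgroup.center (Γ ⧸ L) := fun x hx => by
    obtain ⟨k, hk, rfl⟩ := hker x hx
    refine Subgroup.mem_center_iff.2 fun y => ?_
    obtain ⟨g, rfl⟩ := QuotientGroup.mk_surjective y
    rw [← QuotientGroup.mk_mul, ← QuotientGroup.mk_mul, (hcom k hk g).eq]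
  have hexp : ∀ z ∈ τ.ker, z ^ p = 1 := fun x hx => by
    obtain ⟨k, hk, rfl⟩ := hker x hx
    rw [← QuotientGroup.mk_pow, QuotientGroup.eq_one_iff]
    exact ⟨k, hk, rfl⟩
  obtain ⟨z, hz, hzL⟩ : ∃ z ∈ σ.ker, z ∉ L := by
    by_contra hcon
    push Not at hcon
    obtain ⟨⟨w, hw⟩, hord⟩ := exists_prime_orderOf_dvd_card' p hd
    let f : σ.ker → σ.ker := fun k => ⟨k.1 ^ p, pow_mem k.2 p⟩
    have hf : Function.Surjective f := fun x => by
      obtain ⟨k, hk, e⟩ := hcon x.1 x.2
      exact ⟨⟨k, hk⟩, Subtype.ext e⟩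
    have hinj := Finite.injective_iff_surjective.2 hf
    rw [Subgroup.orderOf_mk] at hord
    have e : (⟨w, hw⟩ : σ.ker) = 1 := hinj (Subtype.ext (by
      show w ^ p = (1 : Γ) ^ p
      rw [one_pow, ← hord, pow_orderOf_eq_one]))
    rw [show w = 1 from congrArg Subtype.val e, orderOf_one] at hord
    exact hp.one_lt.ne hord
  have hstem : QuotientGroup.mk z ∈ commutator (Γ ⧸ L) := by
    have hle : (commutator Γ).map (QuotientGroup.mk' L) ≤ commutator (Γ ⧸ L) := by
      rw [_root_.commutator_def, Subgroup.map_commutator, _root_.commutator_def]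
      exact Subgroup.commutator_mono le_top le_top
    exact hle ⟨z, hσ.2.2 hz, rfl⟩
  have hz' : (QuotientGroup.mk z : Γ ⧸ L) ∈ τ.ker := hz
  have hmem := Cfsg.Agent.Schur.pow_index_mem_commutator (H.comap τ) (hc hz') hstem
  rw [Subgroup.map_subtype_commutator, Subgroup.index_comap_of_surjective H hsurj] at hmem
  have h1 : (QuotientGroup.mk z : Γ ⧸ L) ^ H.index ∈ τ.ker ⊓ ⁅H.comap τ, H.comap τ⁆ :=
    ⟨pow_mem hz' _, hmem⟩
  rw [h (Γ ⧸ L) τ ⟨hsurj, hc⟩ hexp, Subgroup.mem_bot] at h1
  have hord : orderOf (QuotientGroup.mk z : Γ ⧸ L) = p :=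
    orderOf_eq_prime (hexp _ hz') fun e => hzL ((QuotientGroup.eq_one_iff z).1 e)
  exact hidx (hord ▸ orderOf_dvd_of_pow_eq_one h1)

variable {F : Type v} [Field F] {l : ℕ}

/-- The space of `H^l ⊥ ⟨x²⟩`. -/
abbrev BV (l : ℕ) (F : Type v) : Type v := ((Fin l → F) × (Fin l → F)) × F

theorem bv_form (x y : Fin l → F) (z : F) :
    hypSum l (sqForm F) ((x, y), z) = x ⬝ᵥ y + z * z := by
  simp [dotProduct]

/-- `GL_l` on the hyperbolic part. -/
def glB : (Matrix (Fin l) (Fin l) F)ˣ →* orth (hypSum l (sqForm F)) where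
  toFun A := ⟨
    { toFun := fun v => (((A : Matrix (Fin l) (Fin l) F) *ᵥ v.1.1,
        ((A⁻¹ : (Matrix (Fin l) (Fin l) F)ˣ) : Matrix (Fin l) (Fin l) F)ᵀ *ᵥ v.1.2), v.2)
      invFun := fun v => ((((A⁻¹ : (Matrix (Fin l) (Fin l) F)ˣ) : Matrix (Fin l) (Fin l) F) *ᵥ v.1.1,
        (A : Matrix (Fin l) (Fin l) F)ᵀ *ᵥ v.1.2), v.2)
      map_add' := fun v w => by simp [mulVec_add]
      map_smul' := fun c v => by simp [mulVec_smul]
      left_inv := fun v => by simp [← transpose_mul]
      right_inv := fun v => by simp [← transpose_mul] }, fun v => by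
      obtain ⟨⟨x, y⟩, z⟩ := v
      show hypSum l (sqForm F) ((_, _), z) = _
      rw [bv_form, bv_form, dotProduct_mulVec, vecMul_transpose, mulVec_mulVec, A.inv_mul, one_mulVec]⟩
  map_one' := orth_ext fun v => by simp
  map_mul' A B := orth_ext fun v => by simp [← transpose_mul]

theorem glB_apply (A : (Matrix (Fin l) (Fin l) F)ˣ) (x y : Fin l → F) (z : F) :
    (glB A).1 ((x, y), z) = (((A : Matrix (Fin l) (Fin l) F) *ᵥ x,
      ((A⁻¹ : (Matrix (Fin l) (Fin l) F)ˣ) : Matrix (Fin l) (Fin l) F)ᵀ *ᵥ y), z) := rfl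

/-- The Levi part. -/
def levB : SpecialLinearGroup (Fin l) F →* orth (hypSum l (sqForm F)) :=
  glB.comp
    { toFun := fun A => ⟨A.1, (A⁻¹).1, congrArg Subtype.val (mul_inv_cancel A),
        congrArg Subtype.val (inv_mul_cancel A)⟩
      map_one' := Units.ext rfl
      map_mul' := fun A B => Units.ext rfl }

theorem levB_apply (A : SpecialLinearGroup (Fin l) F) (x y : Fin l → F) (z : F) :
    (levB A).1 ((x, y), z) = ((A.1 *ᵥ x, (A⁻¹).1ᵀ *ᵥ y), z) := rfl

theorem dot_altB (X : altM (Fin l) F) (y : Fin l → F) : (X.1 *ᵥ y) ⬝ᵥ y = 0 := by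
  simp only [dotProduct, mulVec, Finset.sum_mul]
  rw [← Fintype.sum_prod_type']
  refine Finset.sum_involution (fun p _ => (p.2, p.1)) (fun p _ => ?_) (fun p _ hp e => hp ?_)
    (fun p _ => Finset.mem_univ _) (fun p _ => rfl)
  · rw [X.2.1 p.1 p.2]; ring
  · rw [show p.2 = p.1 from congrArg Prod.fst e, X.2.2]; ring

/-- The alternating part of the unipotent radical. -/
def sgB (X : altM (Fin l) F) : orth (hypSum l (sqForm F)) :=
  ⟨{ toFun := fun v => ((v.1.1 + X.1 *ᵥ v.1.2, v.1.2), v.2)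
     invFun := fun v => ((v.1.1 - X.1 *ᵥ v.1.2, v.1.2), v.2)
     map_add' := fun v w => by simp [mulVec_add]; abel
     map_smul' := fun c v => by simp [mulVec_smul]
     left_inv := fun v => by simp
     right_inv := fun v => by simp }, fun v => by
    obtain ⟨⟨x, y⟩, z⟩ := v
    show hypSum l (sqForm F) ((_, y), z) = _
    rw [bv_form, bv_form, add_dotProduct, dot_altB, add_zero]⟩

theorem sgB_apply (X : altM (Fin l) F) (x y : Fin l → F) (z : F) :
    (sgB X).1 ((x, y), z) = ((x + X.1 *ᵥ y, y), z) := rfl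

/-- The vector part of the unipotent radical. -/
def vB (w : Fin l → F) : orth (hypSum l (sqForm F)) :=
  ⟨{ toFun := fun v => ((v.1.1 - (2 * v.2 + w ⬝ᵥ v.1.2) • w, v.1.2), v.2 + w ⬝ᵥ v.1.2)
     invFun := fun v => ((v.1.1 + (2 * v.2 - w ⬝ᵥ v.1.2) • w, v.1.2), v.2 - w ⬝ᵥ v.1.2)
     map_add' := fun a b => by
       refine Prod.ext (Prod.ext ?_ rfl) ?_
       · simp only [Prod.fst_add, Prod.snd_add, dotProduct_add]; module
       · simp only [Prod.fst_add, Prod.snd_add, dotProduct_add]; ring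
     map_smul' := fun c a => by
       refine Prod.ext (Prod.ext ?_ rfl) ?_
       · simp only [Prod.smul_fst, Prod.smul_snd, dotProduct_smul, smul_eq_mul, RingHom.id_apply]
         module
       · simp only [Prod.smul_fst, Prod.smul_snd, dotProduct_smul, smul_eq_mul, RingHom.id_apply]
         ring
     left_inv := fun a => by
       refine Prod.ext (Prod.ext ?_ rfl) ?_ <;> simp only
       · module
       · ring
     right_inv := fun a => by
       refine Prod.ext (Prod.ext ?_ rfl) ?_ <;> simp only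
       · module
       · ring }, fun v => by
    obtain ⟨⟨x, y⟩, z⟩ := v
    show hypSum l (sqForm F) ((x - (2 * z + w ⬝ᵥ y) • w, y), z + w ⬝ᵥ y) = _
    rw [bv_form, bv_form, sub_dotProduct, smul_dotProduct, smul_eq_mul]
    ring⟩

theorem vB_apply (w x y : Fin l → F) (z : F) :
    (vB w).1 ((x, y), z) = ((x - (2 * z + w ⬝ᵥ y) • w, y), z + w ⬝ᵥ y) := rfl

theorem glB_sgB (A : (Matrix (Fin l) (Fin l) F)ˣ) (X Y : altM (Fin l) F)
    (h : Y.1 = (A : Matrix (Fin l) (Fin l) F) * X.1 * (A : Matrix (Fin l) (Fin l) F)ᵀ) :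
    glB A * sgB X * (glB A)⁻¹ = sgB Y := by
  rw [mul_inv_eq_iff_eq_mul]
  refine orth_ext fun ⟨⟨x, y⟩, z⟩ => ?_
  rw [coe_mul_apply, coe_mul_apply, sgB_apply, glB_apply, glB_apply, sgB_apply, h, mulVec_add,
    mulVec_mulVec, mulVec_mulVec, Matrix.mul_assoc (_ * X.1) _ _, ← transpose_mul, A.inv_mul,
    transpose_one, Matrix.mul_one]

theorem glB_vB (A : (Matrix (Fin l) (Fin l) F)ˣ) (w : Fin l → F) :
    glB A * vB w * (glB A)⁻¹ = vB ((A : Matrix (Fin l) (Fin l) F) *ᵥ w) := by
  rw [mul_inv_eq_iff_eq_mul]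
  refine orth_ext fun ⟨⟨x, y⟩, z⟩ => ?_
  have e : ((A : Matrix (Fin l) (Fin l) F) *ᵥ w) ⬝ᵥ
      (((A⁻¹ : (Matrix (Fin l) (Fin l) F)ˣ) : Matrix (Fin l) (Fin l) F)ᵀ *ᵥ y) = w ⬝ᵥ y := by
    rw [dotProduct_mulVec, vecMul_transpose, mulVec_mulVec, A.inv_mul, one_mulVec]
  rw [coe_mul_apply, coe_mul_apply, vB_apply, glB_apply, glB_apply, vB_apply, e, mulVec_sub,
    mulVec_smul]

theorem sgB_add (X Y : altM (Fin l) F) : sgB (X + Y) = sgB X * sgB Y := orth_ext fun ⟨⟨x, y⟩, z⟩ => by
  rw [coe_mul_apply, sgB_apply, sgB_apply, sgB_apply, AddSubgroup.coe_add, add_mulVec, add_assoc,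
    add_comm (X.1 *ᵥ y)]

theorem oe_mulVec (a b y : Fin l → F) :
    (oe a b).1 *ᵥ y = (b ⬝ᵥ y) • a - (a ⬝ᵥ y) • b := by
  show (vecMulVec a b - vecMulVec b a) *ᵥ y = _
  rw [sub_mulVec, vecMulVec_mulVec, vecMulVec_mulVec]
  simp

theorem vB_mul (v w : Fin l → F) : vB v * vB w = sgB (oe w v) * vB (v + w) :=
  orth_ext fun ⟨⟨x, y⟩, z⟩ => by
    rw [coe_mul_apply, coe_mul_apply, vB_apply, vB_apply, vB_apply, sgB_apply, oe_mulVec,
      add_dotProduct]
    refine Prod.ext (Prod.ext ?_ rfl) ?_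
    · simp only
      module
    · simp only
      ring

theorem vB_comm (X : altM (Fin l) F) (v : Fin l → F) : Commute (sgB X) (vB v) :=
  orth_ext fun ⟨⟨x, y⟩, z⟩ => by
    rw [coe_mul_apply, coe_mul_apply, vB_apply, sgB_apply, sgB_apply, vB_apply]
    refine Prod.ext (Prod.ext ?_ rfl) rfl
    simp only
    abel

theorem qInj (h2 : (2 : F) ≠ 0) (X : altM (Fin l) F) (v : Fin l → F)
    (A : SpecialLinearGroup (Fin l) F) (h : sgB X * vB v * levB A = 1) :
    X = 0 ∧ v = 0 ∧ A = 1 := by
  have hh : ∀ (x y : Fin l → F) (z : F),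
      ((A.1 *ᵥ x - (2 * z + v ⬝ᵥ ((A⁻¹).1ᵀ *ᵥ y)) • v + X.1 *ᵥ ((A⁻¹).1ᵀ *ᵥ y),
        (A⁻¹).1ᵀ *ᵥ y), z + v ⬝ᵥ ((A⁻¹).1ᵀ *ᵥ y)) = (((x, y), z) : BV l F) := fun x y z => by
    have e := congrArg (fun g : orth (hypSum l (sqForm F)) => g.1 ((x, y), z)) h
    simp only [coe_mul_apply, levB_apply, vB_apply, sgB_apply, coe_one_apply] at e
    exact e
  have hA : A = 1 := by
    apply Subtype.ext
    apply Matrix.toLin'.injective
    refine LinearMap.ext fun x => ?_
    have e := congrArg (fun u : BV l F => u.1.1) (hh x 0 0)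
    simpa using e
  subst hA
  have hv : v = 0 := by
    have e := congrArg (fun u : BV l F => u.1.1) (hh 0 0 1)
    simp at e
    exact e.resolve_left h2
  refine ⟨Subtype.ext (Matrix.toLin'.injective (LinearMap.ext fun y => ?_)), hv, rfl⟩
  have e := congrArg (fun u : BV l F => u.1.1) (hh 0 y 0)
  simp [hv] at e
  simpa using e

/-- The swap of the `i`th coordinates. -/
def swapB (i : Fin l) : orth (hypSum l (sqForm F)) :=
  ⟨{ toFun := fun v => ((Function.update v.1.1 i (v.1.2 i), Function.update v.1.2 i (v.1.1 i)), v.2)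
     invFun := fun v => ((Function.update v.1.1 i (v.1.2 i), Function.update v.1.2 i (v.1.1 i)), v.2)
     map_add' := fun v w => by
      refine Prod.ext (Prod.ext ?_ ?_) rfl <;> funext j <;>
        simp [Function.update_apply] <;> split_ifs with h <;> simp
     map_smul' := fun c v => by
      refine Prod.ext (Prod.ext ?_ ?_) rfl <;> funext j <;>
        simp [Function.update_apply] <;> split_ifs with h <;> simp
     left_inv := fun v => by simp
     right_inv := fun v => by simp }, fun v => by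
    obtain ⟨⟨x, y⟩, z⟩ := v
    show hypSum l (sqForm F) ((_, _), z) = _
    rw [bv_form, bv_form]
    congr 1
    refine Finset.sum_congr rfl fun j _ => ?_
    by_cases hj : j = i
    · subst hj; simp [mul_comm]
    · simp [hj]⟩

theorem swapB_apply (i : Fin l) (x y : Fin l → F) (z : F) :
    (swapB (F := F) i).1 ((x, y), z) =
      ((Function.update x i (y i), Function.update y i (x i)), z) := rfl

/-- `μ` at `i`. -/
def dglB (i : Fin l) (μ : Fˣ) : (Matrix (Fin l) (Fin l) F)ˣ where
  val := Matrix.diagonal (fun k => if k = i then (μ : F) else 1)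
  inv := Matrix.diagonal (fun k => if k = i then ((μ⁻¹ : Fˣ) : F) else 1)
  val_inv := by
    rw [diagonal_mul_diagonal, ← diagonal_one]
    congr 1
    funext k
    split_ifs <;> simp
  inv_val := by
    rw [diagonal_mul_diagonal, ← diagonal_one]
    congr 1
    funext k
    split_ifs <;> simp

theorem torusB_mem (i : Fin l) (μ : Fˣ) :
    glB (dglB i (μ * μ)) ∈ commutator (orth (hypSum l (sqForm F))) := by
  have e : glB (dglB i (μ * μ)) = ⁅glB (dglB i μ), swapB (F := F) i⁆ := by
    rw [commutatorElement_def, eq_mul_inv_iff_mul_eq, eq_mul_inv_iff_mul_eq]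
    refine orth_ext fun ⟨⟨x, y⟩, z⟩ => ?_
    simp only [coe_mul_apply, swapB_apply, glB_apply]
    refine Prod.ext (Prod.ext (funext fun k => ?_) (funext fun k => ?_)) rfl <;>
    · by_cases hk : k = i
      · subst hk; simp [dglB, mulVec_diagonal]; field_simp
      · simp [dglB, mulVec_diagonal, hk]
  rw [e, _root_.commutator_def]
  exact Subgroup.commutator_mem_commutator (Subgroup.mem_top _) (Subgroup.mem_top _)

theorem levB_mem (hl : 3 ≤ l) (A : SpecialLinearGroup (Fin l) F) :
    levB A ∈ commutator (orth (hypSum l (sqForm F))) := by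
  have hA : A ∈ commutator (SpecialLinearGroup (Fin l) F) := by
    rw [LinearGroup.commutator_SL_eq_top (by simpa using hl)]; trivial
  have hle : (commutator (SpecialLinearGroup (Fin l) F)).map levB ≤
      commutator (orth (hypSum l (sqForm F))) := by
    rw [_root_.commutator_def, Subgroup.map_commutator, _root_.commutator_def]
    exact Subgroup.commutator_mono le_top le_top
  exact hle ⟨A, hA, rfl⟩

theorem sgB_zero : sgB (0 : altM (Fin l) F) = 1 := by
  have h := sgB_add (0 : altM (Fin l) F) 0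
  rw [add_zero] at h
  exact left_eq_mul.1 h

theorem sgB_mem (hl : 3 ≤ l) (X : altM (Fin l) F) :
    sgB X ∈ commutator (orth (hypSum l (sqForm F))) := by
  let H : AddSubgroup (altM (Fin l) F) :=
    { carrier := {X | sgB X ∈ commutator (orth (hypSum l (sqForm F)))}
      zero_mem' := by
        show sgB (0 : altM (Fin l) F) ∈ commutator (orth (hypSum l (sqForm F)))
        rw [sgB_zero]; exact one_mem _
      add_mem' := fun {A B} hA hB => by
        show sgB (A + B) ∈ commutator (orth (hypSum l (sqForm F)))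
        rw [sgB_add]; exact mul_mem hA hB
      neg_mem' := fun {A} hA => by
        show sgB (-A) ∈ commutator (orth (hypSum l (sqForm F)))
        rw [show sgB (-A) = (sgB A)⁻¹ from eq_inv_of_mul_eq_one_left
          (by rw [← sgB_add, neg_add_cancel, sgB_zero])]
        exact inv_mem hA }
  refine mem_of_xA_mem (H := H) (fun i j hij a => ?_) X
  show sgB (xA i j a) ∈ commutator (orth (hypSum l (sqForm F)))
  obtain ⟨k, hki, hkj⟩ : ∃ k : Fin l, k ≠ i ∧ k ≠ j := by
    have hcard : ({i, j} : Finset (Fin l)).card < (Finset.univ : Finset (Fin l)).card := by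
      rw [Finset.card_univ, Fintype.card_fin, Finset.card_pair hij]; omega
    obtain ⟨k, -, hk⟩ := Finset.exists_mem_notMem_of_card_lt_card hcard
    simp only [Finset.mem_insert, Finset.mem_singleton, not_or] at hk
    exact ⟨k, hk⟩
  have e : sgB (xA i j a) = ⁅levB (T i k (1 : F)), sgB (xA k j a)⁆ := by
    rw [commutatorElement_def, show levB (T i k (1 : F)) * sgB (xA k j a) *
        (levB (T i k (1 : F)))⁻¹ = sgB (cg (T i k 1) (xA k j a)) from glB_sgB _ _ _ rfl,
      cg_T_move hki.symm hkj, one_mul, eq_mul_inv_iff_mul_eq, ← sgB_add, add_comm]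
  rw [e, _root_.commutator_def]
  exact Subgroup.commutator_mem_commutator (Subgroup.mem_top _) (Subgroup.mem_top _)

theorem vB_mem (hl : 3 ≤ l) (v : Fin l → F) :
    vB v ∈ commutator (orth (hypSum l (sqForm F))) := by
  induction v using single_induction with
  | h0 =>
    have h := vB_mul (0 : Fin l → F) 0
    rw [oe_self, sgB_zero, one_mul, add_zero] at h
    rw [mul_eq_left.1 h]
    exact one_mem _
  | hadd x y hx hy =>
    have h : vB (x + y) = (sgB (oe y x))⁻¹ * (vB x * vB y) := by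
      rw [vB_mul]; group
    rw [h]
    exact mul_mem (inv_mem (sgB_mem hl _)) (mul_mem hx hy)
  | hs i a =>
    obtain ⟨j, hj⟩ : ∃ j : Fin l, j ≠ i := by
      haveI : Nontrivial (Fin l) := Fin.nontrivial_iff_two_le.2 (by omega)
      exact exists_ne i
    set v := (Pi.single j a : Fin l → F)
    set w := (Pi.single i a : Fin l → F)
    have hb : ⁅levB (T i j (1 : F)), vB v⁆ = vB (w + v) * (vB v)⁻¹ := by
      rw [commutatorElement_def, show levB (T i j (1 : F)) * vB v * (levB (T i j (1 : F)))⁻¹ =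
        vB ((T i j (1 : F)).1 *ᵥ v) from glB_vB _ _, T_mulVec_single hj.symm, if_pos rfl, one_mul,
        add_comm]
    have e : vB w = sgB (oe v w) * ⁅levB (T i j (1 : F)), vB v⁆ := by
      rw [hb, ← mul_assoc, eq_mul_inv_iff_mul_eq, vB_mul]
    rw [e]
    refine mul_mem (sgB_mem hl _) ?_
    rw [_root_.commutator_def]
    exact Subgroup.commutator_mem_commutator (Subgroup.mem_top _) (Subgroup.mem_top _)

/-- **The `p`-part for `Ω_{2l+1}`.** -/
theorem pFree_odd [Finite F] {p : ℕ} (hp : p.Prime) [CharP F p] (h2 : (2 : F) ≠ 0) (hl : 3 ≤ l)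
    (h3 : l = 3 → Nat.card F ≠ 3) :
    PFree.{u} p (commutator (orth (hypSum l (sqForm F)))) := by
  classical
  haveI := Fintype.ofFinite F
  have hpq : p ∣ Nat.card F := by
    obtain ⟨e, -, he⟩ := FiniteField.card F p
    rw [Nat.card_eq_fintype_card, he]
    exact dvd_pow_self _ e.2.ne'
  have hp2 : p ≠ 2 := fun e => h2 (by subst e; exact_mod_cast CharP.cast_eq_zero F 2)
  have hq2 : Nat.card F ≠ 2 := fun h => h2 (by
    have := (CharP.cast_eq_zero_iff F p 2).2 (h ▸ hpq)
    exact_mod_cast this)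
  have hbig : l = 3 → ∃ μ : F, μ ≠ 0 ∧ μ ^ 2 ≠ 1 := fun hl3 => by
    by_contra hA
    push Not at hA
    refine h3 hl3 ?_
    have huniv : (Finset.univ : Finset F) = {0, 1, -1} :=
      (Finset.eq_of_subset_of_card_le (s := (Finset.univ : Finset F)) (t := {0, 1, -1})
        (fun x _ => by
          by_cases hx : x = 0
          · simp [hx]
          · rcases sq_eq_one_iff.1 (hA x hx) with h | h <;> simp [h]) (Finset.card_le_univ _))
    rw [Nat.card_eq_fintype_card, ← Finset.card_univ, huniv]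
    have h11 : (1 : F) ≠ -1 := fun h => h2 (by linear_combination h)
    simp [Finset.card_insert_of_notMem, h11, eq_comm (a := (0 : F))]
  let G := ↥(commutator (orth (hypSum l (sqForm F))))
  let lev' : SpecialLinearGroup (Fin l) F →* G := levB.codRestrict _ (levB_mem hl)
  let va' : (Fin l → F) → G := fun v => ⟨vB v, vB_mem hl v⟩
  let sg' : altM (Fin l) F → G := fun X => ⟨sgB X, sgB_mem hl X⟩
  have D : QDatum lev' va' sg' :=
    { two := h2
      three := by simpa using hl
      big := fun h => hbig (by simpa using h)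
      add := fun X Y => Subtype.ext (sgB_add X Y)
      rel := fun A X => Subtype.ext (glB_sgB _ X (cg A X) rfl)
      relv := fun A v => Subtype.ext (glB_vB _ v)
      mulv := fun v w => Subtype.ext (vB_mul v w)
      commv := fun X v => Subtype.ext (vB_comm X v)
      inj := fun X v A h => qInj h2 X v A (congrArg Subtype.val h)
      torus := fun h i => by
        obtain ⟨μ, hμ0, hμ⟩ := hbig (by simpa using h)
        refine ⟨⟨_, torusB_mem i (Units.mk0 μ hμ0)⟩, μ ^ 2, hμ, fun a => Subtype.ext ?_,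
          fun a b u ha hb => Subtype.ext (glB_sgB _ _ _ ?_)⟩
        · show glB _ * vB _ * (glB _)⁻¹ = vB _
          rw [glB_vB]
          congr 1
          funext k
          simp only [dglB, mulVec_diagonal, Units.val_mul, Units.val_mk0]
          by_cases hk : k = i
          · subst hk; simp [pow_two]
          · simp [hk]
        · show _ = Matrix.diagonal _ * xm a b u * (Matrix.diagonal _)ᵀ
          ext r s
          simp only [xA, xm, Matrix.diagonal_transpose, Matrix.mul_diagonal, Matrix.diagonal_mul,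
            Matrix.sub_apply, Matrix.single_apply, Units.val_mul, Units.val_mk0]
          by_cases h1 : a = r ∧ b = s
          · obtain ⟨rfl, rfl⟩ := h1
            simp [ha, hb]
          · by_cases h2 : b = r ∧ a = s
            · obtain ⟨rfl, rfl⟩ := h2
              simp [ha, hb]
            · simp [h1, h2] }
  let H : Subgroup G := qhSub D
  have hH : Nat.card H = Nat.card (altM (Fin l) F) * Nat.card (Fin l → F) *
      Nat.card (SpecialLinearGroup (Fin l) F) := by
    let f : (altM (Fin l) F × (Fin l → F)) × SpecialLinearGroup (Fin l) F → H := fun x =>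
      ⟨sg' x.1.1 * va' x.1.2 * lev' x.2, x.1.1, x.1.2, x.2, rfl⟩
    have hf : Function.Bijective f := by
      constructor
      · rintro ⟨⟨X, v⟩, A⟩ ⟨⟨Y, w⟩, B⟩ e
        have e' : sgB X * vB v * levB A = sgB Y * vB w * levB B :=
          congrArg (fun g : H => (g.1 : G).1) e
        have hz : ∀ u : Fin l → F, vB (-u) = (vB u)⁻¹ := fun u =>
          congrArg Subtype.val (D.va_neg u)
        have hn : sgB (-Y) = (sgB Y)⁻¹ := congrArg Subtype.val (D.sg_neg Y)
        have e2 : sgB (-Y + X + oe v (-w)) * vB (-w + v) * levB (A * B⁻¹) = 1 := by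
          rw [sgB_add, sgB_add, mul_assoc (sgB (-Y) * sgB X), ← vB_mul, hz, hn, map_mul, map_inv]
          calc (sgB Y)⁻¹ * sgB X * ((vB w)⁻¹ * vB v) * (levB A * (levB B)⁻¹)
              = (sgB Y)⁻¹ * ((sgB X * (vB w)⁻¹) * vB v) * (levB A * (levB B)⁻¹) := by group
            _ = (sgB Y)⁻¹ * (vB w)⁻¹ * (sgB X * vB v * levB A) * (levB B)⁻¹ := by
                rw [(vB_comm X w).inv_right.eq]; group
            _ = 1 := by
                rw [e', ← (vB_comm Y w).inv_inv.symm.eq]; group
        obtain ⟨h1, hv, h3⟩ := qInj h2 _ _ _ e2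
        have hvw : v = w := by rwa [neg_add_eq_zero, eq_comm] at hv
        subst hvw
        have hAB : A = B := mul_inv_eq_one.1 h3
        subst hAB
        have hXY : sgB X = sgB Y := mul_right_cancel (mul_right_cancel e')
        rw [show oe v (-v) = 0 by rw [oe_swap, oe_neg_left, oe_self, neg_zero, neg_zero], add_zero,
          neg_add_eq_zero] at h1
        rw [h1]
      · rintro ⟨g, X, v, A, e⟩
        exact ⟨((X, v), A), Subtype.ext e.symm⟩
    rw [← Nat.card_congr (Equiv.ofBijective f hf), Nat.card_prod, Nat.card_prod]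
  refine pFree_of_exponent hp H ?_ fun Γ _ σ E hexp => ?_
  · obtain ⟨k, rfl⟩ : ∃ k, l = k + 2 := ⟨l - 2, by omega⟩
    obtain ⟨-, hodd⟩ := index_commutator_orth (base_sqForm (F := F) h2) (k := k)
      (Or.inl (show 1 ≤ k by omega))
    set q := Nat.card F with hqdef
    set R := ∏ i ∈ Finset.range (k + 2), (q ^ (2 * (i + 1)) - 1) with hR
    have hpR : ¬ p ∣ R := by
      intro hd
      obtain ⟨i, -, hi⟩ := (Prime.dvd_finsetProd_iff hp.prime _).1 hd
      have := Nat.dvd_sub (dvd_pow hpq (show 2 * (i + 1) ≠ 0 by omega)) hi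
      rw [Nat.sub_sub_self (Nat.one_le_pow _ _ Finite.card_pos)] at this
      exact hp.not_dvd_one this
    obtain ⟨c, hc⟩ : q ^ ((k + 2) ^ 2) ∣ Nat.card H := by
      rw [hH, Nat.card_congr (show altM (Fin (k + 2)) F ≃ ((i : Fin (k + 2)) × Fin i → F) from
        { toFun := fun X p => X.1 ⟨p.2, p.2.2.trans p.1.2⟩ p.1
          invFun := fun f => ⟨fun a b => if h : a < b then f ⟨b, ⟨a, h⟩⟩
            else if h' : b < a then -f ⟨a, ⟨b, h'⟩⟩ else 0, by
            refine ⟨fun a b => ?_, fun a => by simp⟩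
            rcases lt_trichotomy a b with h | h | h
            · simp [h, lt_asymm h]
            · subst h; simp
            · simp [h, lt_asymm h]⟩
          left_inv := fun X => by
            apply Subtype.ext
            funext a b
            rcases lt_trichotomy a b with h | h | h
            · simp [h]
            · subst h; simp [X.2.2]
            · simp [h, lt_asymm h, X.2.1 b a]
          right_inv := fun f => by
            funext ⟨b, a⟩
            have h : (⟨a.1, a.2.trans b.2⟩ : Fin (k + 2)) < b := a.2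
            simp [h] }), Nat.card_fun, Nat.card_fun,
        show k + 2 = k + 1 + 1 from rfl, LinearGroup.card_SL_eq_pow_mul_prod, Nat.card_sigma]
      simp only [Nat.card_eq_fintype_card (α := Fin _), Fintype.card_fin]
      rw [← mul_assoc, ← pow_add, ← pow_add, Fin.sum_univ_eq_sum_range (fun i => i) (k + 1 + 1)]
      refine Dvd.dvd.mul_right (pow_dvd_pow _ (le_of_eq ?_)) _
      have h := Finset.sum_range_id_mul_two (k + 1 + 1)
      simp only [Nat.add_sub_cancel] at h
      have e : (k + 1 + 1) ^ 2 = (k + 1 + 1) * (k + 1) + (k + 1 + 1) := by ring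
      rw [e]
      linarith [h]
    have h1 := (commutator (orth (hypSum (k + 2) (sqForm F)))).card_mul_index
    have h2' := H.card_mul_index
    rw [← h2', hc, card_orth_odd h2, hodd h2] at h1
    have h3' : c * H.index * 4 = 2 * R := by
      refine Nat.eq_of_mul_eq_mul_left (Nat.pow_pos (n := (k + 2) ^ 2) (Finite.card_pos (α := F))) ?_
      rw [← hqdef] at h1 ⊢
      rw [← hR] at h1
      linarith [h1]
    intro hd
    rcases (Nat.Prime.dvd_mul hp).1 (show p ∣ 2 * R by
      rw [← h3']; exact dvd_mul_of_dvd_left (dvd_mul_of_dvd_right hd c) 4) with h | h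
    · exact hp2 ((Nat.prime_dvd_prime_iff_eq hp Nat.prime_two).1 h)
    · exact hpR h
  · refine ker_inf_commutator_q E D (fun z hz hz2 => ?_)
      (multiplier_SL l hl (fun h => ⟨hq2, fun h4 => ?_⟩) (fun _ => hq2)) fun g hg => hg
    · obtain ⟨m, hm⟩ := hp.odd_of_ne_two hp2
      have h := hexp z hz
      rwa [hm, pow_succ, pow_mul, pow_two, hz2, one_pow, one_mul] at h
    · exact hp2 ((Nat.prime_dvd_prime_iff_eq hp Nat.prime_two).1
        (hp.dvd_of_dvd_pow (show p ∣ 2 ^ 2 by rw [show (2 : ℕ) ^ 2 = 4 from rfl, ← h4]; exact hpq)))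

end Cfsg.Agent.ClassMult
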