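import Cfsg.Agent.ClassMult.Spin
import Cfsg.Agent.ClassMult.PlusBound
import Cfsg.Agent.Lib.Schur.Basic

/-!
The Schur multipliers of `PΩ⁺_2l` (helper74).
-/

set_option autoImplicit false

namespace Cfsg.Agent.ClassMult

open Cfsg.Agent.UnitaryOrthogonal QuadraticMap
open CliffordAlgebra (ι involute reverse)

universe v w

variable {F : Type v} [Field F] {V : Type w} [AddCommGroup V] [Module F V] {Q : QuadraticForm F V}

/-- The product of the sign elements of hyperbolic pairs. -/
theorem exists_pairs_sign {n : ℕ} (e f : Fin n → V) (he : ∀ i, Q (e i) = 0) (hf : ∀ i, Q (f i) = 0)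
    (hef : ∀ i, polar Q (e i) (f i) = 1)
    (hee : ∀ i j, i ≠ j → polar Q (e i) (e j) = 0) (hff : ∀ i j, i ≠ j → polar Q (f i) (f j) = 0)
    (hef' : ∀ i j, i ≠ j → polar Q (e i) (f j) = 0) :
    ∃ ω : CliffordAlgebra Q, ω ∈ CliffordAlgebra.even Q ∧ ω * ω = 1 ∧
      reverse (Q := Q) ω = (-1) ^ n * ω ∧
      (∀ x ∈ Submodule.span F (Set.range e ∪ Set.range f), ω * ι Q x = -(ι Q x * ω)) ∧
      ∀ x, (∀ i, polar Q (e i) x = 0 ∧ polar Q (f i) x = 0) → Commute ω (ι Q x) := by
  classical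
  let h : Fin n → CliffordAlgebra Q := fun i => 1 - 2 * (ι Q (e i) * ι Q (f i))
  have hswap : ∀ i, ι Q (f i) * ι Q (e i) = 1 - ι Q (e i) * ι Q (f i) := fun i => by
    rw [ι_mul_ι, polar_comm, hef, map_one]
  have se : ∀ i, ι Q (e i) * ι Q (e i) = 0 := fun i => ι_sq_of_singular Q (he i)
  have sf : ∀ i, ι Q (f i) * ι Q (f i) = 0 := fun i => ι_sq_of_singular Q (hf i)
  have efe : ∀ i, ι Q (e i) * ι Q (f i) * ι Q (e i) = ι Q (e i) := fun i => by
    rw [mul_assoc, hswap, mul_sub, mul_one, ← mul_assoc, se, zero_mul, sub_zero]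
  have fef : ∀ i, ι Q (f i) * ι Q (e i) * ι Q (f i) = ι Q (f i) := fun i => by
    rw [hswap, sub_mul, one_mul, mul_assoc, sf, mul_zero, sub_zero]
  have anti : ∀ i, ∀ x ∈ [e i, f i], h i * ι Q x = -(ι Q x * h i) := by
    intro i x hx
    simp only [List.mem_cons, List.not_mem_nil, or_false] at hx
    rcases hx with rfl | rfl
    · show (1 - 2 * _) * _ = -(_ * (1 - 2 * _))
      rw [sub_mul, one_mul, mul_assoc, efe, mul_sub, mul_one, two_mul, two_mul, mul_add,
        ← mul_assoc, se, zero_mul]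
      abel
    · show (1 - 2 * _) * _ = -(_ * (1 - 2 * _))
      rw [sub_mul, one_mul, mul_assoc, mul_assoc, sf, mul_zero, mul_zero, mul_sub, mul_one,
        two_mul, mul_add, ← mul_assoc, fef]
      abel
  have hsq : ∀ i, h i * h i = 1 := fun i => by
    have : ι Q (e i) * ι Q (f i) * (ι Q (e i) * ι Q (f i)) = ι Q (e i) * ι Q (f i) := by
      rw [← mul_assoc, efe]
    show (1 - 2 * _) * (1 - 2 * _) = 1
    simp only [two_mul, mul_sub, sub_mul, mul_add, add_mul, mul_one, one_mul, this]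
    abel
  have hrev : ∀ i, reverse (Q := Q) (h i) = -h i := fun i => by
    show reverse (Q := Q) (1 - 2 * _) = -(1 - 2 * _)
    simp only [two_mul, map_sub, map_add, CliffordAlgebra.reverse.map_one,
      CliffordAlgebra.reverse.map_mul, CliffordAlgebra.reverse_ι, hswap]
    abel
  have heven : ∀ i, h i ∈ CliffordAlgebra.even Q := fun i => by
    show 1 - 2 * _ ∈ _
    rw [two_mul]
    exact sub_mem (one_mem _) (add_mem (CliffordAlgebra.ι_mul_ι_mem_evenOdd_zero Q _ _)
      (CliffordAlgebra.ι_mul_ι_mem_evenOdd_zero Q _ _))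
  have comm : ∀ i j, i ≠ j → ∀ x ∈ [e j, f j], Commute (h i) (ι Q x) := by
    intro i j hij x hx
    simp only [List.mem_cons, List.not_mem_nil, or_false] at hx
    have key : ι Q (e i) * ι Q x = -(ι Q x * ι Q (e i)) ∧
        ι Q (f i) * ι Q x = -(ι Q x * ι Q (f i)) := by
      rcases hx with rfl | rfl
      · exact ⟨by rw [ι_mul_ι, hee i j hij, map_zero, zero_sub],
          by rw [ι_mul_ι, polar_comm, hef' j i hij.symm, map_zero, zero_sub]⟩
      · exact ⟨by rw [ι_mul_ι, hef' i j hij, map_zero, zero_sub],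
          by rw [ι_mul_ι, hff i j hij, map_zero, zero_sub]⟩
    show (1 - 2 * _) * _ = _ * (1 - 2 * _)
    rw [sub_mul, mul_sub, one_mul, mul_one, two_mul, add_mul, mul_add, mul_assoc, key.2, mul_neg,
      ← mul_assoc, key.1, neg_mul, neg_neg, mul_assoc]
  have key : ∀ L : List (Fin n), L.Nodup →
      (L.map h).prod ∈ CliffordAlgebra.even Q ∧
      (L.map h).prod * (L.map h).prod = 1 ∧
      reverse (Q := Q) (L.map h).prod = (-1) ^ L.length * (L.map h).prod ∧
      ∀ j, ∀ x ∈ [e j, f j],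
        (j ∈ L → (L.map h).prod * ι Q x = -(ι Q x * (L.map h).prod)) ∧
        (j ∉ L → Commute (L.map h).prod (ι Q x)) := by
    intro L hL
    induction L with
    | nil =>
      refine ⟨one_mem _, ?_, ?_, fun j x _ => ⟨fun hj => absurd hj (List.not_mem_nil), fun _ => ?_⟩⟩
      · simp
      · simp [CliffordAlgebra.reverse.map_one]
      · exact Commute.one_left _
    | cons i L ih =>
      obtain ⟨hi, hL'⟩ := List.nodup_cons.1 hL
      obtain ⟨i1, i2, i3, i4⟩ := ih hL'
      have hc : Commute (h i) (L.map h).prod := by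
        have c1 := (i4 i (e i) (by simp)).2 hi
        have c2 := (i4 i (f i) (by simp)).2 hi
        show Commute (1 - 2 * _) _
        exact (Commute.one_left _).sub_left
          ((show Commute (2 : CliffordAlgebra Q) _ from one_add_one_eq_two (R := CliffordAlgebra Q) ▸
            (Commute.one_left _).add_left (Commute.one_left _)).mul_left (c1.symm.mul_left c2.symm))
      rw [List.map_cons, List.prod_cons]
      refine ⟨mul_mem (heven i) i1, ?_, ?_, fun j x hx => ⟨fun hj => ?_, fun hj => ?_⟩⟩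
      · rw [hc.symm.mul_mul_mul_comm, hsq, i2, one_mul]
      · rw [CliffordAlgebra.reverse.map_mul, hrev, i3, List.length_cons, pow_succ, hc.eq]
        simp [mul_assoc]
      · rcases eq_or_ne i j with rfl | hne
        · rw [mul_assoc, ((i4 i x hx).2 hi).eq, ← mul_assoc, anti i x hx, neg_mul, mul_assoc]
        · rw [mul_assoc, (i4 j x hx).1 ((List.mem_cons.1 hj).resolve_left hne.symm), mul_neg,
            ← mul_assoc, (comm i j hne x hx).eq, mul_assoc]
      · rw [List.mem_cons, not_or] at hj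
        exact Commute.mul_left (comm i j (Ne.symm hj.1) x hx) ((i4 j x hx).2 hj.2)
  obtain ⟨w1, w2, w3, w4⟩ := key (List.finRange n) (List.nodup_finRange n)
  rw [List.length_finRange] at w3
  refine ⟨_, w1, w2, w3, fun x hx => ?_, fun x hx => ?_⟩
  · induction hx using Submodule.span_induction with
    | mem y hy =>
      rcases hy with ⟨j, rfl⟩ | ⟨j, rfl⟩
      · exact (w4 j _ (by simp)).1 (List.mem_finRange j)
      · exact (w4 j _ (by simp)).1 (List.mem_finRange j)
    | zero => simp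
    | add a b _ _ ha hb => rw [map_add, mul_add, add_mul, ha, hb]; abel
    | smul c a _ ha => rw [map_smul, mul_smul_comm, smul_mul_assoc, ha, smul_neg]
  · refine Commute.list_prod_left _ _ fun y hy => ?_
    obtain ⟨i, -, rfl⟩ := List.mem_map.1 hy
    have k1 : ι Q (e i) * ι Q x = -(ι Q x * ι Q (e i)) := by
      rw [ι_mul_ι, (hx i).1, map_zero, zero_sub]
    have k2 : ι Q (f i) * ι Q x = -(ι Q x * ι Q (f i)) := by
      rw [ι_mul_ι, (hx i).2, map_zero, zero_sub]
    show (1 - 2 * _) * _ = _ * (1 - 2 * _)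
    rw [sub_mul, mul_sub, one_mul, mul_one, two_mul, add_mul, mul_add, mul_assoc, k2, mul_neg,
      ← mul_assoc, k1, neg_mul, neg_neg, mul_assoc]

/-- A lift of `-1` from an element anticommuting with all vectors. -/
theorem sq_of_anticommute [Invertible (2 : F)] [FiniteDimensional F V] (hQ : PolarND Q) {n : ℕ}
    {ω : CliffordAlgebra Q} {r : F} (hr : r ≠ 0) (w1 : ω ∈ CliffordAlgebra.even Q)
    (w2 : ω * ω = algebraMap F _ r) (w3 : reverse (Q := Q) ω = (-1) ^ n * ω)
    (wanti : ∀ x : V, ω * ι Q x = -(ι Q x * ω))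
    {p : (CliffordAlgebra Q)ˣ × orth Q} (hp : p ∈ spin Q) (hneg : p.2 = negOne Q) :
    (p.1 : CliffordAlgebra Q) * p.1 = (-1) ^ n := by
  classical
  obtain ⟨g1, g2, -, g4⟩ := spin_props hp
  obtain ⟨c, hc⟩ := mem_range_algebraMap_of_commute hQ (mul_mem g1 w1) fun x => by
    show (p.1 : CliffordAlgebra Q) * ω * ι Q x = ι Q x * (p.1 * ω)
    rw [mul_assoc, wanti, mul_neg, ← mul_assoc, g4, hneg, negOne_apply, map_neg, neg_mul, neg_mul,
      neg_neg, mul_assoc]
  have hcw : ∀ (s : F) (y : CliffordAlgebra Q), y * algebraMap F _ s = algebraMap F _ s * y :=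
    fun s y => (Algebra.commutes s y).symm
  have hg : (p.1 : CliffordAlgebra Q) = algebraMap F (CliffordAlgebra Q) (c * r⁻¹) * ω := by
    calc (p.1 : CliffordAlgebra Q) = p.1 * ω * ω * algebraMap F _ r⁻¹ := by
          rw [mul_assoc (p.1 : CliffordAlgebra Q), w2, mul_assoc, ← map_mul, mul_inv_cancel₀ hr,
            map_one, mul_one]
      _ = algebraMap F _ c * ω * algebraMap F _ r⁻¹ := by rw [hc]
      _ = _ := by rw [mul_assoc, hcw r⁻¹ ω, ← mul_assoc, ← map_mul]
  generalize c * r⁻¹ = d at hg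
  have hg2 : (p.1 : CliffordAlgebra Q) * p.1 = algebraMap F (CliffordAlgebra Q) (d * d * r) := by
    rw [hg, mul_assoc, ← mul_assoc ω, hcw d ω, mul_assoc, w2, ← map_mul, ← map_mul, mul_assoc]
  rw [hg2]
  rw [hg, CliffordAlgebra.reverse.map_mul, w3, CliffordAlgebra.reverse.commutes] at g2
  have g3 : algebraMap F (CliffordAlgebra Q) (d * d * r) * (-1) ^ n = 1 := by
    conv_rhs => rw [← g2]
    rcases neg_one_pow_eq_or (CliffordAlgebra Q) n with e' | e' <;> rw [e']
    · rw [mul_one, one_mul, ← mul_assoc (algebraMap F (CliffordAlgebra Q) d * ω),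
        mul_assoc (algebraMap F (CliffordAlgebra Q) d) ω ω, w2, ← map_mul, ← map_mul]
      congr 1; ring
    · rw [neg_one_mul, mul_neg, mul_one, neg_mul, mul_neg,
        ← mul_assoc (algebraMap F (CliffordAlgebra Q) d * ω),
        mul_assoc (algebraMap F (CliffordAlgebra Q) d) ω ω, w2, ← map_mul, ← map_mul]
      congr 2; ring
  calc algebraMap F (CliffordAlgebra Q) (d * d * r)
      = algebraMap F (CliffordAlgebra Q) (d * d * r) * ((-1) ^ n * (-1) ^ n) := by
        rw [← pow_add, ← two_mul, pow_mul, neg_one_sq, one_pow, mul_one]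
    _ = (-1) ^ n := by rw [← mul_assoc, g3, one_mul]

/-- A lift of `-1` squares to `(-1)^n` in dimension `2 n`. -/
theorem sq_of_negOne [Invertible (2 : F)] [FiniteDimensional F V] (hQ : PolarND Q) {n : ℕ}
    (e f : Fin n → V) (he : ∀ i, Q (e i) = 0) (hf : ∀ i, Q (f i) = 0)
    (hef : ∀ i, polar Q (e i) (f i) = 1)
    (hee : ∀ i j, i ≠ j → polar Q (e i) (e j) = 0) (hff : ∀ i j, i ≠ j → polar Q (f i) (f j) = 0)
    (hef' : ∀ i j, i ≠ j → polar Q (e i) (f j) = 0)
    (hspan : Submodule.span F (Set.range e ∪ Set.range f) = ⊤)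
    {p : (CliffordAlgebra Q)ˣ × orth Q} (hp : p ∈ spin Q) (hneg : p.2 = negOne Q) :
    (p.1 : CliffordAlgebra Q) * p.1 = (-1) ^ n := by
  obtain ⟨ω, w1, w2, w3, w4, -⟩ := exists_pairs_sign e f he hf hef hee hff hef'
  exact sq_of_anticommute hQ one_ne_zero w1 (w2.trans (map_one _).symm) w3
    (fun x => w4 x (hspan ▸ Submodule.mem_top)) hp hneg

/-- The lift of `-1` in the cover of `PΩ⁺`. -/
theorem sq_of_negOne_plus [Finite F] [Invertible (2 : F)] (k : ℕ)
    {p : (CliffordAlgebra (hyp (hyp (hypSum k (zeroForm F)))))ˣ ×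
      orth (hyp (hyp (hypSum k (zeroForm F))))}
    (hp : p ∈ spin _) (hneg : p.2 = negOne _) :
    (p.1 : CliffordAlgebra (hyp (hyp (hypSum k (zeroForm F))))) * p.1 = (-1) ^ (k + 2) := by
  classical
  let ψ := hypSumTwo (zeroForm F) k
  let E : Fin (k + 2) → ((Fin (k + 2) → F) × (Fin (k + 2) → F)) × (Fin 0 → F) :=
    fun i => ((Pi.single i 1, 0), 0)
  let G : Fin (k + 2) → ((Fin (k + 2) → F) × (Fin (k + 2) → F)) × (Fin 0 → F) :=
    fun i => ((0, Pi.single i 1), 0)
  have hpol : ∀ a b, polar (hyp (hyp (hypSum k (zeroForm F)))) (ψ a) (ψ b) =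
      polar (hypSum (k + 2) (zeroForm F)) a b := fun a b => by
    simp only [polar]
    rw [← map_add, ψ.map_app, ψ.map_app, ψ.map_app]
  refine sq_of_negOne ((base_zeroForm (F := F)).nd.hypSum k).hyp.hyp (fun i => ψ (E i))
    (fun i => ψ (G i)) ?_ ?_ ?_ ?_ ?_ ?_ ?_ hp hneg
  · intro i; rw [ψ.map_app]; simp [E, zeroForm]
  · intro i; rw [ψ.map_app]; simp [G, zeroForm]
  · intro i; rw [hpol]; simp [polar, E, G, zeroForm, Pi.single_apply]
  · intro i j hij; rw [hpol]; simp [polar, E, zeroForm]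
  · intro i j hij; rw [hpol]; simp [polar, G, zeroForm]
  · intro i j hij; rw [hpol]; simp [polar, E, G, zeroForm, Pi.single_apply, hij.symm]
  · rw [eq_top_iff]
    intro x _
    obtain ⟨v, rfl⟩ := ψ.toLinearEquiv.surjective x
    have hv : v = ∑ i, v.1.1 i • E i + ∑ i, v.1.2 i • G i := by
      refine Prod.ext (Prod.ext ?_ ?_) (Subsingleton.elim _ _) <;> funext j <;>
        simp [E, G, Prod.fst_sum, Prod.snd_sum, Finset.sum_apply, Pi.single_apply]
    rw [hv, map_add, map_sum, map_sum]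
    refine add_mem (sum_mem fun i _ => ?_) (sum_mem fun i _ => ?_)
    · rw [map_smul]
      exact Submodule.smul_mem _ _ (Submodule.subset_span (Or.inl ⟨i, rfl⟩))
    · rw [map_smul]
      exact Submodule.smul_mem _ _ (Submodule.subset_span (Or.inr ⟨i, rfl⟩))

end Cfsg.Agent.ClassMult
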