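import Cfsg.Agent.ClassMult.Orbit

/-!
The inductive step for the part prime to `p` of the multiplier of `Ω(H ⊥ H ⊥ H ⊥ U)` (helper74).
-/

set_option autoImplicit false

namespace Cfsg.Agent.ClassMult

open Cfsg.Agent.UnitaryOrthogonal QuadraticMap
open Cfsg.Agent.CharB.PSLMult hiding emb
open scoped commutatorElement

universe u v w

variable {F : Type v} [Field F] {U : Type w} [AddCommGroup U] [Module F U] {M : QuadraticForm F U}

local notation "WW" => (F × F) × ((F × F) × U)
local notation "VV" => (F × F) × ((F × F) × ((F × F) × U))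
local notation "QV" => hyp (hyp (hyp M))

theorem stab_decomp (hM : PolarND M) (g : orth QV) (he : g.1 (eVec F WW) = eVec F WW) :
    ∃ (z : WW) (k : orth (hyp (hyp M))), g = eich QV (eVec F WW) (inW z) * emb k := by
  set h := eich QV (eVec F WW) (inW (g.1 (fVec F WW)).2) with hh
  have h1 : (g.1 (fVec F WW)).1.2 = 1 := by
    have := map_polar g (eVec F WW) (fVec F WW)
    rw [he, polar_eVec, polar_eVec] at this
    simpa [fVec] using this
  have h2 : hyp (hyp (hyp M)) (g.1 (fVec F WW)) = 0 := by rw [map_form, hyp_fVec]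
  have hf : h.1 (fVec F WW) = g.1 (fVec F WW) := by
    rw [hh, eich_eVec_inW_apply]
    clear_value h
    clear hh
    generalize g.1 (fVec F WW) = v at h1 h2
    obtain ⟨⟨a, b⟩, y⟩ := v
    simp at h1 h2
    subst h1
    simp [fVec, eVec, inW_apply, Prod.ext_iff]
    linear_combination -h2
  have he' : h.1 (eVec F WW) = eVec F WW := by
    rw [hh, eich_eVec_inW_apply]; simp [eVec]
  obtain ⟨k, hk⟩ := exists_emb_of_fix (g := h⁻¹ * g)
    (by rw [coe_mul_apply, he]; conv_lhs => rw [← he']; rw [coe_inv_apply_apply])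
    (by rw [coe_mul_apply, ← hf, coe_inv_apply_apply])
  exact ⟨(g.1 (fVec F WW)).2, k, by rw [hk, mul_inv_cancel_left]⟩

theorem decomp_apply {g : orth QV} {z : WW} {k : orth (hyp (hyp M))}
    (h : g = eich QV (eVec F WW) (inW z) * emb k) (w : WW) :
    ∃ c : F, g.1 (inW w) = inW (k.1 w) + c • eVec F WW := by
  subst h
  refine ⟨-polar (hyp (hyp M)) z (k.1 w), ?_⟩
  rw [coe_mul_apply, show (emb k).1 (inW w) = inW (k.1 w) from rfl, eich_eVec_inW_apply]
  simp [inW_apply, sub_eq_add_neg, neg_smul]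

theorem decomp_snd {g : orth QV} {z : WW} {k : orth (hyp (hyp M))}
    (h : g = eich QV (eVec F WW) (inW z) * emb k) (w : WW) : (g.1 (inW w)).2 = k.1 w := by
  obtain ⟨c, hc⟩ := decomp_apply h w
  rw [hc]
  simp [inW_apply, eVec]

/-- A `p`-element of `O(W)` inside `Ω(H ⊥ W)` lies in `Ω(W)`. -/
theorem mem_eich_of_emb [Finite F] [Finite U] (hM : PolarND M) (hex : ∃ a, M a ≠ 0)
    (hgen : elemGroup (hyp (hyp M)) = ⊤) {p : ℕ} (hp : p.Prime) [CharP F p]
    {k : orth (hyp (hyp M))} (hk : Pel p k) (hV : emb k ∈ eichGroup QV) :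
    k ∈ eichGroup (hyp (hyp M)) := by
  have hexV : ∃ a, hyp M a ≠ 0 := ⟨((1, 1), 0), by simp⟩
  have hgenV : elemGroup QV = ⊤ := elemGroup_hyp_eq_top hM.hyp.hyp.nonsing hgen
  have hreflW := reflGroup_eq_top_of_elem hM hex hgen
  have hreflV := reflGroup_eq_top_of_elem hM.hyp hexV hgenV
  by_cases h2 : (2 : F) = 0
  · rw [(eichGroup_eq_ker_of_two hM hex hgen h2).1]
    have heq : dickson hM.hyp.hyp hreflW = (dickson hM.hyp.hyp.hyp hreflV).comp emb := by
      have hle : Subgroup.closure (Set.range (rf (hyp (hyp M)))) ≤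
          (dickson hM.hyp.hyp hreflW).eqLocus ((dickson hM.hyp.hyp.hyp hreflV).comp emb) := by
        rw [Subgroup.closure_le]
        rintro _ ⟨a, rfl⟩
        show dickson hM.hyp.hyp hreflW (rf _ a) = dickson hM.hyp.hyp.hyp hreflV (emb (rf _ a))
        by_cases ha : hyp (hyp M) a = 0
        · have h1 : rf (hyp (hyp M)) a = 1 := orth_ext fun x => by simp [rf_apply, ha]
          rw [h1, map_one, map_one, map_one]
        · rw [emb_rf, dickson_rf _ _ ha, dickson_rf _ _ (by simpa using ha)]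
      refine MonoidHom.ext fun x => hle ?_
      have := hreflW
      rw [reflGroup] at this
      rw [this]; trivial
    rw [MonoidHom.mem_ker, heq, MonoidHom.comp_apply]
    exact hom_eq_one_of_mem_eichGroup hM.hyp hexV _ hV
  · have hp2 : p ≠ 2 := fun e => h2 (by
      subst e
      exact_mod_cast CharP.cast_eq_zero F 2)
    have hsq : ∀ x : orth (hyp (hyp M)), x * x ∈ eichGroup (hyp (hyp M)) := by
      intro x
      have hx : x ∈ Subgroup.closure (Set.range (rf (hyp (hyp M)))) := by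
        have := hreflW
        rw [reflGroup] at this
        rw [this]; trivial
      induction hx using Subgroup.closure_induction with
      | mem y hy => obtain ⟨a, rfl⟩ := hy; rw [rf_mul_self]; exact one_mem _
      | one => rw [one_mul]; exact one_mem _
      | mul a b _ _ ha hb =>
          have hc : ⁅a⁻¹, b⁆ ∈ eichGroup (hyp (hyp M)) := by
            rw [← commutator_eq_eichGroup hM hex hgen, _root_.commutator_def]
            exact Subgroup.commutator_mem_commutator (Subgroup.mem_top _) (Subgroup.mem_top _)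
          rw [show a * b * (a * b) = (a * a) * ⁅a⁻¹, b⁆ * (b * b) by
            simp only [commutatorElement_def]; group]
          exact mul_mem (mul_mem ha hc) hb
      | inv a _ ha => rw [← mul_inv_rev]; exact inv_mem ha
    obtain ⟨j, hj⟩ := hk
    obtain ⟨m, hm⟩ := (hp.odd_of_ne_two hp2).pow (n := j)
    have e : k = ((k * k) ^ m)⁻¹ := by
      refine eq_inv_of_mul_eq_one_left ?_
      rw [← pow_two, ← pow_mul, ← pow_succ', ← hm, hj]
    rw [e]
    exact inv_mem (pow_mem (hsq k) m)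

variable {Γ : Type u} [Group Γ] {p : ℕ} (σ : Γ →* eichGroup (hyp (hyp (hyp M))))

theorem coe_fix {g : Γ} (hg : g ∈ stab σ p) : (σ g).1.1 (eVec F WW) = eVec F WW := stab_fix σ hg

/-- The action of the lifted stabiliser on `W`. -/
noncomputable def toW (hM : PolarND M) : stab σ p →* orth (hyp (hyp M)) where
  toFun g := (stab_decomp hM _ (coe_fix σ g.2)).choose_spec.choose
  map_one' := by
    refine orth_ext fun w => ?_
    rw [← decomp_snd (stab_decomp hM _ (coe_fix σ (stab σ p).one_mem)).choose_spec.choose_spec w]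
    simp [inW_apply]
  map_mul' g h := by
    have e := (stab_decomp hM _ (coe_fix σ (g * h).2)).choose_spec.choose_spec
    have eg := (stab_decomp hM _ (coe_fix σ g.2)).choose_spec.choose_spec
    have eh := (stab_decomp hM _ (coe_fix σ h.2)).choose_spec.choose_spec
    refine orth_ext fun w => ?_
    rw [← decomp_snd e w, coe_mul_apply]
    obtain ⟨c, hc⟩ := decomp_apply eh w
    rw [Subgroup.coe_mul, map_mul, Subgroup.coe_mul, coe_mul_apply, hc, map_add, map_smul,
      coe_fix σ g.2, Prod.snd_add, decomp_snd eg]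
    simp [eVec]

theorem toW_spec (hM : PolarND M) (g : stab σ p) :
    ∃ z : WW, (σ g).1 = eich QV (eVec F WW) (inW z) * emb (toW σ hM g) :=
  ⟨_, (stab_decomp hM _ (coe_fix σ g.2)).choose_spec.choose_spec⟩

theorem toW_eq (hM : PolarND M) (g : stab σ p) {k : orth (hyp (hyp M))}
    (h : (σ g).1 = emb k) : toW σ hM g = k := by
  refine orth_ext fun w => ?_
  obtain ⟨z, hz⟩ := toW_spec σ hM g
  rw [← decomp_snd hz w, h]
  rfl

theorem lft_fix (E : PExt p σ) [CharP F p] (u z : WW) :
    lft σ E ((0, 0), u) ((0, 0), z) ∈ stab σ p := by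
  refine Subgroup.subset_closure ⟨pel_lft σ E _ _, ?_⟩
  rw [act_eq σ (map_lft σ E _ _)]
  by_cases h : QV (((0, 0), u) : VV) = 0 ∧ polar QV (((0, 0), u) : VV) ((0, 0), z) = 0
  · rw [eich_apply h.1 h.2]
    simp [eVec, polar_hyp]
  · rw [eich, dif_neg h]
    rfl

/-- The lifts of the transformations at `eVec`. -/
noncomputable def uni (E : PExt p σ) [CharP F p] : Multiplicative WW →* Γ where
  toFun z := lft σ E (eVec F WW) (inW z.toAdd)
  map_one' := by
    show lft σ E (eVec F WW) (inW (0 : WW)) = 1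
    refine E.uniq (pel_lft σ E _ _) pel_one (Subtype.ext ?_)
    rw [map_lft, map_one, map_zero, eich_zero]
    rfl
  map_mul' a b := by
    have hc : Commute (σ (lft σ E (eVec F WW) (inW a.toAdd)))
        (σ (lft σ E (eVec F WW) (inW b.toAdd))) := Subtype.ext (by
      show (σ _).1 * (σ _).1 = (σ _).1 * (σ _).1
      rw [map_lft, map_lft, eich_mul hyp_eVec (polar_eVec_inW _) (polar_eVec_inW _),
        eich_mul hyp_eVec (polar_eVec_inW _) (polar_eVec_inW _), add_comm])
    show lft σ E (eVec F WW) (inW (a.toAdd + b.toAdd)) = _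
    refine E.uniq (pel_lft σ E _ _) ((pel_lft σ E _ _).mul (pel_lft σ E _ _)
      (E.commute (pel_lft σ E _ _) (pel_lft σ E _ _) hc)) (Subtype.ext ?_)
    rw [map_mul, Subgroup.coe_mul, map_lft, map_lft, map_lft,
      eich_mul hyp_eVec (polar_eVec_inW _) (polar_eVec_inW _), map_add]

theorem uni_mem (E : PExt p σ) [CharP F p] (z : Multiplicative WW) : uni σ E z ∈ stab σ p := by
  refine Subgroup.subset_closure ⟨pel_lft σ E _ _, ?_⟩
  show act σ (lft σ E _ _) _ = _
  rw [act_eq σ (map_lft σ E _ _), eich_eVec_inW_apply]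
  simp [eVec]

/-- **The inductive step.** -/
theorem pBound_step [Finite F] [Finite U] (hM : PolarND M) (hex : ∃ a, M a ≠ 0)
    (hgenW : elemGroup (hyp (hyp M)) = ⊤) (hsurj : ∀ c : F, ∃ z, hyp (hyp M) z = c)
    {p d : ℕ} [CharP F p] (h : PBound.{u} p d (eichGroup (hyp (hyp M)))) :
    PBound.{u} p d (eichGroup (hyp (hyp (hyp M)))) := by
  intro Γ _ _ σ E hgen
  have hle := ker_le_stab σ hM E hsurj hgen
  let S := stab σ p
  have hW : ∀ g : S, toW σ hM g ∈ eichGroup (hyp (hyp M)) := by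
    rintro ⟨g, hg⟩
    induction hg using Subgroup.closure_induction with
    | mem x hx =>
        obtain ⟨z, hz⟩ := toW_spec σ hM ⟨x, Subgroup.subset_closure hx⟩
        obtain ⟨j, hj⟩ := hx.1
        refine mem_eich_of_emb hM hex hgenW E.prime ⟨j, ?_⟩ ?_
        · rw [← map_pow, show (⟨x, Subgroup.subset_closure hx⟩ : S) ^ p ^ j = 1 from Subtype.ext hj,
            map_one]
        · rw [← inv_mul_cancel_left (eich QV (eVec F WW) (inW z)) (emb _), ← hz]
          exact mul_mem (inv_mem (eich_mem_eichGroup _ _)) (σ x).2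
    | one => exact (map_one (toW σ hM (p := p))).symm ▸ one_mem _
    | mul a b ha' hb' ha hb =>
        exact (map_mul (toW σ hM (p := p)) ⟨a, ha'⟩ ⟨b, hb'⟩).symm ▸ mul_mem ha hb
    | inv a ha' ha => exact (map_inv (toW σ hM (p := p)) ⟨a, ha'⟩).symm ▸ inv_mem ha
  let τ : S →* eichGroup (hyp (hyp M)) := (toW σ hM).codRestrict _ hW
  let ν : Multiplicative WW →* S := (uni σ E).codRestrict _ (uni_mem σ E)
  have hν : ∀ z, toW σ hM (ν z) = 1 := fun z => by
    refine orth_ext fun w => ?_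
    obtain ⟨y, hy⟩ := toW_spec σ hM (ν z)
    rw [← decomp_snd hy w, show (σ ((ν z : S) : Γ)).1 = eich QV (eVec F WW) (inW z.toAdd) from
      map_lft σ E _ _, eich_eVec_inW_apply]
    simp [inW_apply, eVec]
  haveI hN : ν.range.Normal := ⟨by
    rintro _ ⟨z, rfl⟩ ⟨g, hg⟩
    obtain ⟨y, hy⟩ := toW_spec σ hM ⟨g, hg⟩
    obtain ⟨c, hc⟩ := decomp_apply hy z.toAdd
    refine ⟨Multiplicative.ofAdd ((toW σ hM ⟨g, hg⟩).1 z.toAdd), Subtype.ext (E.uniq
      (pel_lft σ E _ _) ((pel_lft σ E _ _).conj g) (Subtype.ext ?_))⟩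
    show (σ (lft σ E _ _)).1 = (σ (g * lft σ E _ _ * g⁻¹)).1
    rw [map_lft, map_mul, map_mul, map_inv, Subgroup.coe_mul, Subgroup.coe_mul, Subgroup.coe_inv,
      map_lft, conj_eich, show (σ g).1.1 (eVec F WW) = eVec F WW from coe_fix σ hg, hc,
      eich_add_smul hyp_eVec (polar_eVec_inW _)]
    rfl⟩
  have hτν : ν.range ≤ τ.ker := by
    rintro _ ⟨z, rfl⟩
    exact Subtype.ext (hν z)
  let τb : S ⧸ ν.range →* eichGroup (hyp (hyp M)) := QuotientGroup.lift ν.range τ hτν
  let K : Subgroup S := σ.ker.subgroupOf S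
  have hKτ : ∀ x : K, (QuotientGroup.mk' ν.range) x.1 ∈ τb.ker := fun x => by
    rw [MonoidHom.mem_ker, QuotientGroup.mk'_apply, QuotientGroup.lift_mk]
    refine Subtype.ext (toW_eq σ hM x.1 ?_)
    rw [show σ (x.1 : Γ) = 1 from x.2]
    exact (map_one emb).symm
  let ψ : K →* τb.ker := ((QuotientGroup.mk' ν.range).comp K.subtype).codRestrict _ hKτ
  have hψi : Function.Injective ψ := by
    rw [injective_iff_map_eq_one]
    intro x hx
    have h1 : (x.1 : S) ∈ ν.range := (QuotientGroup.eq_one_iff _).1 (congrArg Subtype.val hx)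
    obtain ⟨z, hz⟩ := h1
    refine Subtype.ext (Subtype.ext (E.ker_pel x.2 ?_))
    rw [← hz]
    exact pel_lft σ E _ _
  have hψs : Function.Surjective ψ := by
    rintro ⟨y, hy⟩
    obtain ⟨g, rfl⟩ := QuotientGroup.mk_surjective y
    have hg : toW σ hM g = 1 := congrArg Subtype.val hy
    obtain ⟨z, hz⟩ := toW_spec σ hM g
    rw [hg, map_one, mul_one] at hz
    have hzmem : (ν (Multiplicative.ofAdd z))⁻¹ * g ∈ K := by
      rw [Subgroup.mem_subgroupOf, MonoidHom.mem_ker]
      refine Subtype.ext ?_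
      rw [Subgroup.coe_mul, Subgroup.coe_inv, map_mul, map_inv, Subgroup.coe_mul, Subgroup.coe_inv,
        hz, show (σ ((ν (Multiplicative.ofAdd z) : S) : Γ)).1 = eich QV (eVec F WW) (inW z) from
          map_lft σ E _ _, inv_mul_cancel]
      rfl
    refine ⟨⟨_, hzmem⟩, Subtype.ext ?_⟩
    show (QuotientGroup.mk ((ν (Multiplicative.ofAdd z))⁻¹ * g) : S ⧸ ν.range) = _
    refine QuotientGroup.eq.2 ?_
    rw [mul_inv_rev, inv_inv]
    have := hN.conj_mem (ν (Multiplicative.ofAdd z)) ⟨_, rfl⟩ g⁻¹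
    rwa [inv_inv] at this
  have hτs : Function.Surjective τb := by
    intro y
    have hle2 : eichGroup (hyp (hyp M)) ≤ τb.range.map (eichGroup (hyp (hyp M))).subtype := by
      refine (Subgroup.closure_le _).2 ?_
      rintro _ ⟨u, z, hu, hz, rfl⟩
      refine ⟨_, ⟨QuotientGroup.mk ⟨_, lft_fix σ E u z⟩, rfl⟩, ?_⟩
      refine toW_eq σ hM ⟨_, lft_fix σ E u z⟩ ?_
      rw [map_lft, emb_eich hu hz]
    obtain ⟨y', ⟨x, hx⟩, e⟩ := hle2 y.2
    exact ⟨x, hx.trans (Subtype.ext e)⟩
  have hc : τb.ker ≤ Subgroup.center (S ⧸ ν.range) := fun y hy => by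
    obtain ⟨x, hx⟩ := hψs ⟨y, hy⟩
    rw [Subgroup.mem_center_iff]
    intro t
    obtain ⟨t, rfl⟩ := QuotientGroup.mk_surjective t
    have hy' : y = QuotientGroup.mk x.1 := (congrArg Subtype.val hx).symm
    rw [hy', ← QuotientGroup.mk_mul, ← QuotientGroup.mk_mul]
    congr 1
    exact Subtype.ext (Subgroup.mem_center_iff.1 (E.central x.2) (t : Γ))
  have hdvd : Nat.card τb.ker ∣ Nat.card σ.ker := (Subgroup.card_dvd_of_surjective ψ hψs).trans
    (Nat.card_congr (Subgroup.subgroupOfEquivOfLe hle).toEquiv).dvd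
  have hgenΔ : Subgroup.closure {g : S ⧸ ν.range | Pel p g} = ⊤ := by
    rw [eq_top_iff]
    rintro y -
    obtain ⟨⟨g, hg⟩, rfl⟩ := QuotientGroup.mk_surjective y
    induction hg using Subgroup.closure_induction with
    | mem x hx =>
        obtain ⟨j, hj⟩ := hx.1
        refine Subgroup.subset_closure ⟨j, ?_⟩
        rw [← QuotientGroup.mk_pow,
          show (⟨x, Subgroup.subset_closure hx⟩ : S) ^ p ^ j = 1 from Subtype.ext hj,
          QuotientGroup.mk_one]
    | one => exact one_mem _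
    | mul a b ha' hb' ha hb => exact mul_mem ha hb
    | inv a ha' ha => exact inv_mem ha
  have hΔ := h (S ⧸ ν.range) τb ⟨E.prime, hτs, hc, fun hd => E.coprime (hd.trans hdvd)⟩ hgenΔ
  calc Nat.card σ.ker = Nat.card K :=
        (Nat.card_congr (Subgroup.subgroupOfEquivOfLe hle).toEquiv).symm
    _ ≤ Nat.card τb.ker := Nat.card_le_card_of_injective ψ hψi
    _ ≤ d := hΔ

end Cfsg.Agent.ClassMult
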